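import Mathlib.RingTheory.Etale.Kaehler
import Mathlib.RingTheory.Smooth.StandardSmooth
import Mathlib.RingTheory.Smooth.Flat
import Mathlib.RingTheory.Smooth.StandardSmoothCotangent
import Mathlib.RingTheory.RingHom.LocallyStandardSmooth
import Mathlib.RingTheory.Flat.FaithfullyFlat.Algebra
import Mathlib.RingTheory.Etale.Descent

/-!
# Smoothness descends along faithfully flat étale maps on the source (rings)
-/

set_option autoImplicit false

universe u

open TensorProduct MvPolynomial

namespace Groth.AlgStBasic.SmoothDescent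

/-- An étale algebra over a quotient lifts to an étale algebra. -/
theorem exists_etale_lift {P B C : Type u} [CommRing P] [CommRing B] [CommRing C] [Algebra P B]
    [Algebra B C] [Algebra P C] [IsScalarTower P B C]
    (hπ : Function.Surjective (algebraMap P B)) [Algebra.Etale B C] :
    ∃ (Q : Type u) (_ : CommRing Q) (_ : Algebra P Q) (π : Q →ₐ[P] C),
      Algebra.Etale P Q ∧ Function.Surjective π ∧
        RingHom.ker π.toRingHom = (RingHom.ker (algebraMap P B)).map (algebraMap P Q) := by
  obtain ⟨⟨ι, σ, _, _, M, hdim⟩⟩ :=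
    (Algebra.Etale.iff_isStandardSmoothOfRelativeDimension_zero (R := B) (S := C)).1 ‹_›
  have hbij : Function.Bijective M.map := by
    refine (Nat.bijective_iff_injective_and_card M.map).2 ⟨M.map_inj, ?_⟩
    have h₁ := M.card_relations_le_card_vars_of_isFinite
    have h₂ : Nat.card ι - Nat.card σ = 0 := hdim
    omega
  classical
  choose F hF using fun j => MvPolynomial.map_surjective (algebraMap P B) hπ (M.relation j)
  let Q₀ := MvPolynomial ι P ⧸ Ideal.span (Set.range F)
  let N : Algebra.PreSubmersivePresentation P Q₀ ι σ :=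
    { __ := Algebra.Presentation.naive (v := F)
      map := M.map
      map_inj := M.map_inj }
  let g := N.jacobian
  let Q := Localization.Away g
  let K := (Algebra.PreSubmersivePresentation.localizationAway Q g).comp N
  have hQ : Algebra.Etale P Q := by
    refine Algebra.Etale.iff_isStandardSmoothOfRelativeDimension_zero.2
      ⟨Unit ⊕ ι, Unit ⊕ σ, inferInstance, inferInstance, ⟨K, ?_⟩, ?_⟩
    · simp only [K, Algebra.PreSubmersivePresentation.comp_jacobian_eq_jacobian_smul_jacobian,
        Algebra.PreSubmersivePresentation.localizationAway_jacobian, Algebra.smul_def]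
      exact (IsLocalization.Away.algebraMap_isUnit g).mul (IsLocalization.Away.algebraMap_isUnit g)
    · show Nat.card (Unit ⊕ ι) - Nat.card (Unit ⊕ σ) = 0
      rw [Nat.card_congr (Equiv.sumCongr (Equiv.refl Unit) (Equiv.ofBijective M.map hbij)), Nat.sub_self]
  let φ : MvPolynomial ι P →ₐ[P] C := aeval M.val
  have hφ : ∀ p, φ p = aeval M.val (MvPolynomial.map (algebraMap P B) p) := fun p =>
    (aeval_map_algebraMap B M.val p).symm
  let π₀ : Q₀ →ₐ[P] C := Ideal.Quotient.liftₐ _ φ (fun x hx => by
    induction hx using Submodule.span_induction with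
    | mem x hx =>
      obtain ⟨j, rfl⟩ := hx
      rw [hφ, hF]
      exact M.aeval_val_relation j
    | zero => simp
    | add x y _ _ h₁ h₂ => simp [h₁, h₂]
    | smul a x _ h => simp [h])
  have hg : IsUnit (π₀ g) := by
    cases nonempty_fintype σ
    have : π₀ g = M.jacobian := by
      simp only [g, Algebra.PreSubmersivePresentation.jacobian_eq_jacobiMatrix_det]
      have e : (M.toPreSubmersivePresentation.jacobiMatrix) =
          (MvPolynomial.map (algebraMap P B)).mapMatrix N.jacobiMatrix := by
        ext i j : 1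
        simp [Algebra.PreSubmersivePresentation.jacobiMatrix_apply, N, ← hF, pderiv_map]
      rw [e, ← RingHom.map_det, Algebra.Generators.algebraMap_apply, Algebra.Generators.algebraMap_apply]
      show π₀ (aeval N.val N.jacobiMatrix.det) = aeval M.val _
      rw [← hφ]
      exact DFunLike.congr_fun (algHom_ext (f := π₀.comp (aeval N.val)) (g := φ) fun i => by
        simp [N, π₀, φ, Algebra.Presentation.naive, Algebra.Generators.naive]
        exact aeval_X _ _) _
    rw [this]
    exact M.jacobian_isUnit
  have hu : ∀ y : Submonoid.powers g, IsUnit (π₀ y) := fun ⟨_, k, rfl⟩ => by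
    simp only [map_pow]; exact hg.pow k
  let π : Q →ₐ[P] C := IsLocalization.liftAlgHom (M := Submonoid.powers g) hu
  have hπs : Function.Surjective π := by
    intro c
    obtain ⟨p, hp⟩ := MvPolynomial.map_surjective (algebraMap P B) hπ (M.σ c)
    refine ⟨algebraMap Q₀ Q (Ideal.Quotient.mk _ p), ?_⟩
    rw [IsLocalization.coe_liftAlgHom, IsLocalization.lift_eq]
    show φ p = c
    rw [hφ, hp, M.aeval_val_σ]
  refine ⟨Q, inferInstance, inferInstance, π, hQ, hπs, ?_⟩
  let J := (RingHom.ker (algebraMap P B)).map (algebraMap P Q)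
  refine le_antisymm (fun q hq => ?_) ?_
  swap
  · rw [Ideal.map_le_iff_le_comap]
    intro p hp
    have h0 : algebraMap P B p = 0 := hp
    show π (algebraMap P Q p) = 0
    rw [AlgHom.commutes, IsScalarTower.algebraMap_apply P B C, h0, map_zero]
  let ψ : B →+* Q ⧸ J := (Ideal.Quotient.lift (RingHom.ker (algebraMap P B))
    ((Ideal.Quotient.mk J).comp (algebraMap P Q)) (fun p hp =>
      Ideal.Quotient.eq_zero_iff_mem.2 (Ideal.mem_map_of_mem _ hp))).comp
    (RingHom.quotientKerEquivOfSurjective hπ).symm.toRingHom
  have hψ : ∀ p, ψ (algebraMap P B p) = Ideal.Quotient.mk J (algebraMap P Q p) := fun p => by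
    have : (RingHom.quotientKerEquivOfSurjective hπ).symm (algebraMap P B p) = Ideal.Quotient.mk _ p :=
      (RingEquiv.symm_apply_eq _).2 rfl
    simp [ψ, this]
  let v : ι → Q ⧸ J := fun i =>
    Ideal.Quotient.mk J (algebraMap Q₀ Q (Ideal.Quotient.mk _ (X i)))
  let η : MvPolynomial ι B →+* Q ⧸ J := eval₂Hom ψ v
  have hη : ∀ p : MvPolynomial ι P, η (MvPolynomial.map (algebraMap P B) p) =
      Ideal.Quotient.mk J (algebraMap Q₀ Q (Ideal.Quotient.mk _ p)) := by
    intro p
    exact DFunLike.congr_fun (MvPolynomial.ringHom_ext (f := η.comp (MvPolynomial.map (algebraMap P B)))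
      (g := (Ideal.Quotient.mk J).comp ((algebraMap Q₀ Q).comp (Ideal.Quotient.mk _)))
      (fun r => by
        simp [η, hψ]
        rfl) (fun i => by simp [η, v])) p
  have hker : ∀ f, aeval M.val f = 0 → η f = 0 := by
    intro f hf
    have : f ∈ Ideal.span (Set.range M.relation) := by
      rw [M.span_range_relation_eq_ker, Algebra.Generators.ker_eq_ker_aeval_val]; exact hf
    clear hf
    induction this using Submodule.span_induction with
    | mem x hx =>
      obtain ⟨j, rfl⟩ := hx
      rw [← hF, hη, show Ideal.Quotient.mk (Ideal.span (Set.range F)) (F j) = 0 from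
        Ideal.Quotient.eq_zero_iff_mem.2 (Ideal.subset_span ⟨j, rfl⟩)]
      simp
    | zero => simp
    | add x y _ _ h₁ h₂ => simp [h₁, h₂]
    | smul a x _ h => simp [h]
  obtain ⟨⟨q₀, s⟩, hs⟩ := IsLocalization.surj (Submonoid.powers g) q
  obtain ⟨p, rfl⟩ := Ideal.Quotient.mk_surjective q₀
  have h1 : φ p = 0 := by
    have e := congrArg π hs
    simp only [map_mul, show π q = 0 from hq, zero_mul] at e
    rw [IsLocalization.coe_liftAlgHom, IsLocalization.lift_eq] at e
    exact e.symm
  have h2 := hker _ ((hφ p).symm.trans h1)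
  rw [hη, ← hs, map_mul, Ideal.Quotient.eq_zero_iff_mem.symm] at *
  exact (IsUnit.mul_left_eq_zero ((IsLocalization.map_units Q s).map (Ideal.Quotient.mk J))).1 h2

variable (A B C : Type u) [CommRing A] [CommRing B] [CommRing C] [Algebra A B] [Algebra A C]
  [Algebra B C] [IsScalarTower A B C]

theorem subsingleton_h1Cotangent [Algebra.Etale B C] [Module.FaithfullyFlat B C]
    [Algebra.FormallySmooth A C] : Subsingleton (Algebra.H1Cotangent A B) := by
  let E : Algebra.Extension A B := (Algebra.Generators.self A B).toExtension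
  have : Algebra.FormallySmooth A E.Ring := (inferInstance : Algebra.FormallySmooth A (MvPolynomial B A))
  letI : Algebra E.Ring C := ((algebraMap B C).comp (algebraMap E.Ring B)).toAlgebra
  haveI : IsScalarTower E.Ring B C := .of_algebraMap_eq' rfl
  haveI : IsScalarTower A E.Ring C := .of_algebraMap_eq fun a => by
    rw [RingHom.algebraMap_toAlgebra, RingHom.comp_apply, ← IsScalarTower.algebraMap_apply A E.Ring B,
      ← IsScalarTower.algebraMap_apply]
  obtain ⟨Q, _, _, π, _, hπs, hker⟩ := exists_etale_lift (P := E.Ring) (C := C) E.algebraMap_surjective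
  letI : Algebra A Q := ((algebraMap E.Ring Q).comp (algebraMap A E.Ring)).toAlgebra
  haveI : IsScalarTower A E.Ring Q := .of_algebraMap_eq' rfl
  let E' : Algebra.Extension A C := .ofSurjective (π.restrictScalars A) hπs
  let f : E.Hom E' :=
    { toRingHom := algebraMap E.Ring Q
      toRingHom_algebraMap := fun _ => rfl
      algebraMap_toRingHom := fun x => (π.commutes x).trans rfl }
  letI : Algebra E.Ring E'.Ring := ‹Algebra E.Ring Q›
  have H₁ : f.toRingHom.FormallyEtale :=
    RingHom.formallyEtale_algebraMap.2 (inferInstanceAs (Algebra.FormallyEtale E.Ring Q))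
  have hspan : E'.ker = (E.ker).map (algebraMap E.Ring Q) := hker
  have H₂ : Function.Bijective ((f.mapKer rfl).liftBaseChange E'.Ring) := by
    haveI : Module.Flat E.Ring E'.Ring := inferInstanceAs (Module.Flat E.Ring Q)
    constructor
    · have h0 := Module.Flat.lTensor_preserves_injective_linearMap (M := E'.Ring) E.ker.subtype
        Subtype.val_injective
      refine Function.Injective.of_comp (f := (Subtype.val : E'.ker → E'.Ring)) ?_
      convert (TensorProduct.rid E.Ring E'.Ring).injective.comp h0 using 1
      ext x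
      induction x with
      | zero => simp
      | add x y h₁ h₂ => simp only [Function.comp_apply, map_add, Submodule.coe_add] at *; rw [h₁, h₂]
      | tmul q i => simp [Algebra.smul_def, mul_comm]; rfl
    · rintro ⟨q, hq⟩
      rw [hspan] at hq
      have : q ∈ Submodule.span Q (algebraMap E.Ring Q '' E.ker) := hq
      induction this using Submodule.span_induction with
      | mem x hx =>
        obtain ⟨i, hi, rfl⟩ := hx
        exact ⟨1 ⊗ₜ ⟨i, hi⟩, Subtype.ext (by simp; rfl)⟩
      | zero => exact ⟨0, Subtype.ext (by simp; rfl)⟩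
      | add x y hx hy h₁ h₂ =>
        obtain ⟨a, ha⟩ := h₁ (hspan ▸ hx) hx
        obtain ⟨b, hb⟩ := h₂ (hspan ▸ hy) hy
        exact ⟨a + b, by rw [map_add, ha, hb]; rfl⟩
      | smul r x hx h =>
        obtain ⟨a, ha⟩ := h (hspan ▸ hx) hx
        let r' : E'.Ring := r
        exact ⟨r' • a, by rw [map_smul, ha]; rfl⟩
  have : Algebra.FormallySmooth A E'.Ring := Algebra.FormallySmooth.comp A E.Ring Q
  have : Subsingleton E'.H1Cotangent :=
    (Algebra.Extension.equivH1CotangentOfFormallySmooth E').subsingleton
  have : Subsingleton (C ⊗[B] Algebra.H1Cotangent A B) :=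
    (Algebra.Extension.tensorH1CotangentOfFormallyEtale f rfl H₁ H₂).subsingleton
  exact Module.FaithfullyFlat.lTensor_reflects_triviality B C _

theorem smooth_of_etale_faithfullyFlat [Algebra.FinitePresentation A B] [Algebra.Etale B C]
    [Module.FaithfullyFlat B C] [Algebra.Smooth A C] : Algebra.Smooth A B := by
  refine ⟨?_, ‹_›⟩
  rw [Algebra.formallySmooth_iff]
  refine ⟨?_, subsingleton_h1Cotangent A B C⟩
  have : Module.Flat C (C ⊗[B] Ω[B⁄A]) :=
    .of_linearEquiv (KaehlerDifferential.tensorKaehlerEquivOfFormallyEtale A B C)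
  have : Module.Flat B Ω[B⁄A] := Module.Flat.of_flat_tensorProduct _ _ C
  exact Module.Flat.projective_of_finitePresentation

end Groth.AlgStBasic.SmoothDescent
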