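import Groth.Agent.AlgStBasic.Rep
import Groth.Agent.StkBase.Descent2

/-!
# Functors representable by algebraic spaces are faithful; monomorphisms are fully faithful
-/

set_option autoImplicit false
set_option backward.isDefEq.respectTransparency false
set_option backward.isDefEq.respectTransparency.types false

universe w₁ v₁ w₂ v₂ v₄ u₄ v₃ u₃ v u₀ u

open CategoryTheory CategoryTheory.Limits AlgebraicGeometry Opposite

namespace Groth.StkBase

variable {C : Type u₀} [Category.{v} C] {𝒳 : BasedCategory.{v₃, u₃} C} {𝒴 : BasedCategory.{v₄, u₄} C}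

theorem faithful_of_fp_overCat_setoid (hX : FibCat.IsFibGrpd 𝒳.p) (hY : FibCat.IsFibGrpd 𝒴.p)
    (f : 𝒳 ⥤ᵇ 𝒴)
    (h : ∀ (U : C) (y : FibCat.overCat U ⥤ᵇ 𝒴), FibCat.IsFibSetoid (FibCat.fp y f).p) :
    f.toFunctor.Faithful := by
  refine faithful_of_vert hX hY f fun a b χ χ' hχ hχ' e => ?_
  have hU : 𝒴.p.obj (f.obj b) = 𝒳.p.obj a := (f.w_obj b).trans hχ.obj_eq.symm
  obtain ⟨i, hi⟩ := overFunctor_eval hY (f.obj b) hU
  let y := overFunctor hY (f.obj b) hU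
  have := hχ.isIso hX
  let A : (FibCat.fp y f).obj := fpMk (idObj _) a (i ≪≫ (asIso (f.map χ)).symm)
    (hi.comp (IsVert.inv (φ := asIso (f.map χ)) (isVert_map hχ)))
  let B : (FibCat.fp y f).obj := fpMk (idObj _) b i hi
  let u : A ⟶ B := fpHom (𝟙 _) χ (by simp [A, B, fpMk])
  let u' : A ⟶ B := fpHom (𝟙 _) χ' (by simp [A, B, fpMk, ← e])
  have := ((h _ y).2 ((FibCat.fp y f).p.obj A) ⟨A, rfl⟩ ⟨B, rfl⟩).elim
    ⟨u, ((isVert_fp_iff u).2 (isVert_id _)).isHomLift rfl⟩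
    ⟨u', ((isVert_fp_iff u').2 (isVert_id _)).isHomLift rfl⟩
  exact congrArg (fun t => t.hom.snd) (congrArg Subtype.val this)

theorem full_of_fp_fst_full (hX : FibCat.IsFibGrpd 𝒳.p) (hY : FibCat.IsFibGrpd 𝒴.p) (f : 𝒳 ⥤ᵇ 𝒴)
    (h : ∀ (U : C) (y : FibCat.overCat U ⥤ᵇ 𝒴), (FibCat.fpFst y f).toFunctor.Full) :
    f.toFunctor.Full := by
  refine ⟨fun {a b} ψ => ?_⟩
  obtain ⟨b', l, hb', hl⟩ := exists_lift' hX (x := b)
    (eqToHom (f.w_obj a).symm ≫ 𝒴.p.map ψ ≫ eqToHom (f.w_obj b))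
  have hg : eqToHom ((f.w_obj a).trans (hb'.symm.trans (f.w_obj b').symm)) ≫ 𝒴.p.map (f.map l)
      = 𝒴.p.map ψ := by simp [map_map, hl]
  let ψ' := factor hY (f.map l) ψ _ hg
  have hψ' : IsVert 𝒴.p ψ' := ⟨_, factor_map hY _ _ _ hg⟩
  have := hψ'.isIso hY
  have hU : 𝒴.p.obj (f.obj b') = 𝒳.p.obj a := (f.w_obj b').trans hb'
  obtain ⟨i, hi⟩ := overFunctor_eval hY (f.obj b') hU
  let y := overFunctor hY (f.obj b') hU
  let A : (FibCat.fp y f).obj := fpMk (idObj _) a (i ≪≫ (asIso ψ').symm)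
    (hi.comp (IsVert.inv (φ := asIso ψ') hψ'))
  let B : (FibCat.fp y f).obj := fpMk (idObj _) b' i hi
  obtain ⟨m, hm⟩ := (h _ y).map_surjective (X := A) (Y := B) (𝟙 (idObj _))
  have hm' : m.hom.fst = 𝟙 _ := hm
  refine ⟨m.hom.snd ≫ l, ?_⟩
  have w := m.hom.w
  rw [hm'] at w
  simp [A, B, fpMk] at w
  have w' : f.map m.hom.snd = ψ' := by
    have := congrArg (fun t => ψ' ≫ i.inv ≫ t) w
    simp at this
    exact this.symm
  rw [Functor.map_comp, w']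
  exact factor_comp hY _ _ _ hg

end Groth.StkBase

namespace Groth.AlgStBasic

open Groth.StkBase

variable {S : Scheme.{u}}
variable {𝒳 : BasedCategory.{v₁, w₁} (Over S)} {𝒴 : BasedCategory.{v₂, w₂} (Over S)}

theorem faithful_of_repByAlgSp1 (h𝒳 : FibCat.IsFibGrpd 𝒳.p) (h𝒴 : FibCat.IsFibGrpd 𝒴.p)
    (f : 𝒳 ⥤ᵇ 𝒴) (hf : AlgSt.RepByAlgSp1 f) : f.toFunctor.Faithful :=
  faithful_of_fp_overCat_setoid h𝒳 h𝒴 f fun U y => isFibSetoid_of_repByAlgSp (hf U y)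

theorem injective_app_of_mono {F G : AlgSp.Sp S} (a : F ⟶ G) [Mono a] (T : (Over S)ᵒᵖ) :
    Function.Injective (a.hom.app T) := by
  have : Mono ((sheafToPresheaf (AlgSp.J S) (Type (u + 1))).map a) := inferInstance
  have : Mono (a.hom.app T) := (NatTrans.mono_iff_mono_app _).1 this T
  exact (mono_iff_injective _).1 this

theorem full_of_mono_spMapOfOver {F : AlgSp.Sp S} {U : Over S} (Φ : AlgSt.ofSp F ⥤ᵇ FibCat.overCat U)
    (h : Mono (AlgSt.spMapOfOver Φ)) : Φ.toFunctor.Full := by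
  refine ⟨fun {a b} ψ => ?_⟩
  let g : a.base ⟶ b.base := eqToHom (Φ.w_obj a).symm ≫ ψ.left ≫ eqToHom (Φ.w_obj b)
  have hs : AlgSt.secHom Φ a = g ≫ AlgSt.secHom Φ b := by
    have := Over.w ψ
    simp only [AlgSt.secHom, g, Category.assoc]
    rw [← this]
    congr 1
    erw [eqToHom_trans_assoc, eqToHom_refl, Category.id_comp]
  have hsec : F.obj.map g.op b.sec = a.sec := by
    apply injective_app_of_mono (AlgSt.spMapOfOver Φ)
    rw [AlgSt.spMapOfOver_app, AlgSt.spMapOfOver_app]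
    apply ULift.ext
    exact ((AlgSt.secHom_comp Φ (eltHom (a := ⟨a.base, F.obj.map g.op b.sec⟩) (b := b) g rfl)).symm.trans hs.symm)
  refine ⟨eltHom g hsec, Over.OverMorphism.ext ?_⟩
  have h1 : (Φ.map (eltHom g hsec)).left
      = eqToHom (Φ.w_obj a) ≫ g ≫ eqToHom (Φ.w_obj b).symm := map_map Φ (eltHom g hsec)
  rw [h1]
  simp [g]


theorem fullyFaithful_of_isMono (h𝒳 : FibCat.IsFibGrpd 𝒳.p) (h𝒴 : FibCat.IsFibGrpd 𝒴.p)
    (f : 𝒳 ⥤ᵇ 𝒴) (hf : AlgSt.IsMono f) : f.toFunctor.Full ∧ f.toFunctor.Faithful := by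
  refine ⟨full_of_fp_fst_full h𝒳 h𝒴 f fun U y => ?_, faithful_of_repByAlgSp1 h𝒳 h𝒴 f (repWith_repByAlgSp1 hf)⟩
  obtain ⟨F, e, he, hm⟩ := hf U y
  have := full_of_mono_spMapOfOver (BasedFunctor.comp e (FibCat.fpFst y f)) hm
  have := isEquivalence_of_isEquivOver he
  have : (e.toFunctor ⋙ (FibCat.fpFst y f).toFunctor).Full :=
    full_of_mono_spMapOfOver (BasedFunctor.comp e (FibCat.fpFst y f)) hm
  let E := e.toFunctor.asEquivalence
  exact Functor.Full.of_iso ((Functor.associator E.inverse E.functor (FibCat.fpFst y f).toFunctor).symm ≪≫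
    Functor.isoWhiskerRight E.counitIso _ ≪≫ Functor.leftUnitor _ :
    E.inverse ⋙ (e.toFunctor ⋙ (FibCat.fpFst y f).toFunctor) ≅ _)

end Groth.AlgStBasic
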