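import Groth.Agent.AlgStBasic.LocalLift
import Groth.Agent.AlgStBasic.Faithful
import Groth.Agent.AlgSp2.Decency
import Mathlib.AlgebraicGeometry.Morphisms.FlatMono
import Mathlib.AlgebraicGeometry.Morphisms.FormallyUnramified

/-!
# Monomorphisms of algebraic stacks
-/

set_option autoImplicit false
set_option backward.isDefEq.respectTransparency false
set_option backward.isDefEq.respectTransparency.types false

universe u

open CategoryTheory CategoryTheory.Limits AlgebraicGeometry Opposite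
open Groth.StkBase Groth.AlgSpBasic

namespace Groth.AlgStBasic

variable {S : Scheme.{u}} {𝒳 𝒴 𝒵 𝒲 : AlgSt.Cat S}

section Spaces

theorem stableBaseChange_mono :
    StableBaseChange (MorphismProperty.monomorphisms (AlgSp.Sp S)) :=
  fun _ _ _ _ _ _ _ _ _ _ _ _ sq h => MorphismProperty.of_isPullback sq h

theorem stableComp_mono : StableComp (MorphismProperty.monomorphisms (AlgSp.Sp S)) :=
  fun _ _ _ _ _ _ a b (ha : Mono a) (hb : Mono b) => (mono_comp a b : Mono (a ≫ b))

theorem cancelRight_mono : CancelRight (MorphismProperty.monomorphisms (AlgSp.Sp S)) :=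
  fun _ _ _ _ _ _ a b (h : Mono (a ≫ b)) => (mono_of_mono a b : Mono a)

theorem mono_of_injective_app {F G : AlgSp.Sp S} (a : F ⟶ G)
    (h : ∀ T, Function.Injective (a.hom.app T)) : Mono a := by
  have h₁ : ∀ T, Mono (a.hom.app T) := fun T => (mono_iff_injective _).2 (h T)
  have h₂ : Mono ((sheafToPresheaf (AlgSp.J S) (Type (u + 1))).map a) :=
    NatTrans.mono_of_mono_app a.hom
  exact (sheafToPresheaf (AlgSp.J S) (Type (u + 1))).mono_of_mono_map h₂

/-- Monomorphisms of sheaves descend along locally surjective maps. -/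
theorem mono_of_isPullback_of_isLocallySurjective {X Y Y' Q : AlgSp.Sp S} {π : X ⟶ Y} {q : Y' ⟶ Y}
    {fst : Q ⟶ X} {snd : Q ⟶ Y'} (sq : IsPullback fst snd π q) [Sheaf.IsLocallySurjective q]
    [Mono snd] : Mono π := by
  refine mono_of_injective_app π fun T x y hxy => ?_
  obtain ⟨U⟩ := T
  have hs : Presieve.IsSheaf (AlgSp.J S) X.obj := (isSheaf_iff_isSheaf_of_type _ _).1 X.property
  refine Presieve.IsSeparatedFor.ext
    (hs _ (Presheaf.imageSieve_mem (AlgSp.J S) q.hom (U := op U) (π.hom.app _ x))).isSeparatedFor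
    fun V g hg => ?_
  obtain ⟨w, hw⟩ := hg
  let wx : (AlgSp.yon S).obj V ⟶ Y' := yEquiv.symm w
  have key : ∀ z : X.obj.obj (op U), π.hom.app _ z = π.hom.app _ x →
      ∃ l : (AlgSp.yon S).obj V ⟶ Q,
        l ≫ snd = wx ∧ yEquiv (l ≫ fst) = X.obj.map g.op z := by
    intro z hz
    have e : yEquiv.symm (X.obj.map g.op z) ≫ π = wx ≫ q := by
      apply yEquiv.injective
      refine ((AlgSp.J S).uliftYonedaEquiv_comp _ π).trans ?_
      refine Eq.trans ?_ ((AlgSp.J S).uliftYonedaEquiv_comp wx q).symm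
      erw [Equiv.apply_symm_apply, Equiv.apply_symm_apply]
      erw [NatTrans.naturality_apply, hz]
      exact hw.symm
    exact ⟨sq.lift _ _ e, sq.lift_snd _ _ _, by rw [sq.lift_fst, Equiv.apply_symm_apply]⟩
  obtain ⟨l, hl, hl'⟩ := key x rfl
  obtain ⟨m, hm, hm'⟩ := key y hxy.symm
  have : l = m := (cancel_mono snd).1 (hl.trans hm.symm)
  rw [← hl', ← hm', this]

theorem descendsAlongAtlas_mono :
    DescendsAlongAtlas (MorphismProperty.monomorphisms (AlgSp.Sp S)) := by
  intro X Y π W q Q fst snd _ _ he hs _ sq (hp : Mono snd)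
  have := isLocallySurjective_of_etale q he hs
  exact (mono_of_isPullback_of_isLocallySurjective sq : Mono π)

/-- A representable map whose base changes to schemes are monomorphisms is a monomorphism. -/
theorem mono_of_repWith {R : MorphismProperty Scheme.{u}}
    (hR : ∀ ⦃A B : Scheme.{u}⦄ (j : A ⟶ B), R j → Mono j) {F G : AlgSp.Sp S} {π : F ⟶ G}
    (h : AlgSp.RepWith R π) : Mono π := by
  refine mono_of_injective_app π fun T x y hxy => ?_
  obtain ⟨U⟩ := T
  let a := yEquiv.symm x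
  let b := yEquiv.symm y
  have e : b ≫ π = a ≫ π := by
    apply yEquiv.injective
    refine ((AlgSp.J S).uliftYonedaEquiv_comp _ π).trans ?_
    refine Eq.trans ?_ ((AlgSp.J S).uliftYonedaEquiv_comp a π).symm
    erw [Equiv.apply_symm_apply, Equiv.apply_symm_apply]
    exact hxy.symm
  obtain ⟨W, snd, fst, sq⟩ := h.rep (a ≫ π)
  have hm : Mono snd.left := hR _ (h.property (a ≫ π) fst snd sq)
  obtain ⟨l, hl⟩ := (AlgSp.yon S).map_surjective (sq.lift a (𝟙 _) (Category.id_comp _).symm)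
  obtain ⟨m, hm'⟩ := (AlgSp.yon S).map_surjective
    (sq.lift b (𝟙 _) (by rw [Category.id_comp]; exact e))
  have hl₁ : l ≫ snd = 𝟙 U :=
    (AlgSp.yon S).map_injective (by rw [Functor.map_comp, hl, sq.lift_snd, CategoryTheory.Functor.map_id])
  have hm₁ : m ≫ snd = 𝟙 U :=
    (AlgSp.yon S).map_injective (by rw [Functor.map_comp, hm', sq.lift_snd, CategoryTheory.Functor.map_id])
  have hlm : l = m := Over.OverMorphism.ext ((cancel_mono snd.left).1
    (by rw [← Over.comp_left, ← Over.comp_left, hl₁, hm₁]))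
  have : a = b := by
    rw [← sq.lift_fst a (𝟙 _) (Category.id_comp _).symm, ← hl, hlm, hm', sq.lift_fst]
  exact yEquiv.symm.injective this

/-- A monomorphism of algebraic spaces that is locally of finite type is unramified. -/
theorem locP_unramified_of_mono {X Y : AlgSp.Sp S} (hX : AlgSp.IsAlgSpace X) (hY : AlgSp.IsAlgSpace Y)
    {f : X ⟶ Y} [Mono f] (hf : AlgSp.LocP @LocallyOfFiniteType f) :
    AlgSp.LocP (@LocallyOfFiniteType ⊓ @FormallyUnramified) f := by
  intro U V a b h ha hb comm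
  have hl : LocallyOfFiniteType h.left := hf a b h ha hb comm
  have hV := AlgSp.IsAlgSpace.yon_obj V
  have hU := AlgSp.IsAlgSpace.yon_obj U
  have sq := IsPullback.of_hasPullback f b
  have hXV := isAlgSpace_of_isPullback sq hY.diag hX hV
  let u : (AlgSp.yon S).obj U ⟶ pullback f b := sq.lift a ((AlgSp.yon S).map h) comm
  have hu : AlgSp.LocP @Etale u := by
    refine locP_of_comp_of_cancel' (Q := @Etale) (g := pullback.fst f b)
      (fun _ _ _ x y (hxy : Etale (x ≫ y)) (hy : Etale y) => Etale.of_comp x y)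
      hU hXV hX ?_ (Groth.AlgSpBasic.locP_of_repWith (repWith_of_isPullback sq.flip hb))
    rw [sq.lift_fst]
    exact Groth.AlgSpBasic.locP_of_repWith ha
  obtain ⟨W, p₁, p₂, hW⟩ :=
    exists_pullback_of_diag hV.diag ((AlgSp.yon S).map h) ((AlgSp.yon S).map h)
  have : Mono (pullback.snd f b) := inferInstance
  have hW' : IsPullback ((AlgSp.yon S).map p₁) ((AlgSp.yon S).map p₂) u u :=
    Groth.AlgSp2.isPullback_of_comp_mono hW (sq.lift_snd _ _ _) (sq.lift_snd _ _ _)
  have hp : Etale p₂.left := locP_of_isPullback hU hXV hU hW' hu (𝟙 _) (𝟙 _) p₂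
    (AlgSp.repWith_id _ W) (AlgSp.repWith_id _ U) (by rw [Category.comp_id, Category.id_comp])
  let h4 := isPullback_left (isPullback_of_yon hW)
  let δ : U.left ⟶ W.left := h4.lift (𝟙 _) (𝟙 _) rfl
  have hδ : δ ≫ p₂.left = 𝟙 _ := h4.lift_snd _ _ _
  have : Etale (δ ≫ p₂.left) := by rw [hδ]; infer_instance
  have : Etale δ := Etale.of_comp δ p₂.left
  have : Mono (δ ≫ p₂.left) := by rw [hδ]; infer_instance
  have : Mono δ := mono_of_mono δ p₂.left
  have : IsOpenImmersion δ := IsOpenImmersion.of_flat_of_mono δ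
  have e : pullback.diagonal h.left = δ ≫ h4.isoPullback.hom := by
    apply pullback.hom_ext <;> simp [δ]
  have : IsOpenImmersion (pullback.diagonal h.left) := by rw [e]; infer_instance
  exact ⟨hl, inferInstance⟩

end Spaces

/-- A fully faithful functor from a space into a slice gives a monomorphism of sheaves. -/
theorem mono_spMapOfOver_of_full {F : AlgSp.Sp S} {U : Over S}
    (Φ : AlgSt.ofSp F ⥤ᵇ FibCat.overCat U) [Φ.toFunctor.Full] : Mono (AlgSt.spMapOfOver Φ) := by
  refine mono_of_injective_app _ fun T x y hxy => ?_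
  obtain ⟨V⟩ := T
  let a : (AlgSt.ofSp F).obj := ⟨V, x⟩
  let b : (AlgSt.ofSp F).obj := ⟨V, y⟩
  have hs : AlgSt.secHom Φ a = AlgSt.secHom Φ b := congrArg ULift.down hxy
  let g : (Φ.obj a).left ⟶ (Φ.obj b).left := eqToHom ((Φ.w_obj a).trans (Φ.w_obj b).symm)
  let ψ : Φ.obj a ⟶ Φ.obj b := Over.homMk g (by
    simp only [AlgSt.secHom] at hs
    rw [← cancel_epi (eqToHom (Φ.w_obj a).symm)]
    simpa [g] using hs.symm)
  obtain ⟨φ, hφ⟩ := Φ.toFunctor.map_surjective ψ
  have h1 : (Φ.map φ).left = eqToHom (Φ.w_obj a) ≫ φ.hom ≫ eqToHom (Φ.w_obj b).symm :=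
    map_map Φ φ
  rw [hφ] at h1
  have h2 : φ.hom = 𝟙 V := by
    rw [← cancel_epi (eqToHom (Φ.w_obj a)), ← cancel_mono (eqToHom (Φ.w_obj b).symm)]
    rw [Category.assoc, ← h1]
    erw [Category.comp_id]
    simp [ψ, g]
  have h3 : F.obj.map φ.hom.op y = x := φ.map_sec
  rw [← h3]
  exact map_op_id F.obj _ h2 y

/-- A fully faithful functor representable by algebraic spaces is a monomorphism. -/
theorem isMono_of_full_faithful (f : 𝒳 ⥤ᵇ 𝒴) [f.toFunctor.Full] [f.toFunctor.Faithful]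
    (hf : AlgSt.RepByAlgSp1 f) : AlgSt.IsMono f := by
  intro U y
  obtain ⟨F, e, he⟩ := hf U y
  refine ⟨F, e, he, ?_⟩
  have h1 := full_of_isEquivOver he
  have h2 : (FibCat.fpFst y f).toFunctor.Full := ⟨fun {a b} φ => by
    refine ⟨fpHom φ (f.toFunctor.preimage (a.obj.iso.inv ≫ y.map φ ≫ b.obj.iso.hom)) ?_, rfl⟩
    simp⟩
  have : (BasedFunctor.comp e (FibCat.fpFst y f)).toFunctor.Full :=
    inferInstanceAs (e.toFunctor ⋙ (FibCat.fpFst y f).toFunctor).Full
  exact mono_spMapOfOver_of_full _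

/-- The diagonal of a faithful functor is fully faithful. -/
theorem full_diag (f : 𝒳 ⥤ᵇ 𝒴) [f.toFunctor.Faithful] :
    (FibCat.diag f).toFunctor.Full := by
  refine ⟨fun {a b} φ => ⟨φ.hom.fst, ?_⟩⟩
  have w : f.map φ.hom.fst ≫ 𝟙 _ = 𝟙 _ ≫ f.map φ.hom.snd := φ.hom.w
  simp only [Category.comp_id, Category.id_comp] at w
  exact fp_hom_ext rfl (f.toFunctor.map_injective w)

theorem faithful_diag (f : 𝒳 ⥤ᵇ 𝒴) : (FibCat.diag f).toFunctor.Faithful :=
  ⟨fun {a b} φ ψ h => congrArg (fun t => t.hom.fst) h⟩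

/-- The diagonal of a functor representable by algebraic spaces is a monomorphism. -/
theorem isMono_diag (hX : FibCat.IsFibGrpd 𝒳.p) (hY : FibCat.IsFibGrpd 𝒴.p) {f : 𝒳 ⥤ᵇ 𝒴}
    (hf : AlgSt.RepByAlgSp1 f) : AlgSt.IsMono (FibCat.diag f) := by
  have := faithful_of_repByAlgSp1 hX hY f hf
  have := full_diag f
  have := faithful_diag f
  exact isMono_of_full_faithful _ (repByAlgSp1_diag hf)

/-- A functor representable by algebraic spaces between algebraic stacks is DM. -/
theorem isDMMor_of_repByAlgSp1 (hX : AlgSt.IsAlgStack Scheme.fppfPrecoverage 𝒳)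
    (hY : AlgSt.IsAlgStack Scheme.fppfPrecoverage 𝒴) {f : 𝒳 ⥤ᵇ 𝒴} (hf : AlgSt.RepByAlgSp1 f) :
    AlgSt.IsDMMor f := by
  intro U z
  obtain ⟨F, e, he, hm⟩ := isMono_diag hX.isStack.1 hY.isStack.1 hf U z
  have : Mono (AlgSt.spMapOfOver (BasedFunctor.comp e (FibCat.fpFst z (FibCat.diag f)))) := hm
  exact ⟨F, e, he, locP_unramified_of_mono F.property (AlgSp.IsAlgSpace.yon_obj U)
    (prop_of_repWith_fp stableBaseChange_locP (repWith_lft_diag hX hY f) z F e he)⟩

/-- Composition of monomorphisms. -/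
theorem isMono_comp (hX : FibCat.IsFibGrpd 𝒳.p) (hY : FibCat.IsFibGrpd 𝒴.p) {f : 𝒳 ⥤ᵇ 𝒴}
    {g : 𝒴 ⥤ᵇ 𝒵} (hf : AlgSt.IsMono f) (hg : AlgSt.IsMono g) :
    AlgSt.IsMono (BasedFunctor.comp f g) :=
  repWith_comp' hX hY stableBaseChange_mono stableComp_mono descendsAlongAtlas_mono hf hg

/-- Immersions are monomorphisms. -/
theorem isMono_of_isImm {f : 𝒳 ⥤ᵇ 𝒴} (hf : AlgSt.IsImm f) : AlgSt.IsMono f :=
  repWith_mono (fun _ _ _ _ _ h => mono_of_repWith (fun _ _ j (_ : IsImmersion j) => inferInstance) h) hf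

end Groth.AlgStBasic
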