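import Groth.Agent.AlgStBasic.DiagCalc
import Groth.Agent.AlgStBasic.MonoCalc
import Groth.Agent.AlgSp2.FppfProps
import Groth.Agent.AlgSp2.FpqcTopRows
import Groth.Agent.AlgSp2.FpqcCoverBasic
import Groth.Agent.AlgSp2.FpqcRep
import Groth.Agent.AlgSp2.MonoEtale
import Groth.Agent.AlgSpBasic.QComp
import Groth.Agent.AlgSpBasic.Proper
import Groth.Agent.AlgSpBasic.Immersion

/-!
# Permanence of properties of morphisms of algebraic spaces, in the form used for stacks
-/

set_option autoImplicit false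
set_option backward.isDefEq.respectTransparency false
set_option backward.isDefEq.respectTransparency.types false

universe u

open CategoryTheory CategoryTheory.Limits AlgebraicGeometry Opposite
open Groth.StkBase Groth.AlgSpBasic

namespace Groth.AlgStBasic

variable {S : Scheme.{u}}

/-- Locality for the fpqc topology gives locality for the fppf topology. -/
theorem isLocalOnBase_fppf_of_fpqc {P : MorphismProperty (AlgSp.Sp S)}
    (h : AlgSp.IsLocalOnBase (AlgSp.IsFpqcCover (S := S)) P) :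
    AlgSp.IsLocalOnBase AlgSp.IsFppfCover P :=
  fun _ _ Yi g hY hYi hg => h Yi g hY hYi (Groth.AlgSp2.isFpqcCover_of_isFppfCover hY hYi hg)

/-- The property that the diagonal is representable with property `R`. -/
def DiagWith (R : MorphismProperty Scheme.{u}) : MorphismProperty (AlgSp.Sp S) :=
  fun _ _ f => AlgSp.RepWith R (pullback.diagonal f)

section Diag

variable (R : MorphismProperty Scheme.{u})

theorem stableBaseChange_diagWith : StableBaseChange (DiagWith (S := S) R) :=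
  fun _ _ _ _ _ _ _ _ _ _ _ _ sq h => repWith_diagonal_baseChange sq h

theorem stableComp_diagWith [R.IsStableUnderComposition] : StableComp (DiagWith (S := S) R) :=
  fun _ _ _ _ _ _ _ _ ha hb => repWith_diagonal_comp ha hb

/-- Cancellation for properties of the diagonal. -/
theorem cancelRight_diagWith : CancelRight (DiagWith (S := S) R) := by
  intro X Y Z _ _ _ f g h
  have e : pullback.diagonal f ≫ pullback.mapDesc f f g = pullback.diagonal (f ≫ g) := by
    apply pullback.hom_ext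
    · rw [Category.assoc, pullback.mapDesc, pullback.map, pullback.lift_fst, Category.comp_id,
        pullback.diagonal_fst, pullback.diagonal_fst]
    · rw [Category.assoc, pullback.mapDesc, pullback.map, pullback.lift_snd, Category.comp_id,
        pullback.diagonal_snd, pullback.diagonal_snd]
  have : Mono (pullback.mapDesc f f g) := ⟨fun a b hab => pullback.hom_ext
    (by simpa [pullback.mapDesc, pullback.map] using hab =≫ pullback.fst _ _)
    (by simpa [pullback.mapDesc, pullback.map] using hab =≫ pullback.snd _ _)⟩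
  exact repWith_of_isPullback (isPullback_of_mono_comp e) h

end Diag

theorem stableBaseChange_qc : StableBaseChange (AlgSp.IsQuasiCompactMor (S := S)) :=
  fun _ _ _ _ _ _ _ _ _ _ _ _ sq h => Groth.AlgSp2.isQuasiCompactMor_baseChange sq h

theorem stableComp_qc : StableComp (AlgSp.IsQuasiCompactMor (S := S)) :=
  fun _ _ _ _ hY hZ _ _ ha hb => isQuasiCompactMor_comp hY hZ ha hb

theorem stableBaseChange_qs : StableBaseChange (AlgSp.IsQuasiSeparatedMor (S := S)) :=
  stableBaseChange_diagWith @QuasiCompact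

theorem stableComp_qs : StableComp (AlgSp.IsQuasiSeparatedMor (S := S)) :=
  stableComp_diagWith @QuasiCompact

theorem stableBaseChange_sep : StableBaseChange (AlgSp.IsSeparatedMor (S := S)) :=
  stableBaseChange_diagWith @IsClosedImmersion

theorem stableComp_sep : StableComp (AlgSp.IsSeparatedMor (S := S)) :=
  stableComp_diagWith @IsClosedImmersion

theorem qs_of_sep {X Y : AlgSp.Sp S} {f : X ⟶ Y} (h : AlgSp.IsSeparatedMor f) :
    AlgSp.IsQuasiSeparatedMor f :=
  Groth.AlgSpBasic.repWith_mono (P := @IsClosedImmersion) (Q := @QuasiCompact) (fun _ _ φ (_ : IsClosedImmersion φ) => inferInstance) h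

theorem isLocalOnBase_fppf_qc :
    AlgSp.IsLocalOnBase AlgSp.IsFppfCover (AlgSp.IsQuasiCompactMor (S := S)) :=
  isLocalOnBase_fppf_of_fpqc Groth.AlgSp2.isLocalOnBase_fpqc_isQuasiCompactMor

theorem isLocalOnBase_fppf_qs :
    AlgSp.IsLocalOnBase AlgSp.IsFppfCover (AlgSp.IsQuasiSeparatedMor (S := S)) :=
  isLocalOnBase_fppf_of_fpqc (Groth.AlgSp2.isLocalOnBase_fpqc_diagonal @QuasiCompact)

theorem isLocalOnBase_fppf_sep :
    AlgSp.IsLocalOnBase AlgSp.IsFppfCover (AlgSp.IsSeparatedMor (S := S)) :=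
  isLocalOnBase_fppf_of_fpqc (Groth.AlgSp2.isLocalOnBase_fpqc_diagonal @IsClosedImmersion)

theorem isLocalOnBase_inf {τ : AlgSp.CovNotion S} {P Q : MorphismProperty (AlgSp.Sp S)}
    (hP : AlgSp.IsLocalOnBase τ P) (hQ : AlgSp.IsLocalOnBase τ Q) :
    AlgSp.IsLocalOnBase τ (P ⊓ Q) := by
  intro ι Y Yi g hY hYi hg X f hX Xi p q hXi hsq
  have h₁ := hP Yi g hY hYi hg f hX Xi p q hXi hsq
  have h₂ := hQ Yi g hY hYi hg f hX Xi p q hXi hsq
  exact ⟨fun h i => ⟨h₁.1 h.1 i, h₂.1 h.2 i⟩, fun h => ⟨h₁.2 fun i => (h i).1, h₂.2 fun i => (h i).2⟩⟩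

theorem stableBaseChange_inf {P Q : MorphismProperty (AlgSp.Sp S)} (hP : StableBaseChange P)
    (hQ : StableBaseChange Q) : StableBaseChange (P ⊓ Q) :=
  fun _ _ _ _ h₁ h₂ h₃ h₄ a b a' b' sq h =>
    ⟨hP h₁ h₂ h₃ h₄ a b a' b' sq h.1, hQ h₁ h₂ h₃ h₄ a b a' b' sq h.2⟩

theorem stableComp_inf {P Q : MorphismProperty (AlgSp.Sp S)} (hP : StableComp P)
    (hQ : StableComp Q) : StableComp (P ⊓ Q) :=
  fun _ _ _ h₁ h₂ h₃ a b ha hb => ⟨hP h₁ h₂ h₃ a b ha.1 hb.1, hQ h₁ h₂ h₃ a b ha.2 hb.2⟩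

theorem stableBaseChange_univClosed : StableBaseChange (AlgSp.IsUnivClosedMor (S := S)) :=
  fun _ _ _ _ _ _ _ _ _ _ _ _ sq h => Groth.AlgSp2.univSp_baseChange sq h

theorem stableComp_univClosed : StableComp (AlgSp.IsUnivClosedMor (S := S)) :=
  fun _ _ _ _ hY hZ _ _ ha hb => isUnivClosedMor_comp hY hZ ha hb

theorem stableBaseChange_proper : StableBaseChange (AlgSp.IsProperMor (S := S)) :=
  fun _ _ _ _ h₁ h₂ h₃ h₄ a b a' b' sq h =>
    ⟨stableBaseChange_sep h₁ h₂ h₃ h₄ a b a' b' sq h.1,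
      ⟨stableBaseChange_locP h₁ h₂ h₃ h₄ a b a' b' sq h.2.1.1,
        stableBaseChange_qc h₁ h₂ h₃ h₄ a b a' b' sq h.2.1.2⟩,
      stableBaseChange_univClosed h₁ h₂ h₃ h₄ a b a' b' sq h.2.2⟩

theorem stableComp_proper : StableComp (AlgSp.IsProperMor (S := S)) :=
  fun _ _ _ h₁ h₂ h₃ a b ha hb =>
    ⟨stableComp_sep h₁ h₂ h₃ a b ha.1 hb.1,
      ⟨stableComp_locP h₁ h₂ h₃ a b ha.2.1.1 hb.2.1.1,
        stableComp_qc h₁ h₂ h₃ a b ha.2.1.2 hb.2.1.2⟩,
      stableComp_univClosed h₁ h₂ h₃ a b ha.2.2 hb.2.2⟩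

theorem isLocalOnBase_fppf_proper :
    AlgSp.IsLocalOnBase AlgSp.IsFppfCover (AlgSp.IsProperMor (S := S)) :=
  isLocalOnBase_fppf_of_fpqc Groth.AlgSp2.isLocalOnBase_fpqc_isProperMor

/-- A closed immersion of algebraic spaces is a closed map on points. -/
theorem isClosedMap_of_repWith_closedImm {Z X : AlgSp.Sp S} (hX : AlgSp.IsAlgSpace X) {i : Z ⟶ X}
    (hi : AlgSp.RepWith @IsClosedImmersion i) : IsClosedMap (AlgSp.Points.map i) := by
  have hi' : AlgSp.RepWith @IsImmersion i :=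
    Groth.AlgSpBasic.repWith_mono (P := @IsClosedImmersion) (Q := @IsImmersion) (fun _ _ φ (_ : IsClosedImmersion φ) => inferInstance) hi
  obtain ⟨he, -⟩ := isEmbedding_map_of_immersion hX hi'
  refine Topology.IsClosedEmbedding.isClosedMap ⟨he, ?_⟩
  obtain ⟨U, a, ha, has⟩ := hX.atlas
  obtain ⟨V, snd, fst, sq⟩ := hi.rep a
  have : IsClosedImmersion snd.left := hi.property a fst snd sq
  rw [← isOpen_compl_iff, ← (isQuotientMap_ofPt ha has).isCoinducing.isOpen_preimage,
    Set.preimage_compl, ← range_left_eq_preimage sq, isOpen_compl_iff]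
  exact snd.left.isClosedEmbedding.isClosed_range

theorem isUnivClosedMor_of_repWith_closedImm {Z X : AlgSp.Sp S} {i : Z ⟶ X}
    (hi : AlgSp.RepWith @IsClosedImmersion i) : AlgSp.IsUnivClosedMor i :=
  fun _ _ hT _ _ _ sq => isClosedMap_of_repWith_closedImm hT (repWith_of_isPullback sq hi)

/-- Cancellation for proper morphisms. -/
theorem proper_of_comp {X Y Z : AlgSp.Sp S} (hX : AlgSp.IsAlgSpace X) (hY : AlgSp.IsAlgSpace Y)
    (hZ : AlgSp.IsAlgSpace Z) (f : X ⟶ Y) (g : Y ⟶ Z) (hg : AlgSp.IsSeparatedMor g)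
    (h : AlgSp.IsProperMor (f ≫ g)) : AlgSp.IsProperMor f := by
  obtain ⟨h₁, ⟨h₂, h₃⟩, h₄⟩ := h
  refine ⟨cancelRight_diagWith _ hX hY hZ f g h₁,
    ⟨cancelRight_locP (fun _ _ _ a b (_ : LocallyOfFiniteType (a ≫ b)) =>
      locallyOfFiniteType_of_comp a b) hX hY hZ f g h₂,
      isQuasiCompactMor_of_cancel hX hY hZ h₃ (qs_of_sep hg)⟩, ?_⟩
  have sq := IsPullback.of_hasPullback (f ≫ g) g
  have hW := isAlgSpace_of_isPullback sq hZ.diag hX hY
  let γ : X ⟶ pullback (f ≫ g) g := pullback.lift (𝟙 X) f (by simp)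
  have hγ : IsPullback f γ (pullback.diagonal g) (pullback.map (f ≫ g) g g g f (𝟙 _) (𝟙 _)
      (by simp) (by simp)) := by
    refine ⟨⟨by apply pullback.hom_ext <;> simp [γ, pullback.map] <;> exact (Category.id_comp f).symm⟩,
      ⟨PullbackCone.IsLimit.mk _ (fun s => s.snd ≫ pullback.fst _ _) (fun s => ?_) (fun s => ?_)
        fun s m h₁ h₂ => ?_⟩⟩
    · have h1 := s.condition =≫ pullback.fst g g
      simp [pullback.map] at h1
      simpa using h1.symm
    · have h1 := s.condition =≫ pullback.fst g g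
      have h2 := s.condition =≫ pullback.snd g g
      simp [pullback.map] at h1 h2
      apply pullback.hom_ext
      · simp [γ]
      · simp [γ, ← h1, ← h2]
    · rw [← h₂]
      simp [γ]
  have e : γ ≫ pullback.snd (f ≫ g) g = f := pullback.lift_snd _ _ _
  rw [← e]
  exact isUnivClosedMor_comp hW hY
    (isUnivClosedMor_of_repWith_closedImm (repWith_of_isPullback hγ hg))
    (Groth.AlgSp2.univSp_baseChange sq h₄)

/-- Cancellation for quasi-compact and quasi-separated morphisms. -/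
theorem qcqs_of_comp {X Y Z : AlgSp.Sp S} (hX : AlgSp.IsAlgSpace X) (hY : AlgSp.IsAlgSpace Y)
    (hZ : AlgSp.IsAlgSpace Z) (f : X ⟶ Y) (g : Y ⟶ Z) (hg : AlgSp.IsQuasiSeparatedMor g)
    (h : (AlgSp.IsQuasiCompactMor ⊓ AlgSp.IsQuasiSeparatedMor :
      MorphismProperty (AlgSp.Sp S)) (f ≫ g)) :
    (AlgSp.IsQuasiCompactMor ⊓ AlgSp.IsQuasiSeparatedMor : MorphismProperty (AlgSp.Sp S)) f :=
  ⟨isQuasiCompactMor_of_cancel hX hY hZ h.1 hg, cancelRight_diagWith _ hX hY hZ f g h.2⟩

section RepWithProp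

variable (R : MorphismProperty Scheme.{u})

theorem stableBaseChange_repWith : StableBaseChange (AlgSp.RepWith (S := S) R) :=
  fun _ _ _ _ _ _ _ _ _ _ _ _ sq h => repWith_of_isPullback sq h

theorem stableComp_repWith [R.IsStableUnderComposition] : StableComp (AlgSp.RepWith (S := S) R) :=
  fun _ _ _ _ _ _ _ _ ha hb => repWith_comp ha hb

end RepWithProp

theorem isLocalOnBase_fppf_openImm :
    AlgSp.IsLocalOnBase AlgSp.IsFppfCover (AlgSp.RepWith (S := S) @IsOpenImmersion) :=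
  isLocalOnBase_fppf_of_fpqc Groth.AlgSp2.isLocalOnBase_fpqc_repWith_isOpenImmersion

end Groth.AlgStBasic
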