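import Groth.Agent.AlgStBasic.StTopology

/-!
# Points of spaces inside stacks, and universal topological properties

The comparison of the points of an algebraic space with those of its category is a homeomorphism;
openness, closedness, injectivity and submersiveness of a representable functor can be tested on
charts; universal injectivity is stable under base change and composition and descends along
surjective morphisms.
-/

set_option autoImplicit false
set_option backward.isDefEq.respectTransparency false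
set_option backward.isDefEq.respectTransparency.types false

universe u

open CategoryTheory CategoryTheory.Limits AlgebraicGeometry Opposite Topology
open Groth.StkBase Groth.AlgSpBasic

noncomputable section

namespace Groth.AlgStBasic

variable {S : Scheme.{u}} {𝒳 𝒴 𝒵 𝒲 : AlgSt.Cat S}

/-- The category of an algebraic space is an algebraic stack. -/
theorem isAlgStack_ofSp {F : AlgSp.Sp S} (hF : AlgSp.IsAlgSpace F) :
    AlgSt.IsAlgStack Scheme.fppfPrecoverage (AlgSt.ofSp F) :=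
  isAlgStack_of_repByAlgSp ⟨⟨F, hF⟩, _, isEquivOver_id _⟩

/-- The slice over a scheme is an algebraic stack. -/
theorem isAlgStack_overCat (U : Over S) :
    AlgSt.IsAlgStack Scheme.fppfPrecoverage (FibCat.overCat U : AlgSt.Cat S) :=
  isAlgStack_of_repByAlgSp (repByAlgSp_overCat U)

section SpPt

variable {F G : AlgSp.Sp S}

theorem spPt_ofPt {T : Over S} (g : (AlgSp.yon S).obj T ⟶ F) (t : ↥T.left) :
    spPt (AlgSp.Points.ofPt g t) = AlgSt.Points.ofChart (overMapOf g.hom) t := rfl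

theorem continuous_spPt (hF : AlgSp.IsAlgSpace F) : Continuous (spPt (F := F)) := by
  refine continuous_def.2 fun O hO => AlgSp.Points.isOpen_iff.2 fun T g => ?_
  exact (hO.preimage (continuous_ofChart (isAlgStack_ofSp hF) (overMapOf g.hom)) :)

theorem isOpenMap_spPt : IsOpenMap (spPt (F := F)) := by
  intro O hO T y _
  obtain ⟨ξ, ⟨β⟩⟩ := exists_overMapOf y
  let g : (AlgSp.yon S).obj T ⟶ F := ObjectProperty.homMk ξ
  have e : AlgSt.Points.ofChart y ⁻¹' (spPt '' O) = AlgSp.Points.ofPt g ⁻¹' O := by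
    ext t
    rw [Set.mem_preimage, Set.mem_preimage,
      ← ofChart_eq_of_iso (x := overMapOf g.hom) β, ← spPt_ofPt]
    exact bijective_spPt.1.mem_set_image
  rw [e]
  exact AlgSp.Points.isOpen_iff.1 hO T g

theorem isHomeomorph_spPt (hF : AlgSp.IsAlgSpace F) : IsHomeomorph (spPt (F := F)) :=
  ⟨continuous_spPt hF, isOpenMap_spPt, bijective_spPt⟩

end SpPt

theorem isHomeomorph_map_of_isEquivOver (hX : AlgSt.IsAlgStack Scheme.fppfPrecoverage 𝒳)
    (hY : AlgSt.IsAlgStack Scheme.fppfPrecoverage 𝒴) {e : 𝒳 ⥤ᵇ 𝒴} (he : FibCat.IsEquivOver e) :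
    IsHomeomorph (AlgSt.Points.map e) := by
  obtain ⟨e', ⟨α⟩, ⟨β⟩⟩ := he
  refine ⟨continuous_map hY e, IsOpenMap.of_inverse (continuous_map hX e') (fun x => ?_) (fun x => ?_),
    bijective_map_of_isEquivOver ⟨e', ⟨α⟩, ⟨β⟩⟩⟩
  · rw [← map_comp, map_eq_of_iso β, map_id]
  · rw [← map_comp, map_eq_of_iso α, map_id]

section Charts

/-- The data of a chart of the target of a representable functor. -/
structure ChartSq (π : 𝒳 ⥤ᵇ 𝒴) {T : Over S} (y : FibCat.overCat T ⥤ᵇ 𝒴) where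
  /-- The base change. -/
  F : AlgSp.Space S
  /-- The comparison functor. -/
  e : AlgSt.ofSp F.obj ⥤ᵇ FibCat.fp y π
  isEquivOver : FibCat.IsEquivOver e

namespace ChartSq

variable {π : 𝒳 ⥤ᵇ 𝒴} {T : Over S} {y : FibCat.overCat T ⥤ᵇ 𝒴} (c : ChartSq π y)

/-- The projection to the scheme. -/
def q : c.F.obj ⟶ (AlgSp.yon S).obj T :=
  AlgSt.spMapOfOver (BasedFunctor.comp c.e (FibCat.fpFst y π))

/-- The projection to the source, on points. -/
def s (x : AlgSp.Points c.F.obj) : AlgSt.Points 𝒳 :=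
  AlgSt.Points.map (BasedFunctor.comp c.e (FibCat.fpSnd y π)) (spPt x)

theorem continuous_s (hX : AlgSt.IsAlgStack Scheme.fppfPrecoverage 𝒳) : Continuous c.s :=
  (continuous_map hX _).comp (continuous_spPt c.F.property)

theorem map_s (x : AlgSp.Points c.F.obj) :
    AlgSt.Points.map π (c.s x) =
      AlgSt.Points.ofChart y (AlgSp.Points.toScheme T (AlgSp.Points.map c.q x)) := by
  rw [q, ← ptToScheme_map_spPt, ofChart_eq_map y, ofChart_id_ptToScheme, s, ← map_comp, ← map_comp]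
  exact congrFun (map_eq_of_iso (whiskerLeftIso c.e (FibCat.fpIso y π)).symm) _

theorem exists_lift (hX : FibCat.IsFibGrpd 𝒳.p) (hY : FibCat.IsFibGrpd 𝒴.p) (t : ↥T.left)
    (w : AlgSt.Points 𝒳) (h : AlgSt.Points.map π w = AlgSt.Points.ofChart y t) :
    ∃ x, c.s x = w ∧ AlgSp.Points.toScheme T (AlgSp.Points.map c.q x) = t := by
  obtain ⟨v, hv₁, hv₂⟩ := exists_points_fp hX hY (isFibGrpd_overCat T) π y
    (AlgSt.Points.ofChart (BasedFunctor.id _) t) w (h.trans (ofChart_eq_map y t)).symm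
  obtain ⟨a, rfl⟩ := (bijective_map_of_isEquivOver c.isEquivOver).2 v
  obtain ⟨x, rfl⟩ := bijective_spPt.2 a
  refine ⟨x, by rw [s, map_comp, hv₂], ?_⟩
  rw [q, ← ptToScheme_map_spPt, map_comp, hv₁, ptToScheme_ofChart_id]

theorem preimage_image (hX : FibCat.IsFibGrpd 𝒳.p) (hY : FibCat.IsFibGrpd 𝒴.p)
    (W : Set (AlgSt.Points 𝒳)) :
    AlgSt.Points.ofChart y ⁻¹' (AlgSt.Points.map π '' W) =
      AlgSp.Points.toScheme T '' (AlgSp.Points.map c.q '' (c.s ⁻¹' W)) :=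
  preimage_image_chart hX hY π y c.e c.isEquivOver W

end ChartSq

variable {π : 𝒳 ⥤ᵇ 𝒴}

theorem isOpenMap_map_of_charts (hX : AlgSt.IsAlgStack Scheme.fppfPrecoverage 𝒳)
    (hY : FibCat.IsFibGrpd 𝒴.p)
    (h : ∀ (T : Over S) (y : FibCat.overCat T ⥤ᵇ 𝒴),
      ∃ c : ChartSq π y, IsOpenMap (AlgSp.Points.map c.q)) :
    IsOpenMap (AlgSt.Points.map π) := by
  intro W hW T y _
  obtain ⟨c, hc⟩ := h T y
  rw [c.preimage_image hX.isStack.1 hY]
  exact (AlgSp.Points.schemeHomeo T).symm.isOpenMap _ (hc _ (hW.preimage (c.continuous_s hX)))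

theorem isClosedMap_map_of_charts (hX : AlgSt.IsAlgStack Scheme.fppfPrecoverage 𝒳)
    (hY : FibCat.IsFibGrpd 𝒴.p)
    (h : ∀ (T : Over S) (y : FibCat.overCat T ⥤ᵇ 𝒴),
      ∃ c : ChartSq π y, IsClosedMap (AlgSp.Points.map c.q)) :
    IsClosedMap (AlgSt.Points.map π) := by
  intro W hW
  refine isOpen_compl_iff.1 fun T y _ => ?_
  obtain ⟨c, hc⟩ := h T y
  rw [Set.preimage_compl, c.preimage_image hX.isStack.1 hY, isOpen_compl_iff]
  exact (AlgSp.Points.schemeHomeo T).symm.isClosedMap _ (hc _ (hW.preimage (c.continuous_s hX)))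

theorem injective_map_of_charts (hX : FibCat.IsFibGrpd 𝒳.p) (hY : FibCat.IsFibGrpd 𝒴.p)
    (h : ∀ (T : Over S) (y : FibCat.overCat T ⥤ᵇ 𝒴),
      ∃ c : ChartSq π y, Function.Injective (AlgSp.Points.map c.q)) :
    Function.Injective (AlgSt.Points.map π) := by
  intro w w' e
  obtain ⟨T, -, y, t, ht, -⟩ := exists_chart_through hY (AlgSt.Points.map π w)
  obtain ⟨c, hc⟩ := h T y
  obtain ⟨x, rfl, hx⟩ := c.exists_lift hX hY t w ht.symm
  obtain ⟨x', rfl, hx'⟩ := c.exists_lift hX hY t w' (e.symm.trans ht.symm)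
  rw [hc ((AlgSp.Points.schemeHomeo T).symm.injective (hx.trans hx'.symm))]

theorem surjective_map_of_charts (hY : FibCat.IsFibGrpd 𝒴.p)
    (h : ∀ (T : Over S) (y : FibCat.overCat T ⥤ᵇ 𝒴),
      ∃ c : ChartSq π y, Function.Surjective (AlgSp.Points.map c.q)) :
    Function.Surjective (AlgSt.Points.map π) := by
  intro z
  obtain ⟨T, -, y, t, rfl, -⟩ := exists_chart_through hY z
  obtain ⟨c, hc⟩ := h T y
  obtain ⟨x, hx⟩ := hc (AlgSp.Points.ofScheme T t)
  exact ⟨c.s x, by rw [c.map_s, hx, AlgSp.Points.toScheme_ofScheme]⟩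

theorem isQuotientMap_map_of_charts (hX : AlgSt.IsAlgStack Scheme.fppfPrecoverage 𝒳)
    (hY : AlgSt.IsAlgStack Scheme.fppfPrecoverage 𝒴)
    (h : ∀ (T : Over S) (y : FibCat.overCat T ⥤ᵇ 𝒴),
      ∃ c : ChartSq π y, IsQuotientMap (AlgSp.Points.map c.q)) :
    IsQuotientMap (AlgSt.Points.map π) := by
  refine ⟨isCoinducing_iff.2 fun O => ⟨fun hO T y _ => ?_, fun hO => hO.preimage (continuous_map hY π)⟩,
    surjective_map_of_charts hY.isStack.1 fun T y => ?_⟩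
  · obtain ⟨c, hc⟩ := h T y
    have e : AlgSp.Points.map c.q ⁻¹' (AlgSp.Points.toScheme T ⁻¹' (AlgSt.Points.ofChart y ⁻¹' O)) =
        c.s ⁻¹' (AlgSt.Points.map π ⁻¹' O) := by
      ext x
      simp only [Set.mem_preimage]
      rw [c.map_s]
    exact (AlgSp.Points.schemeHomeo T).symm.isQuotientMap.isCoinducing.isOpen_preimage.1
      (hc.isCoinducing.isOpen_preimage.1 (e ▸ hO.preimage (c.continuous_s hX)))
  · obtain ⟨c, hc⟩ := h T y
    exact ⟨c, hc.surjective⟩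

end Charts

section Test

variable (f : 𝒳 ⥤ᵇ 𝒴)

/-- A chart square of a base change of `f`, from a property of the base changes of `f` to schemes. -/
theorem exists_chartSq_fpFst {Q : MorphismProperty (AlgSp.Sp S)}
    (h : AlgSt.RepByAlgSpWith (AlgSp.UnivSp Q) f) (g : 𝒵 ⥤ᵇ 𝒴) (T : Over S)
    (y : FibCat.overCat T ⥤ᵇ 𝒵) : ∃ c : ChartSq (FibCat.fpFst g f) y, Q c.q := by
  obtain ⟨F, e, he, hq⟩ := h T (BasedFunctor.comp y g)
  exact ⟨⟨F, BasedFunctor.comp e (fpUnpaste y g f), isEquivOver_comp he (isEquivOver_fpUnpaste y g f)⟩,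
    hq (AlgSp.IsAlgSpace.yon_obj T) (𝟙 _) (𝟙 _) _ (IsPullback.of_id_fst)⟩

/-- A base change of a base change of `f` to a scheme is a base change of `f` to an algebraic space. -/
theorem exists_fpFst_eq_map (hX : AlgSt.IsAlgStack Scheme.fppfPrecoverage 𝒳)
    (hY : AlgSt.IsAlgStack Scheme.fppfPrecoverage 𝒴) {U : Over S} (y : FibCat.overCat U ⥤ᵇ 𝒴)
    {F : AlgSp.Space S} {e : AlgSt.ofSp F.obj ⥤ᵇ FibCat.fp y f} (he : FibCat.IsEquivOver e)
    {Z Z' : AlgSp.Sp S} (hZ : AlgSp.IsAlgSpace Z) (c : Z ⟶ (AlgSp.yon S).obj U) {fst : Z' ⟶ F.obj}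
    {snd : Z' ⟶ Z}
    (sq : IsPullback fst snd (AlgSt.spMapOfOver (BasedFunctor.comp e (FibCat.fpFst y f))) c) :
    ∃ (g : AlgSt.ofSp Z ⥤ᵇ 𝒴) (A : AlgSp.Points Z' → AlgSt.Points (FibCat.fp g f)),
      IsHomeomorph A ∧ AlgSt.Points.map (FibCat.fpFst g f) ∘ A = spPt ∘ AlgSp.Points.map snd := by
  let Φ := BasedFunctor.comp e (FibCat.fpFst y f)
  have hΦ : Nonempty (BasedFunctor.comp (Stk.ofPshMap (AlgSt.spMapOfOver Φ).hom) (AlgSt.toOverCat U) ≅ Φ) := by
    obtain ⟨β⟩ := nonempty_iso_pshMapOf (P := F.obj.obj) (Q := (AlgSp.pyon S).obj U)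
      (BasedFunctor.comp Φ (AlgSt.ofOverCat U))
    rw [spMapOfOver_hom_eq]
    exact ⟨whiskerRightIso β.symm (AlgSt.toOverCat U)⟩
  obtain ⟨α⟩ := hΦ
  let Φc := BasedFunctor.comp (Stk.ofPshMap c.hom) (AlgSt.toOverCat U)
  have sq' : IsPullback snd.hom fst.hom c.hom (AlgSt.spMapOfOver Φ).hom :=
    (sq.flip.map (sheafToPresheaf (AlgSp.J S) (Type (u + 1))) :)
  have := full_of_isEquivOver (isEquivOver_toOverCat U)
  have := faithful_of_isEquivOver (isEquivOver_toOverCat U)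
  let e₁ := fpPost (Stk.ofPshMap c.hom) (Stk.ofPshMap (AlgSt.spMapOfOver Φ).hom) (AlgSt.toOverCat U)
  let e₂ := fpCongr (Iso.refl Φc) α
  let e₃ := fpPre (BasedFunctor.id (AlgSt.ofSp Z)) e Φc (FibCat.fpFst y f)
  let E : AlgSt.ofSp Z' ⥤ᵇ FibCat.fp (BasedFunctor.comp Φc y) f :=
    BasedFunctor.comp (BasedFunctor.comp (BasedFunctor.comp (BasedFunctor.comp (pshFpLift sq'.w) e₁) e₂) e₃)
      (fpPaste Φc y f)
  have hE : FibCat.IsEquivOver E :=
    isEquivOver_comp (isEquivOver_comp (isEquivOver_comp (isEquivOver_comp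
      (isEquivOver_pshFpLift sq') (isEquivOver_fpPost _ _ _)) (isEquivOver_fpCongr _ _))
      (isEquivOver_fpPre (isEquivOver_id _) he _ _)) (isEquivOver_fpPaste _ _ _)
  have hZ' : AlgSp.IsAlgSpace Z' :=
    isAlgSpace_of_isPullback sq (AlgSp.IsAlgSpace.yon_obj U).diag F.property hZ
  have hP : AlgSt.IsAlgStack Scheme.fppfPrecoverage (FibCat.fp (BasedFunctor.comp Φc y) f) :=
    isAlgStack_fp hY.isStack hY.diag (isAlgStack_ofSp hZ) hX _ _
  refine ⟨_, AlgSt.Points.map E ∘ spPt,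
    (isHomeomorph_map_of_isEquivOver (isAlgStack_ofSp hZ') hP hE).comp (isHomeomorph_spPt hZ'), ?_⟩
  funext x
  show AlgSt.Points.map (FibCat.fpFst _ f) (AlgSt.Points.map E (spPt x)) = _
  rw [← map_comp]
  exact map_ofPshMap_spPt snd x

variable {f}

/-- A topological property of maps which is invariant under homeomorphisms passes from the base
changes to algebraic stacks to the base changes to schemes. -/
theorem repWith_univSp_of_forall {Q : MorphismProperty (AlgSp.Sp S)}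
    {R : ∀ {α β : Type (u + 1)} [TopologicalSpace α] [TopologicalSpace β], (α → β) → Prop}
    (hR : ∀ {α β α' β' : Type (u + 1)} [TopologicalSpace α] [TopologicalSpace β] [TopologicalSpace α']
      [TopologicalSpace β'] (a : α → α') (b : β → β') (φ : α → β) (ψ : α' → β'),
      IsHomeomorph a → IsHomeomorph b → ψ ∘ a = b ∘ φ → R ψ → R φ)
    (hQ : ∀ {F G : AlgSp.Sp S} (p : F ⟶ G), R (AlgSp.Points.map p) → Q p)
    (hX : AlgSt.IsAlgStack Scheme.fppfPrecoverage 𝒳)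
    (hY : AlgSt.IsAlgStack Scheme.fppfPrecoverage 𝒴) (hf : AlgSt.RepByAlgSp1 f)
    (h : ∀ (𝒵 : AlgSt.Cat S), AlgSt.IsAlgStack Scheme.fppfPrecoverage 𝒵 → ∀ g : 𝒵 ⥤ᵇ 𝒴,
      R (AlgSt.Points.map (FibCat.fpFst g f))) :
    AlgSt.RepByAlgSpWith (AlgSp.UnivSp Q) f := by
  intro U y
  obtain ⟨F, e, he⟩ := hf U y
  refine ⟨F, e, he, fun Z Z' hZ c fst snd sq => hQ snd ?_⟩
  obtain ⟨g, A, hA, hA'⟩ := exists_fpFst_eq_map f hX hY y he hZ c sq
  exact hR A spPt _ _ hA (isHomeomorph_spPt hZ) hA' (h _ (isAlgStack_ofSp hZ) g)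

end Test

section Transport

variable {α β α' β' : Type*} [TopologicalSpace α] [TopologicalSpace β] [TopologicalSpace α']
  [TopologicalSpace β'] {a : α → α'} {b : β → β'} {φ : α → β} {ψ : α' → β'}

theorem isOpenMap_of_square (ha : IsHomeomorph a) (hb : IsHomeomorph b) (e : ψ ∘ a = b ∘ φ)
    (h : IsOpenMap ψ) : IsOpenMap φ :=
  fun O hO => hb.isInducing.isOpen_iff.2
    ⟨b '' (φ '' O), by rw [← Set.image_comp, ← e, Set.image_comp]; exact h _ (ha.isOpenMap _ hO),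
      Set.preimage_image_eq _ hb.injective⟩

theorem isClosedMap_of_square (ha : IsHomeomorph a) (hb : IsHomeomorph b) (e : ψ ∘ a = b ∘ φ)
    (h : IsClosedMap ψ) : IsClosedMap φ :=
  fun O hO => hb.isInducing.isClosed_iff.2
    ⟨b '' (φ '' O), by rw [← Set.image_comp, ← e, Set.image_comp]; exact h _ (ha.isClosedMap _ hO),
      Set.preimage_image_eq _ hb.injective⟩

omit [TopologicalSpace β] [TopologicalSpace β'] in
theorem injective_of_square (ha : IsHomeomorph a) (e : ψ ∘ a = b ∘ φ)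
    (h : Function.Injective ψ) : Function.Injective φ :=
  ((e ▸ h.comp ha.injective) : Function.Injective (b ∘ φ)).of_comp

theorem isQuotientMap_of_square (ha : IsHomeomorph a) (hb : IsHomeomorph b) (e : ψ ∘ a = b ∘ φ)
    (h : IsQuotientMap ψ) : IsQuotientMap φ := by
  have : φ = hb.homeomorph.symm ∘ (ψ ∘ a) := by
    funext x
    rw [e]
    exact (hb.homeomorph.symm_apply_apply _).symm
  rw [this]
  exact hb.homeomorph.symm.isQuotientMap.comp (h.comp ha.isQuotientMap)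

theorem isHomeomorph_of_square (ha : IsHomeomorph a) (hb : IsHomeomorph b) (e : ψ ∘ a = b ∘ φ)
    (h : IsHomeomorph ψ) : IsHomeomorph φ := by
  have : φ = hb.homeomorph.symm ∘ (ψ ∘ a) := by
    funext x
    rw [e]
    exact (hb.homeomorph.symm_apply_apply _).symm
  rw [this]
  exact hb.homeomorph.symm.isHomeomorph.comp (h.comp ha)

end Transport

section Injective

/-- Reassociation: `(𝒲 ×_𝒵 𝒴) ×_𝒴 𝒳 ⟶ 𝒲 ×_𝒵 𝒳`. -/
def fpCompFun (h : 𝒲 ⥤ᵇ 𝒵) (f : 𝒳 ⥤ᵇ 𝒴) (g : 𝒴 ⥤ᵇ 𝒵) :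
    FibCat.fp (FibCat.fpSnd h g) f ⥤ᵇ FibCat.fp h (BasedFunctor.comp f g) :=
  FibCat.fpLift (BasedFunctor.comp (FibCat.fpFst (FibCat.fpSnd h g) f) (FibCat.fpFst h g))
    (FibCat.fpSnd (FibCat.fpSnd h g) f)
    ((whiskerLeftIso (FibCat.fpFst (FibCat.fpSnd h g) f) (FibCat.fpIso h g)).trans
      (whiskerRightIso (FibCat.fpIso (FibCat.fpSnd h g) f) g))

theorem isEquivOver_fpCompFun (h : 𝒲 ⥤ᵇ 𝒵) (f : 𝒳 ⥤ᵇ 𝒴) (g : 𝒴 ⥤ᵇ 𝒵) :
    FibCat.IsEquivOver (fpCompFun h f g) := by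
  refine ⟨FibCat.fpLift (FibCat.fpLift (FibCat.fpFst h (BasedFunctor.comp f g))
    (BasedFunctor.comp (FibCat.fpSnd h (BasedFunctor.comp f g)) f)
    (FibCat.fpIso h (BasedFunctor.comp f g))) (FibCat.fpSnd h (BasedFunctor.comp f g)) (Iso.refl _),
    ⟨fpIsoMk (fpIsoMk (Iso.refl _) (FibCat.fpIso (FibCat.fpSnd h g) f).symm fun x => ?_) (Iso.refl _)
      fun x => ?_⟩,
    ⟨fpIsoMk (Iso.refl _) (Iso.refl _) fun x => ?_⟩⟩ <;>
  simp [fpCompFun]

theorem injective_fpFst_paste (h : 𝒲 ⥤ᵇ 𝒵) (g : 𝒵 ⥤ᵇ 𝒴) (f : 𝒳 ⥤ᵇ 𝒴) :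
    Function.Injective (AlgSt.Points.map (FibCat.fpFst h (FibCat.fpFst g f))) ↔
      Function.Injective (AlgSt.Points.map (FibCat.fpFst (BasedFunctor.comp h g) f)) := by
  have hb := bijective_map_of_isEquivOver (isEquivOver_fpPaste h g f)
  have e : AlgSt.Points.map (FibCat.fpFst (BasedFunctor.comp h g) f) ∘ AlgSt.Points.map (fpPaste h g f)
      = AlgSt.Points.map (FibCat.fpFst h (FibCat.fpFst g f)) :=
    funext fun x => (map_comp _ _ x).symm
  rw [← e]
  exact Function.Injective.of_comp_iff' _ hb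

theorem injective_fpFst_congr {g g' : 𝒵 ⥤ᵇ 𝒴} (α : g ≅ g') (f : 𝒳 ⥤ᵇ 𝒴)
    (h : Function.Injective (AlgSt.Points.map (FibCat.fpFst g' f))) :
    Function.Injective (AlgSt.Points.map (FibCat.fpFst g f)) := by
  have e : AlgSt.Points.map (FibCat.fpFst g' f) ∘ AlgSt.Points.map (fpCongr α (Iso.refl f))
      = AlgSt.Points.map (FibCat.fpFst g f) := funext fun x => (map_comp _ _ x).symm
  rw [← e]
  exact h.comp (bijective_map_of_isEquivOver (isEquivOver_fpCongr α (Iso.refl f))).1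

/-- Injectivity of a base change can be tested on affine charts. -/
theorem injective_fpFst_of_affine (hX : FibCat.IsFibGrpd 𝒳.p) (hY : FibCat.IsFibGrpd 𝒴.p)
    (hZ : FibCat.IsFibGrpd 𝒵.p) (g : 𝒵 ⥤ᵇ 𝒴) (f : 𝒳 ⥤ᵇ 𝒴)
    (h : ∀ (T : Over S) [IsAffine T.left] (y : FibCat.overCat T ⥤ᵇ 𝒵),
      Function.Injective (AlgSt.Points.map (FibCat.fpFst (BasedFunctor.comp y g) f))) :
    Function.Injective (AlgSt.Points.map (FibCat.fpFst g f)) := by
  intro w w' e
  obtain ⟨T, hT, y, t, ht, -⟩ := exists_chart_through hZ (AlgSt.Points.map (FibCat.fpFst g f) w)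
  rw [ofChart_eq_map] at ht
  have hP := isFibGrpd_fp (F := g) (G := f) hZ hX hY
  obtain ⟨a, ha₁, rfl⟩ := exists_points_fp hP hZ (isFibGrpd_overCat T) (FibCat.fpFst g f) y _ w ht
  obtain ⟨a', ha₁', rfl⟩ :=
    exists_points_fp hP hZ (isFibGrpd_overCat T) (FibCat.fpFst g f) y _ w' (ht.trans e)
  rw [(injective_fpFst_paste y g f).2 (h T y) (ha₁.trans ha₁'.symm)]

/-- Injectivity of a base change descends along a morphism that is surjective on points. -/
theorem injective_fpFst_of_isSurjective (hX : FibCat.IsFibGrpd 𝒳.p) (hY : FibCat.IsFibGrpd 𝒴.p)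
    (hZ : FibCat.IsFibGrpd 𝒵.p) (hW : FibCat.IsFibGrpd 𝒲.p) {p : 𝒲 ⥤ᵇ 𝒵}
    (hp : AlgSt.IsSurjective p) (g : 𝒵 ⥤ᵇ 𝒴) (f : 𝒳 ⥤ᵇ 𝒴)
    (h : Function.Injective (AlgSt.Points.map (FibCat.fpFst (BasedFunctor.comp p g) f))) :
    Function.Injective (AlgSt.Points.map (FibCat.fpFst g f)) := by
  intro w w' e
  obtain ⟨v, hv⟩ := hp (AlgSt.Points.map (FibCat.fpFst g f) w)
  have hP := isFibGrpd_fp (F := g) (G := f) hZ hX hY
  obtain ⟨a, ha₁, rfl⟩ := exists_points_fp hP hZ hW (FibCat.fpFst g f) p v w hv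
  obtain ⟨a', ha₁', rfl⟩ := exists_points_fp hP hZ hW (FibCat.fpFst g f) p v w' (hv.trans e)
  rw [(injective_fpFst_paste p g f).2 h (ha₁.trans ha₁'.symm)]

theorem isUnivInjective_fpFst (g : 𝒵 ⥤ᵇ 𝒴) {f : 𝒳 ⥤ᵇ 𝒴}
    (hf : AlgSt.IsUnivInjective Scheme.fppfPrecoverage f) :
    AlgSt.IsUnivInjective Scheme.fppfPrecoverage (FibCat.fpFst g f) :=
  fun 𝒲 hW h => (injective_fpFst_paste h g f).2 (hf 𝒲 hW _)

theorem isUnivInjective_comp (hY : AlgSt.IsAlgStack Scheme.fppfPrecoverage 𝒴)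
    (hZ : AlgSt.IsAlgStack Scheme.fppfPrecoverage 𝒵) {f : 𝒳 ⥤ᵇ 𝒴} {g : 𝒴 ⥤ᵇ 𝒵}
    (hf : AlgSt.IsUnivInjective Scheme.fppfPrecoverage f)
    (hg : AlgSt.IsUnivInjective Scheme.fppfPrecoverage g) :
    AlgSt.IsUnivInjective Scheme.fppfPrecoverage (BasedFunctor.comp f g) := by
  intro 𝒲 hW h
  have hb := bijective_map_of_isEquivOver (isEquivOver_fpCompFun h f g)
  rw [← Function.Injective.of_comp_iff' _ hb]
  have e : AlgSt.Points.map (FibCat.fpFst h (BasedFunctor.comp f g)) ∘ AlgSt.Points.map (fpCompFun h f g)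
      = AlgSt.Points.map (FibCat.fpFst h g) ∘ AlgSt.Points.map (FibCat.fpFst (FibCat.fpSnd h g) f) :=
    funext fun x => (map_comp _ _ x).symm.trans
      (map_comp (FibCat.fpFst (FibCat.fpSnd h g) f) (FibCat.fpFst h g) x)
  rw [e]
  exact (hg 𝒲 hW h).comp (hf _ (isAlgStack_fp hZ.isStack hZ.diag hW hY h g) _)

theorem injective_map_of_isUnivInjective_fpFst (hZ : AlgSt.IsAlgStack Scheme.fppfPrecoverage 𝒵)
    (g : 𝒵 ⥤ᵇ 𝒴) (f : 𝒳 ⥤ᵇ 𝒴)
    (h : AlgSt.IsUnivInjective Scheme.fppfPrecoverage (FibCat.fpFst g f)) :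
    Function.Injective (AlgSt.Points.map (FibCat.fpFst g f)) := by
  have := (injective_fpFst_paste (BasedFunctor.id 𝒵) g f).1 (h 𝒵 hZ (BasedFunctor.id 𝒵))
  exact this

end Injective

end Groth.AlgStBasic
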