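import Groth.Agent.AlgStBasic.Inertia
import Groth.Agent.AlgStBasic.StUniv
import Groth.Agent.AlgSpBasic.Unramified
import Groth.Agent.EtaleBase.FpqcDescent
import Mathlib.AlgebraicGeometry.Fiber
import Mathlib.AlgebraicGeometry.Morphisms.QuasiFinite

/-!
# Properties of the diagonal that descend from the inertia
-/

set_option autoImplicit false
set_option backward.isDefEq.respectTransparency false
set_option backward.isDefEq.respectTransparency.types false

universe u

open CategoryTheory CategoryTheory.Limits AlgebraicGeometry Opposite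
open Groth.StkBase Groth.AlgSpBasic

noncomputable section

namespace Groth.AlgStBasic

section Schemes

variable {W T : Scheme.{u}}

theorem locallyQuasiFinite_of_snd_self (g : W ⟶ T) [LocallyOfFiniteType g]
    (h : LocallyQuasiFinite (pullback.snd g g)) : LocallyQuasiFinite g := by
  refine LocallyQuasiFinite.of_fiberToSpecResidueField g fun t => ?_
  by_cases ht : ∃ w, g w = t
  · obtain ⟨w, rfl⟩ := ht
    let φ := Spec.map (g.residueFieldMap w)
    have e : φ ≫ T.fromSpecResidueField (g w) = W.fromSpecResidueField w ≫ g :=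
      Scheme.Hom.SpecMap_residueFieldMap_fromSpecResidueField g w
    have hr : IsPullback
        (pullback.fst (pullback.snd g g) (W.fromSpecResidueField w) ≫ pullback.fst g g)
        (pullback.snd (pullback.snd g g) (W.fromSpecResidueField w)) g
        (φ ≫ T.fromSpecResidueField (g w)) := by
      rw [e]
      exact (IsPullback.of_hasPullback _ _).paste_horiz (IsPullback.of_hasPullback g g)
    have hq := IsPullback.of_right' hr (IsPullback.of_hasPullback g (T.fromSpecResidueField (g w)))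
    have hφ : Groth.EtaleBase.Fpqc φ := by
      refine ⟨⟨⟨fun x => ⟨IsLocalRing.closedPoint _, Subsingleton.elim _ _⟩⟩, ?_⟩, inferInstance⟩
      letI := (g.residueFieldMap w).hom.toAlgebra
      refine (HasRingHomProperty.Spec_iff (P := @Flat)).2 ?_
      show RingHom.Flat (algebraMap (T.residueField (g w)) (W.residueField w))
      exact RingHom.flat_algebraMap_iff.2 inferInstance
    exact MorphismProperty.of_isPullback_of_descendsAlong (Q := Groth.EtaleBase.Fpqc) hq.flip hφ
      (MorphismProperty.pullback_snd (P := @LocallyQuasiFinite) _ _ h)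
  · have : IsEmpty ↥(g.fiber t) := ⟨fun x => ht ⟨_, (g.fiberHomeo t x).2⟩⟩
    exact LocallyQuasiFinite.of_injective fun x => isEmptyElim x

theorem formallyUnramified_of_snd_self (g : W ⟶ T) [LocallyOfFiniteType g]
    (h : FormallyUnramified (pullback.snd g g)) : FormallyUnramified g := by
  let p := pullback.snd g g
  let Δ := pullback.diagonal g
  have hp : LocallyOfFiniteType p := inferInstanceAs (LocallyOfFiniteType (pullback.snd g g))
  let s : pullback g g ⟶ pullback p p :=
    pullback.lift (pullback.fst g g ≫ Δ)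
      (pullback.lift (pullback.snd g g) (pullback.fst g g) pullback.condition.symm)
      (by simp [p, Δ])
  have sq : IsPullback Δ Δ s (pullback.diagonal p) := by
    refine IsPullback.mk ⟨by
      apply pullback.hom_ext <;> apply pullback.hom_ext <;> simp [s, Δ, p]⟩ ⟨?_⟩
    refine PullbackCone.IsLimit.mk _ (fun c => c.fst ≫ pullback.fst g g) (fun c => ?_) (fun c => ?_)
      (fun c m h₁ _ => ?_)
    · have k₁ := c.condition =≫ (pullback.fst p p ≫ pullback.fst g g)
      have k₂ := c.condition =≫ (pullback.fst p p ≫ pullback.snd g g)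
      have k₃ := c.condition =≫ (pullback.snd p p ≫ pullback.fst g g)
      simp [s, Δ] at k₁ k₂ k₃
      apply pullback.hom_ext <;> simp [Δ]
      rw [k₃, ← k₁]
    · have k₁ := c.condition =≫ (pullback.fst p p ≫ pullback.fst g g)
      have k₂ := c.condition =≫ (pullback.fst p p ≫ pullback.snd g g)
      simp [s, Δ] at k₁ k₂
      apply pullback.hom_ext <;> simp [Δ]
      · exact k₁
      · exact k₂
    · have k := h₁ =≫ pullback.fst g g
      simpa [Δ] using k
  have : IsOpenImmersion (pullback.diagonal p) := inferInstance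
  have : IsOpenImmersion (pullback.diagonal g) :=
    MorphismProperty.of_isPullback (P := @IsOpenImmersion) sq.flip this
  infer_instance

end Schemes

variable {S : Scheme.{u}} {𝒳 𝒴 : AlgSt.Cat S}

/-- A property of schemes that descends from the self product descends likewise for spaces. -/
theorem locP_of_locP_snd_self {Q : MorphismProperty Scheme.{u}} [EtaleLocal Q]
    (hQ : ∀ ⦃A B : Scheme.{u}⦄ (g : A ⟶ B), LocallyOfFiniteType g → Q (pullback.snd g g) → Q g)
    {F : AlgSp.Sp S} (hF : AlgSp.IsAlgSpace F) {T : Over S} (q : F ⟶ (AlgSp.yon S).obj T)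
    (hl : AlgSp.LocP @LocallyOfFiniteType q) (h : AlgSp.LocP Q (pullback.snd q q)) :
    AlgSp.LocP Q q := by
  obtain ⟨W, r, hr, hrs⟩ := hF.atlas
  obtain ⟨g, hg⟩ := (AlgSp.yon S).map_surjective (r ≫ q)
  refine locP_of_chart hF.diag (AlgSp.IsAlgSpace.yon_obj T).diag hr hrs (AlgSp.repWith_id @Etale T)
    (h := g) (by rw [Category.comp_id, hg]) (hQ _ (hl r (𝟙 _) g hr (AlgSp.repWith_id @Etale T)
      (by rw [Category.comp_id, hg])) ?_)
  have sq₀ : IsPullback ((AlgSp.yon S).map (pullback.fst g g))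
      ((AlgSp.yon S).map (pullback.snd g g)) (r ≫ q) (r ≫ q) := by
    rw [← hg]
    exact (IsPullback.of_hasPullback g g).map (AlgSp.yon S)
  have t := (IsPullback.of_hasPullback (pullback.snd q q) r).paste_horiz
    (IsPullback.of_hasPullback q q)
  obtain ⟨l, hl₁, hl₂⟩ := t.exists_lift ((AlgSp.yon S).map (pullback.fst g g) ≫ r)
    ((AlgSp.yon S).map (pullback.snd g g)) (by rw [Category.assoc]; exact sq₀.w)
  have hle : AlgSp.RepWith @Etale l :=
    repWith_of_isPullback (IsPullback.of_bot (v₁₁ := l) (by rw [hl₂]; exact sq₀) hl₁.symm t) hr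
  have hm : AlgSp.RepWith @Etale (pullback.fst (pullback.snd q q) r) :=
    repWith_of_isPullback (IsPullback.of_hasPullback (pullback.snd q q) r).flip hr
  have k : Q (pullback.snd g g).left := by
    refine h _ r _ (repWith_comp hle hm) hr ?_
    rw [Category.assoc, pullback.condition, ← Category.assoc, hl₂]
  have sq₁ : IsPullback (pullback.fst g g).left (pullback.snd g g).left g.left g.left :=
    (IsPullback.of_hasPullback g g).map (Over.forget S)
  rw [← sq₁.isoPullback_hom_snd] at k
  exact (MorphismProperty.cancel_left_of_respectsIso Q _ _).1 k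

/-- A base change of a base change of `f` to a scheme, as a morphism of spaces. -/
theorem prop_snd_of_repWith_fpFst {P : MorphismProperty (AlgSp.Sp S)} (hb : StableBaseChange P)
    (hd : DescendsAlongAtlas P) {f : 𝒳 ⥤ᵇ 𝒴} {U : Over S} (y : FibCat.overCat U ⥤ᵇ 𝒴)
    {F : AlgSp.Space S} {e : AlgSt.ofSp F.obj ⥤ᵇ FibCat.fp y f} (he : FibCat.IsEquivOver e)
    {Z Z' : AlgSp.Sp S} (hZ : AlgSp.IsAlgSpace Z) (c : Z ⟶ (AlgSp.yon S).obj U) {fst : Z' ⟶ F.obj}
    {snd : Z' ⟶ Z}
    (sq : IsPullback fst snd (AlgSt.spMapOfOver (BasedFunctor.comp e (FibCat.fpFst y f))) c)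
    {w : AlgSt.ofSp Z ⥤ᵇ 𝒴}
    (β : BasedFunctor.comp (BasedFunctor.comp (Stk.ofPshMap c.hom) (AlgSt.toOverCat U)) y ≅ w)
    (h : AlgSt.RepByAlgSpWith P (FibCat.fpFst w f)) : P snd := by
  let Φ := BasedFunctor.comp e (FibCat.fpFst y f)
  have hΦ : Nonempty (BasedFunctor.comp (Stk.ofPshMap (AlgSt.spMapOfOver Φ).hom) (AlgSt.toOverCat U) ≅ Φ) := by
    obtain ⟨γ⟩ := nonempty_iso_pshMapOf (P := F.obj.obj) (Q := (AlgSp.pyon S).obj U)
      (BasedFunctor.comp Φ (AlgSt.ofOverCat U))
    rw [spMapOfOver_hom_eq]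
    exact ⟨whiskerRightIso γ.symm (AlgSt.toOverCat U)⟩
  obtain ⟨α⟩ := hΦ
  let Φc := BasedFunctor.comp (Stk.ofPshMap c.hom) (AlgSt.toOverCat U)
  have sq' : IsPullback snd.hom fst.hom c.hom (AlgSt.spMapOfOver Φ).hom :=
    (sq.flip.map (sheafToPresheaf (AlgSp.J S) (Type (u + 1))) :)
  have := full_of_isEquivOver (isEquivOver_toOverCat U)
  have := faithful_of_isEquivOver (isEquivOver_toOverCat U)
  let e₁ := fpPost (Stk.ofPshMap c.hom) (Stk.ofPshMap (AlgSt.spMapOfOver Φ).hom) (AlgSt.toOverCat U)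
  let e₂ := fpCongr (Iso.refl Φc) α
  let e₃ := fpPre (BasedFunctor.id (AlgSt.ofSp Z)) e Φc (FibCat.fpFst y f)
  let E : AlgSt.ofSp Z' ⥤ᵇ FibCat.fp w f :=
    BasedFunctor.comp (BasedFunctor.comp (BasedFunctor.comp (BasedFunctor.comp (BasedFunctor.comp
      (pshFpLift sq'.w) e₁) e₂) e₃) (fpPaste Φc y f)) (fpCongr β (Iso.refl f))
  have hE : FibCat.IsEquivOver E :=
    isEquivOver_comp (isEquivOver_comp (isEquivOver_comp (isEquivOver_comp (isEquivOver_comp
      (isEquivOver_pshFpLift sq') (isEquivOver_fpPost _ _ _)) (isEquivOver_fpCongr _ _))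
      (isEquivOver_fpPre (isEquivOver_id _) he _ _)) (isEquivOver_fpPaste _ _ _))
      (isEquivOver_fpCongr _ _)
  have h' : AlgSt.RepByAlgSpWith P (AlgSt.ofSpMap snd) :=
    repWith_of_iso (Iso.refl _) ((repWith_precomp_equiv hE _).2 h)
  exact prop_of_repWith_ofSpMap hb hd
    (isAlgSpace_of_isPullback sq (AlgSp.IsAlgSpace.yon_obj U).diag F.property hZ) hZ h'

/-- A property of the inertia passes to the diagonal. -/
theorem repWith_diag_of_inertia (hX : AlgSt.IsAlgStack Scheme.fppfPrecoverage 𝒳)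
    (hY : AlgSt.IsAlgStack Scheme.fppfPrecoverage 𝒴) (f : 𝒳 ⥤ᵇ 𝒴)
    {Q : MorphismProperty Scheme.{u}} [EtaleLocal Q]
    (hQ : ∀ ⦃A B : Scheme.{u}⦄ (g : A ⟶ B), LocallyOfFiniteType g → Q (pullback.snd g g) → Q g)
    (h : AlgSt.RepByAlgSpWith (AlgSp.LocP Q) (FibCat.inertiaToBase f)) :
    AlgSt.RepByAlgSpWith (AlgSp.LocP Q) (FibCat.diag f) := by
  let Δ := FibCat.diag f
  have hl : AlgSt.RepByAlgSpWith (AlgSp.LocP @LocallyOfFiniteType) Δ := repWith_lft_diag hX hY f
  have h₂ : AlgSt.RepByAlgSpWith (AlgSp.LocP Q) (FibCat.fpFst Δ Δ) :=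
    (repWith_precomp_equiv (isEquivOver_inertiaToFp f) _).1 (repWith_of_iso (Iso.refl _) h)
  intro U y
  obtain ⟨F, e, he⟩ := repWith_repByAlgSp1 hl U y
  refine ⟨F, e, he, ?_⟩
  have hlq := prop_of_repWith_fp stableBaseChange_locP hl y F e he
  refine locP_of_locP_snd_self hQ F.property _ hlq ?_
  let q := AlgSt.spMapOfOver (BasedFunctor.comp e (FibCat.fpFst y Δ))
  let a := BasedFunctor.comp e (FibCat.fpSnd y Δ)
  have β : BasedFunctor.comp (BasedFunctor.comp (Stk.ofPshMap q.hom) (AlgSt.toOverCat U)) y ≅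
      BasedFunctor.comp a Δ := by
    let Φ := BasedFunctor.comp e (FibCat.fpFst y Δ)
    have γ' : Nonempty (BasedFunctor.comp (Stk.ofPshMap q.hom) (AlgSt.toOverCat U) ≅ Φ) := by
      obtain ⟨γ⟩ := nonempty_iso_pshMapOf (P := F.obj.obj) (Q := (AlgSp.pyon S).obj U)
        (BasedFunctor.comp Φ (AlgSt.ofOverCat U))
      show Nonempty (BasedFunctor.comp (Stk.ofPshMap (AlgSt.spMapOfOver Φ).hom) _ ≅ Φ)
      rw [spMapOfOver_hom_eq]
      exact ⟨whiskerRightIso γ.symm (AlgSt.toOverCat U)⟩
    exact (whiskerRightIso γ'.some y).trans (whiskerLeftIso e (FibCat.fpIso y Δ))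
  refine prop_snd_of_repWith_fpFst stableBaseChange_locP descendsAlongAtlas_locP y he F.property q
    (IsPullback.of_hasPullback q q) β ?_
  exact (repWith_precomp_equiv (isEquivOver_fpPaste a Δ Δ) _).1
    (repWith_of_iso (Iso.refl _) (repWith_fpFst (FibCat.fpFst Δ Δ) a h₂))

end Groth.AlgStBasic
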