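import Groth.Prelude.Def_AlgSpCov
import Groth.Agent.AlgSpBasic.LocP
import Groth.Agent.AlgSpBasic.Points
import Groth.Agent.AlgSpBasic.LocPInst

/-!
# Etale local properties are fppf local on the base of algebraic spaces
-/

set_option autoImplicit false
set_option backward.isDefEq.respectTransparency.types false
universe u

open CategoryTheory CategoryTheory.Limits AlgebraicGeometry Opposite AlgSp
open Groth.AlgSpBasic

namespace Groth.AlgStBasic

variable {S : Scheme.{u}}

theorem isLocalOnBase_fppf_locP (P : MorphismProperty Scheme.{u}) [EtaleLocal P] :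
    IsLocalOnBase (IsFppfCover (S := S)) (LocP P) := by
  intro ι Y Yi g hY hYi hg X f hX Xi p q hXi hsq
  refine ⟨fun h i => locP_of_isPullback hX hY (hYi i) (hsq i) h, fun hp => ?_⟩
  intro U V a b h ha hb comm
  have hV := IsAlgSpace.yon_obj V
  -- the pullback of `f` along the chart `b`
  have sq := IsPullback.of_hasPullback f b
  have hXV := isAlgSpace_of_isPullback sq hY.diag hX hV
  let u : (yon S).obj U ⟶ pullback f b := sq.lift a ((yon S).map h) comm
  have hu : LocP @Etale u := by
    refine locP_of_comp_of_cancel' (Q := @Etale) (g := pullback.fst f b)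
      (fun _ _ _ x y (hxy : Etale (x ≫ y)) (hy : Etale y) => Etale.of_comp x y)
      (IsAlgSpace.yon_obj U) hXV hX ?_ (locP_of_repWith (repWith_of_isPullback sq.flip hb))
    rw [sq.lift_fst]
    exact locP_of_repWith ha
  -- charts of `Yi ×_Y V`
  have sqi := fun i => IsPullback.of_hasPullback (g i) b
  have hPi := fun i => isAlgSpace_of_isPullback (sqi i) hY.diag (hYi i) hV
  choose W r hr hrs using fun i => (hPi i).atlas
  have hc' := fun i => (yon S).map_surjective (r i ≫ pullback.snd (g i) b)
  choose c hc using hc'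
  let l := fun i => r i ≫ pullback.fst (g i) b
  have hl : ∀ i, l i ≫ g i = (yon S).map (c i) ≫ b := fun i => by
    rw [hc, Category.assoc, Category.assoc, (sqi i).w]
  have hcR : ∀ (R : MorphismProperty Scheme.{u}) [EtaleLocal R], (∀ i, LocP R (g i)) →
      ∀ i, R (c i).left := fun R _ hR i =>
    locP_of_isPullback (hYi i) hY hV (sqi i) (hR i) (r i) (𝟙 _) (c i) (hr i) (repWith_id _ V)
      (by rw [Category.comp_id, hc])
  have hflat : ∀ i, Flat (c i).left := hcR @Flat fun i => (hg.1 i).1
  have hlfp : ∀ i, LocallyOfFinitePresentation (c i).left := hcR _ fun i => (hg.1 i).2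
  have hsurj : ∀ v : ↥V.left, ∃ i, v ∈ Set.range (c i).left := fun v => by
    obtain ⟨i, y, hy⟩ := hg.2 (Points.map b (Points.schemeHomeo V v))
    obtain ⟨z, -, hz⟩ := exists_point_of_isPullback (sqi i) y (Points.schemeHomeo V v) hy
    obtain ⟨t, rfl⟩ := surjective_ofPt_of_repWith (hrs i) z
    refine ⟨i, t, (Points.schemeHomeo V).injective ?_⟩
    rw [← hz, ofPt_eq_map, ← Points.map_comp, ← hc]
    exact (Points.map_yon_map_apply _ _).symm
  have hmem : Presieve.ofArrows (fun i => (W i).left) (fun i => (c i).left) ∈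
      Scheme.fppfPrecoverage V.left := by
    change _ ∈ Scheme.precoverage _ V.left
    rw [Scheme.ofArrows_mem_precoverage_iff]
    exact ⟨hsurj, fun i => ⟨hflat i, hlfp i⟩⟩
  have hloc := (inferInstance : EtaleLocal P).localAtTarget
  refine MorphismProperty.IsLocalAtTarget.of_forall_pullbackSnd (P := P) hmem ?_
  rintro _ _ _ ⟨i⟩
  obtain ⟨M, m₁, m₂, hM⟩ := exists_pullback_of_diag hV.diag ((yon S).map h) ((yon S).map (c i))
  -- the base change of `p i` along `l i`, seen as a base change of `f`
  have sqT := IsPullback.of_hasPullback (pullback.snd f b) ((yon S).map (c i))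
  have hT := isAlgSpace_of_isPullback sqT hV.diag hXV (IsAlgSpace.yon_obj (W i))
  let T := pullback (pullback.snd f b) ((yon S).map (c i))
  let tf := pullback.fst (pullback.snd f b) ((yon S).map (c i))
  let ts := pullback.snd (pullback.snd f b) ((yon S).map (c i))
  have hout : IsPullback (tf ≫ pullback.fst f b) ts f (l i ≫ g i) := by
    rw [hl]; exact sqT.paste_horiz sq
  have hin : IsPullback ((hsq i).lift (tf ≫ pullback.fst f b) (ts ≫ l i)
      (by rw [Category.assoc]; exact hout.w)) ts (p i) (l i) :=
    IsPullback.of_right (by rw [(hsq i).lift_fst]; exact hout) ((hsq i).lift_snd _ _ _) (hsq i)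
  have hts : LocP P ts :=
    locP_of_isPullback (hXi i) (hYi i) (IsAlgSpace.yon_obj _) hin (hp i)
  -- the base change of `u`
  let k : (yon S).obj M ⟶ T := sqT.lift ((yon S).map m₁ ≫ u) ((yon S).map m₂)
    (by rw [Category.assoc, sq.lift_snd]; exact hM.w)
  have hk' : IsPullback ((yon S).map m₁) k u tf := by
    refine IsPullback.of_bot (t := sqT) ?_ ?_
    · rw [sqT.lift_snd, sq.lift_snd]
      exact hM
    · exact (sqT.lift_fst _ _ _).symm
  have hk : LocP P k := fun U' V' a' b' h' ha' hb' comm' =>
    EtaleLocal.of_etale _ (locP_of_isPullback (IsAlgSpace.yon_obj U) hXV hT hk' hu a' b' h' ha' hb' comm')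
  have hm : P m₂.left :=
    locP_comp (IsAlgSpace.yon_obj M) hT (IsAlgSpace.yon_obj _) hk hts (𝟙 _) (𝟙 _) m₂
      (repWith_id _ M) (repWith_id _ (W i)) (by rw [Category.comp_id, Category.id_comp, sqT.lift_snd])
  have h4 := isPullback_left (isPullback_of_yon hM)
  have e : pullback.snd h.left (c i).left = h4.isoPullback.inv ≫ m₂.left :=
    h4.isoPullback_inv_snd.symm
  rw [e]
  exact (P.cancel_left_of_respectsIso h4.isoPullback.inv m₂.left).2 hm

end Groth.AlgStBasic
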