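import Groth.Agent.AlgStBasic.DiagCalc
import Groth.Agent.AlgStBasic.FppfBase
import Groth.Agent.AlgSpBasic.LocPInst

/-!
# Local lifting along flat, locally finitely presented surjections, and consequences for diagonals
-/

set_option autoImplicit false
set_option backward.isDefEq.respectTransparency false
set_option backward.isDefEq.respectTransparency.types false

universe u

open CategoryTheory CategoryTheory.Limits AlgebraicGeometry Opposite
open Groth.StkBase Groth.AlgSpBasic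

namespace Groth.AlgStBasic

variable {S : Scheme.{u}} {𝒳 𝒴 𝒵 𝒲 : AlgSt.Cat S}

theorem nonempty_overMap_comp_iso {U V W : Over S} (a : U ⟶ V) (b : V ⟶ W) :
    Nonempty (BasedFunctor.comp (AlgSt.overMap a) (AlgSt.overMap b) ≅ AlgSt.overMap (a ≫ b)) :=
  (nonempty_overIso_iff (isFibGrpd_overCat W) _ _).2
    ⟨eqToHom (congrArg Over.mk (Category.assoc _ _ _)), isVert_eqToHom _⟩

theorem prop_of_repWith_fp {P : MorphismProperty (AlgSp.Sp S)} (hb : StableBaseChange P)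
    {w : 𝒲 ⥤ᵇ 𝒴} (h : AlgSt.RepByAlgSpWith P w) {U : Over S} (y : FibCat.overCat U ⥤ᵇ 𝒴)
    (F : AlgSp.Space S) (e : AlgSt.ofSp F.obj ⥤ᵇ FibCat.fp y w) (he : FibCat.IsEquivOver e) :
    P (AlgSt.spMapOfOver (BasedFunctor.comp e (FibCat.fpFst y w))) := by
  have := hb.respectsIso
  exact (prop_of_repFst (P := onSpaces P)
    (RepFst.mono (fun _ _ _ hA hB hp => ⟨hA, hB, hp⟩) (h U y)) F e he).2.2

/-- An object of the base change to `U`, pulled back to a scheme, lifts the pulled back object. -/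
theorem exists_lift_of_section {w : 𝒲 ⥤ᵇ 𝒴} {U W : Over S} (y : FibCat.overCat U ⥤ᵇ 𝒴)
    {F : AlgSp.Sp S} (e : AlgSt.ofSp F ⥤ᵇ FibCat.fp y w) (r : (AlgSp.yon S).obj W ⟶ F)
    (c : W ⟶ U)
    (hc : (AlgSp.yon S).map c = r ≫ AlgSt.spMapOfOver (BasedFunctor.comp e (FibCat.fpFst y w))) :
    ∃ z : FibCat.overCat W ⥤ᵇ 𝒲,
      Nonempty (BasedFunctor.comp z w ≅ BasedFunctor.comp (AlgSt.overMap c) y) := by
  let Φ := BasedFunctor.comp e (FibCat.fpFst y w)
  let ρ : FibCat.overCat W ⥤ᵇ AlgSt.ofSp F := overMapOf r.hom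
  obtain ⟨β⟩ := nonempty_iso_pshMapOf (BasedFunctor.comp Φ (AlgSt.ofOverCat U))
  let T := AlgSt.toOverCat U
  have γ : Φ ≅ BasedFunctor.comp (Stk.ofPshMap (AlgSt.spMapOfOver Φ).hom) T :=
    whiskerRightIso (β.trans (eqToIso (congrArg Stk.ofPshMap (spMapOfOver_hom_eq Φ).symm))) T
  obtain ⟨δ⟩ := nonempty_overMapOf_iso c
  have heq : overMapOf (r ≫ AlgSt.spMapOfOver Φ).hom = overMapOf ((AlgSp.pyon S).map c) := by
    rw [show r ≫ AlgSt.spMapOfOver Φ = (AlgSp.yon S).map c from hc.symm]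
    rfl
  have δ' : BasedFunctor.comp ρ (BasedFunctor.comp (Stk.ofPshMap (AlgSt.spMapOfOver Φ).hom) T)
      ≅ AlgSt.overMap c :=
    (eqToIso (congrArg (fun m => BasedFunctor.comp m T) heq)).trans δ
  exact ⟨BasedFunctor.comp ρ (BasedFunctor.comp e (FibCat.fpSnd y w)),
    ⟨((whiskerLeftIso (BasedFunctor.comp ρ e) (FibCat.fpIso y w).symm).trans
      (whiskerRightIso (whiskerLeftIso ρ γ) y)).trans (whiskerRightIso δ' y)⟩⟩

/-- Objects lift fppf locally along a flat, locally finitely presented surjection. -/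
theorem exists_lift_of_fppf_surjective {w : 𝒲 ⥤ᵇ 𝒴}
    (h₁ : AlgSt.RepByAlgSpWith (AlgSp.LocP @Flat) w)
    (h₂ : AlgSt.RepByAlgSpWith (AlgSp.LocP @LocallyOfFinitePresentation) w)
    (h₃ : AlgSt.RepByAlgSpWith AlgSp.IsSurjectiveMor w)
    (U : Over S) (y : FibCat.overCat U ⥤ᵇ 𝒴) :
    ∃ R ∈ AlgSp.J S U, ∀ ⦃V : Over S⦄ (h : V ⟶ U), R.arrows h →
      ∃ z : FibCat.overCat V ⥤ᵇ 𝒲,
        Nonempty (BasedFunctor.comp z w ≅ BasedFunctor.comp (AlgSt.overMap h) y) := by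
  obtain ⟨F, e, he⟩ := repWith_repByAlgSp1 h₁ U y
  have q₁ := prop_of_repWith_fp stableBaseChange_locP h₁ y F e he
  have q₂ := prop_of_repWith_fp stableBaseChange_locP h₂ y F e he
  have q₃ := prop_of_repWith_fp stableBaseChange_surjective h₃ y F e he
  obtain ⟨W, r, hr, hrs⟩ := F.property.atlas
  obtain ⟨c, hc⟩ := (AlgSp.yon S).map_surjective
    (r ≫ AlgSt.spMapOfOver (BasedFunctor.comp e (FibCat.fpFst y w)))
  have hidU := AlgSp.repWith_id @Etale U
  have hcf : Flat c.left := q₁ r (𝟙 _) c hr hidU (by rw [Category.comp_id, hc])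
  have hcp : LocallyOfFinitePresentation c.left :=
    q₂ r (𝟙 _) c hr hidU (by rw [Category.comp_id, hc])
  have hcs : Surjective c.left := ⟨fun v => by
    obtain ⟨z, hz⟩ := q₃ (AlgSp.Points.schemeHomeo U v)
    obtain ⟨t, rfl⟩ := surjective_ofPt_of_repWith hrs z
    refine ⟨t, (AlgSp.Points.schemeHomeo U).injective ?_⟩
    rw [← hz, ofPt_eq_map, ← AlgSp.Points.map_comp, ← hc]
    exact (AlgSp.Points.map_yon_map_apply _ _).symm⟩
  refine ⟨Sieve.generate (Presieve.singleton c), generate_singleton_mem c, ?_⟩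
  rintro V h ⟨_, k, _, ⟨⟩, rfl⟩
  obtain ⟨z, ⟨α⟩⟩ := exists_lift_of_section y e r c hc
  obtain ⟨ε⟩ := nonempty_overMap_comp_iso k c
  exact ⟨BasedFunctor.comp (AlgSt.overMap k) z,
    ⟨(whiskerLeftIso (AlgSt.overMap k) α).trans (whiskerRightIso ε y)⟩⟩

/-- A property of the diagonal which is fppf local on the base descends along fppf surjections. -/
theorem repWith_diag_of_fpFst_cover' {P : MorphismProperty (AlgSp.Sp S)} (hb : StableBaseChange P)
    (hP : AlgSp.IsLocalOnBase AlgSp.IsFppfCover P)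
    {f : 𝒳 ⥤ᵇ 𝒴} (hf : AlgSt.RepByAlgSp1 (FibCat.diag f)) {w : 𝒲 ⥤ᵇ 𝒴}
    (h₁ : AlgSt.RepByAlgSpWith (AlgSp.LocP @Flat) w)
    (h₂ : AlgSt.RepByAlgSpWith (AlgSp.LocP @LocallyOfFinitePresentation) w)
    (h₃ : AlgSt.RepByAlgSpWith AlgSp.IsSurjectiveMor w)
    (h : AlgSt.RepByAlgSpWith P (FibCat.diag (FibCat.fpFst w f))) :
    AlgSt.RepByAlgSpWith P (FibCat.diag f) := by
  refine repWith_of_locally hb hP hf
    (g := diagBC w f) ?_ (repWith_fpFst_diagBC w f h)
  intro U z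
  obtain ⟨R, hR, hR'⟩ := exists_lift_of_fppf_surjective h₁ h₂ h₃ U
    (BasedFunctor.comp (BasedFunctor.comp z (FibCat.fpFst f f)) f)
  refine ⟨R, hR, fun V i hi => ?_⟩
  obtain ⟨zW, ⟨α⟩⟩ := hR' i hi
  exact exists_lift_diagBC w f (BasedFunctor.comp (AlgSt.overMap i) z) zW α

/-- An etale local property of the diagonal descends along fppf surjections. -/
theorem repWith_diag_of_fpFst_cover {P : MorphismProperty Scheme.{u}} [EtaleLocal P]
    {f : 𝒳 ⥤ᵇ 𝒴} (hf : AlgSt.RepByAlgSp1 (FibCat.diag f)) {w : 𝒲 ⥤ᵇ 𝒴}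
    (h₁ : AlgSt.RepByAlgSpWith (AlgSp.LocP @Flat) w)
    (h₂ : AlgSt.RepByAlgSpWith (AlgSp.LocP @LocallyOfFinitePresentation) w)
    (h₃ : AlgSt.RepByAlgSpWith AlgSp.IsSurjectiveMor w)
    (h : AlgSt.RepByAlgSpWith (AlgSp.LocP P) (FibCat.diag (FibCat.fpFst w f))) :
    AlgSt.RepByAlgSpWith (AlgSp.LocP P) (FibCat.diag f) :=
  repWith_diag_of_fpFst_cover' stableBaseChange_locP (isLocalOnBase_fppf_locP P) hf h₁ h₂ h₃ h

theorem repWith_locP_of_smooth {P : MorphismProperty Scheme.{u}}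
    (hP : ∀ ⦃A B : Scheme.{u}⦄ (f : A ⟶ B), Smooth f → P f) {f : 𝒳 ⥤ᵇ 𝒴}
    (h : AlgSt.RepByAlgSpWith (AlgSp.LocP @Smooth) f) : AlgSt.RepByAlgSpWith (AlgSp.LocP P) f :=
  repWith_mono (fun _ _ _ _ _ hp U V a b k ha hb comm => hP _ (hp a b k ha hb comm)) h

/-- A representable diagonal over the base is locally of finite type in the presence of a smooth
atlas, for any topology. -/
theorem repWith_lft_diag_toSelf' (h𝒳 : FibCat.IsFibGrpd 𝒳.p)
    (hd : AlgSt.RepByAlgSp1 (FibCat.diag (FibCat.toSelf 𝒳)))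
    (hat : AlgSt.HasAtlas (AlgSp.LocP @Smooth) 𝒳) :
    AlgSt.RepByAlgSpWith (AlgSp.LocP @LocallyOfFiniteType)
      (FibCat.diag (FibCat.toSelf 𝒳)) := by
  obtain ⟨U, x, hx, hxs⟩ := hat
  have hU : FibCat.IsFibGrpd (FibCat.overCat U).p := isFibGrpd_overCat U
  let t := FibCat.toSelf 𝒳
  let M := fpPre x x t t
  have hM₁ : AlgSt.RepByAlgSpWith (AlgSp.LocP @Flat) M :=
    repWith_fpPre hU h𝒳 hU isFibGrpd_selfOver stableBaseChange_locP stableComp_locP
      descendsAlongAtlas_locP x x t t (repWith_locP_of_smooth (P := @Flat) (fun _ _ f (_ : Smooth f) => inferInstance) hx)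
      (repWith_locP_of_smooth (P := @Flat) (fun _ _ f (_ : Smooth f) => inferInstance) hx)
  have hM₂ : AlgSt.RepByAlgSpWith (AlgSp.LocP @LocallyOfFinitePresentation) M :=
    repWith_fpPre hU h𝒳 hU isFibGrpd_selfOver stableBaseChange_locP stableComp_locP
      descendsAlongAtlas_locP x x t t (repWith_locP_of_smooth (P := @LocallyOfFinitePresentation) (fun _ _ f (_ : Smooth f) => inferInstance) hx)
      (repWith_locP_of_smooth (P := @LocallyOfFinitePresentation) (fun _ _ f (_ : Smooth f) => inferInstance) hx)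
  have hM₃ : AlgSt.RepByAlgSpWith AlgSp.IsSurjectiveMor M :=
    repWith_fpPre hU h𝒳 hU isFibGrpd_selfOver stableBaseChange_surjective stableComp_surjective
      descendsAlongAtlas_surjective x x t t hxs hxs
  refine repWith_of_locally stableBaseChange_locP (isLocalOnBase_fppf_locP _) hd (g := M)
    (fun V z => exists_lift_of_fppf_surjective hM₁ hM₂ hM₃ V z) ?_
  refine (repWith_precomp_equiv (isEquivOver_diagFp' x x t) _).1 ?_
  let T := FibCat.fpFst (BasedFunctor.comp x t) (BasedFunctor.comp x t)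
  have hT : AlgSt.RepByAlgSp1 T := by
    let C := fpCongr (selfIso (BasedFunctor.comp x t) (FibCat.toSelf (FibCat.overCat U)))
      (selfIso (BasedFunctor.comp x t) (FibCat.toSelf (FibCat.overCat U)))
    exact repByAlgSp1_of_iso (Iso.refl _) ((repByAlgSp1_precomp_iff (a := C) (isEquivOver_fpCongr _ _) _).2
      (repByAlgSp1_of_repByAlgSp (repByAlgSp_prod_overCat U U) (repByAlgSp_overCat U)
        (FibCat.fpFst _ _)))
  refine repWith_of_comp_cancel (g := T) (isFibGrpd_fp hU hU h𝒳) (isFibGrpd_fp hU hU isFibGrpd_selfOver)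
    stableBaseChange_locP (cancelRight_locP fun _ _ _ a b (hab : LocallyOfFiniteType (a ≫ b)) => locallyOfFiniteType_of_comp a b)
    ((repByAlgSp1_precomp_iff (isEquivOver_diagFp' x x t) _).2 (repByAlgSp1_fpFst _ _ hd)) hT ?_
  exact repWith_of_iso (Iso.refl _)
    (repWith_fpFst x x (repWith_locP_of_smooth (P := @LocallyOfFiniteType) (fun _ _ f (_ : Smooth f) => inferInstance) hx))

/-- The diagonal of an algebraic stack over the base is locally of finite type. -/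
theorem repWith_lft_diag_toSelf (hX : AlgSt.IsAlgStack Scheme.fppfPrecoverage 𝒳) :
    AlgSt.RepByAlgSpWith (AlgSp.LocP @LocallyOfFiniteType)
      (FibCat.diag (FibCat.toSelf 𝒳)) :=
  repWith_lft_diag_toSelf' hX.isStack.1 hX.diag hX.atlas

/-- The diagonal of a morphism of algebraic stacks is locally of finite type. -/
theorem repWith_lft_diag (hX : AlgSt.IsAlgStack Scheme.fppfPrecoverage 𝒳)
    (hY : AlgSt.IsAlgStack Scheme.fppfPrecoverage 𝒴) (f : 𝒳 ⥤ᵇ 𝒴) :
    AlgSt.RepByAlgSpWith (AlgSp.LocP @LocallyOfFiniteType) (FibCat.diag f) :=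
  repWith_diag_of_comp (g := FibCat.toSelf 𝒴) hX.isStack.1 hY.isStack.1 stableBaseChange_locP
    (cancelRight_locP fun _ _ _ a b (hab : LocallyOfFiniteType (a ≫ b)) => locallyOfFiniteType_of_comp a b)
    (repByAlgSp1_diag_of_diag hX.isStack.1 hY.isStack.1 hX.diag hY.diag f) hY.diag
    (by
      let T := BasedFunctor.comp f (FibCat.toSelf 𝒴)
      let σ : FibCat.toSelf 𝒳 ≅ T := selfIso _ _
      refine repWith_of_iso (f := BasedFunctor.comp (FibCat.diag (FibCat.toSelf 𝒳)) (fpCongr σ σ))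
        ?_ ((repWith_postcomp_equiv _ (isEquivOver_fpCongr σ σ)).2 (repWith_lft_diag_toSelf hX))
      exact fpIsoMk (Iso.refl _) (Iso.refl _) fun _ =>
        self_ext ((isVert_map (isVert_id _)).comp (fp_isVert _))
          ((fp_isVert _).comp (isVert_map (isVert_id _))))

/-- The graph of `g` over `q`, for an arbitrary comparison isomorphism. -/
theorem repWith_graph' {P : MorphismProperty (AlgSp.Sp S)} {p : 𝒳 ⥤ᵇ 𝒵} {q : 𝒴 ⥤ᵇ 𝒵}
    (g : 𝒳 ⥤ᵇ 𝒴) (e : BasedFunctor.comp (BasedFunctor.id 𝒳) p ≅ BasedFunctor.comp g q)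
    (h : AlgSt.RepByAlgSpWith P (FibCat.diag q)) :
    AlgSt.RepByAlgSpWith P (FibCat.fpLift (BasedFunctor.id 𝒳) g e) := by
  have h' := (repWith_postcomp_equiv _ (isEquivOver_fpCongr e.symm (Iso.refl q))).2 (repWith_graph g h)
  refine repWith_of_iso ?_ h'
  exact fpIsoMk (Iso.refl _) (Iso.refl _) fun _ => by simp [fpCongr]

/-- A section of `f` is a base change of the diagonal of `f`. -/
theorem repWith_section_of_diag {P : MorphismProperty (AlgSp.Sp S)} {f : 𝒳 ⥤ᵇ 𝒴} (s : 𝒴 ⥤ᵇ 𝒳)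
    (e : BasedFunctor.comp s f ≅ BasedFunctor.id 𝒴) (h : AlgSt.RepByAlgSpWith P (FibCat.diag f)) :
    AlgSt.RepByAlgSpWith P s :=
  repWith_of_iso (Iso.refl _) ((repWith_postcomp_equiv _ (isEquivOver_fpSnd_id f)).2
    (repWith_graph' (p := BasedFunctor.id 𝒴) s e.symm h))

/-- The comparison `𝒳 ×_𝒵 𝒴 ⟶ 𝒳 ×_𝒯 𝒴` is a base change of the diagonal of `t : 𝒵 ⟶ 𝒯`. -/
theorem repWith_fpComparison {P : MorphismProperty (AlgSp.Sp S)} {f : 𝒳 ⥤ᵇ 𝒵} {g : 𝒲 ⥤ᵇ 𝒵}
    {t : 𝒵 ⥤ᵇ 𝒴}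
    (e : BasedFunctor.comp (FibCat.fpFst f g) (BasedFunctor.comp f t) ≅
      BasedFunctor.comp (FibCat.fpSnd f g) (BasedFunctor.comp g t))
    (he : ∀ x, e.hom.toNatTrans.app x = t.map x.obj.iso.hom)
    (h : AlgSt.RepByAlgSpWith P (FibCat.diag t)) :
    AlgSt.RepByAlgSpWith P (FibCat.fpLift (FibCat.fpFst f g) (FibCat.fpSnd f g) e) := by
  refine repWith_of_iso ?_ (repWith_fpPost (F := f) (G := g) h)
  exact fpIsoMk (Iso.refl _) (Iso.refl _) fun x => by simp [fpPost]; exact he x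

end Groth.AlgStBasic
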