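import Groth.Agent.AlgStBasic.StPoints
import Groth.Agent.AlgStBasic.LocalLift
import Groth.Agent.AlgSpBasic.LocPInst
import Groth.Agent.AlgSpBasic.Points

/-!
# The topology on the points of an algebraic stack

Agreement with the points of algebraic spaces, continuity of charts and of maps, openness of
flat, locally finitely presented charts.
-/

set_option autoImplicit false
set_option backward.isDefEq.respectTransparency false
set_option backward.isDefEq.respectTransparency.types false

universe u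

open CategoryTheory CategoryTheory.Limits AlgebraicGeometry Opposite Topology
open Groth.StkBase Groth.AlgSpBasic

noncomputable section

namespace Groth.AlgStBasic

variable {S : Scheme.{u}} {𝒳 𝒴 𝒵 : AlgSt.Cat S}

section Space

variable {F G : AlgSp.Sp S}

/-- A field-valued point of a sheaf, read in the category of the sheaf. -/
def spFPt (p : AlgSp.FieldPt F) : AlgSt.FPt (AlgSt.ofSp F) :=
  { K := p.K, str := p.str, obj := ⟨p.pt, p.val⟩, lies := rfl }

theorem mk_spFPt_eq_of_rel {p q : AlgSp.FieldPt F} (h : AlgSp.FieldPt.Rel p q) :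
    AlgSt.Points.mk (spFPt p) = AlgSt.Points.mk (spFPt q) := by
  obtain ⟨Ω, hΩ, w, a, b, h⟩ := h
  exact AlgSt.Points.sound ⟨spFPt (⟨Ω, w, F.obj.map a.op p.val⟩ : AlgSp.FieldPt F),
    eltHom a rfl, eltHom b h.symm, trivial⟩

/-- The comparison of the points of a sheaf with the points of its category. -/
def spPt : AlgSp.Points F → AlgSt.Points (AlgSt.ofSp F) :=
  Quotient.lift (fun p => AlgSt.Points.mk (spFPt p)) fun _ _ h => mk_spFPt_eq_of_rel h

/-- A field-valued point of the category of a sheaf, read as a field-valued point of the sheaf. -/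
def stFieldPt (p : AlgSt.FPt (AlgSt.ofSp F)) : AlgSp.FieldPt F :=
  ⟨p.K, p.str, F.obj.map (eqToHom p.lies.symm).op p.obj.sec⟩

theorem bijective_spPt : Function.Bijective (spPt (F := F)) := by
  let inv : AlgSt.Points (AlgSt.ofSp F) → AlgSp.Points F :=
    Quot.lift (fun p => AlgSp.Points.mk (stFieldPt p)) fun p q h => by
      obtain ⟨r, a, b, -⟩ := h
      refine AlgSp.Points.sound ⟨r.K, r.field, r.str, baseHom (p := r) (q := p) a,
        baseHom (p := r) (q := q) b, ?_⟩
      simp only [stFieldPt]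
      refine (map_op_comp F.obj _ _ _).trans (Eq.trans ?_ (map_op_comp F.obj _ _ _).symm)
      refine Eq.trans ?_ (congrArg (fun t => F.obj.map t.op q.obj.sec)
        (show eqToHom r.lies.symm ≫ b.hom = baseHom b ≫ eqToHom q.lies.symm by simp [baseHom]))
      refine Eq.trans (congrArg (fun t => F.obj.map t.op p.obj.sec)
        (show baseHom a ≫ eqToHom p.lies.symm = eqToHom r.lies.symm ≫ a.hom by simp [baseHom])) ?_
      exact (map_op_comp F.obj _ _ _).symm.trans ((congrArg _ (a.map_sec.trans b.map_sec.symm)).trans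
        (map_op_comp F.obj _ _ _))
  refine Function.bijective_iff_has_inverse.2 ⟨inv, fun x => ?_, fun x => ?_⟩
  · induction x using AlgSp.Points.ind with
    | h p =>
      refine congrArg AlgSp.Points.mk ?_
      obtain ⟨K, str, val⟩ := p
      change (⟨K, str, _⟩ : AlgSp.FieldPt F) = ⟨K, str, val⟩
      congr 1
      exact map_op_id F.obj _ (eqToHom_refl _ _) val
  · obtain ⟨p, rfl⟩ := AlgSt.Points.mk_surjective x
    exact mk_eq_of_hom (p := spFPt (stFieldPt p)) (q := p)
      (eltHom (eqToHom p.lies.symm) rfl)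

/-- Maps of sheaves commute with the comparison of points. -/
theorem map_ofPshMap_spPt (φ : F ⟶ G) (x : AlgSp.Points F) :
    AlgSt.Points.map (AlgSt.ofSpMap φ) (spPt x) = spPt (AlgSp.Points.map φ x) := by
  induction x using AlgSp.Points.ind with
  | h p => rfl

/-- The point of the scheme under a point of a space mapping to a slice. -/
theorem ptToScheme_map_spPt {U : Over S} (Φ : AlgSt.ofSp F ⥤ᵇ FibCat.overCat U)
    (x : AlgSp.Points F) :
    ptToScheme U (AlgSt.Points.map Φ (spPt x)) =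
      AlgSp.Points.toScheme U (AlgSp.Points.map (AlgSt.spMapOfOver Φ) x) := by
  induction x using AlgSp.Points.ind with
  | h p => rfl

end Space

/-- The points of the base change of `f` to a scheme, as points of an algebraic space over it. -/
theorem preimage_image_chart (hX : FibCat.IsFibGrpd 𝒳.p) (hY : FibCat.IsFibGrpd 𝒴.p)
    (f : 𝒳 ⥤ᵇ 𝒴) {T : Over S} (y : FibCat.overCat T ⥤ᵇ 𝒴) {F : AlgSp.Sp S}
    (e : AlgSt.ofSp F ⥤ᵇ FibCat.fp y f) (he : FibCat.IsEquivOver e)
    (W : Set (AlgSt.Points 𝒳)) :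
    AlgSt.Points.ofChart y ⁻¹' (AlgSt.Points.map f '' W) =
      AlgSp.Points.toScheme T ''
        (AlgSp.Points.map (AlgSt.spMapOfOver (BasedFunctor.comp e (FibCat.fpFst y f))) ''
          ((fun x => AlgSt.Points.map (BasedFunctor.comp e (FibCat.fpSnd y f)) (spPt x)) ⁻¹' W)) := by
  have hr := range_map_fpFst hX hY (isFibGrpd_overCat T) f y W
  ext t
  constructor
  · intro ht
    have ht' : AlgSt.Points.ofChart (BasedFunctor.id _) t ∈
        AlgSt.Points.map y ⁻¹' (AlgSt.Points.map f '' W) := by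
      rw [Set.mem_preimage, ← ofChart_eq_map]; exact ht
    rw [hr] at ht'
    obtain ⟨w, hw, e₁⟩ := ht'
    obtain ⟨v, rfl⟩ := (bijective_map_of_isEquivOver he).2 w
    obtain ⟨x, rfl⟩ := bijective_spPt.2 v
    refine ⟨_, ⟨x, ?_, rfl⟩, ?_⟩
    · rw [Set.mem_preimage, map_comp]; exact hw
    · rw [← ptToScheme_map_spPt, map_comp, e₁, ptToScheme_ofChart_id]
  · rintro ⟨_, ⟨x, hx, rfl⟩, rfl⟩
    rw [Set.mem_preimage, ← ptToScheme_map_spPt, ofChart_eq_map, ofChart_id_ptToScheme, ← map_comp]
    refine ⟨_, hx, ?_⟩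
    rw [← map_comp]
    exact congrFun (map_eq_of_iso (whiskerLeftIso e (FibCat.fpIso y f)).symm) _

/-- A point is the image of the point of the spectrum of a field. -/
theorem exists_chart_through (hX : FibCat.IsFibGrpd 𝒳.p) (z : AlgSt.Points 𝒳) :
    ∃ (T : Over S) (_ : IsAffine T.left) (x : FibCat.overCat T ⥤ᵇ 𝒳) (t : ↥T.left),
      AlgSt.Points.ofChart x t = z ∧ ∀ q, AlgSt.Points.map x q = z := by
  obtain ⟨p, rfl⟩ := AlgSt.Points.mk_surjective z
  let T := Over.mk p.str
  obtain ⟨i, hi⟩ := overFunctor_eval hX p.obj p.lies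
  let x := overFunctor hX p.obj p.lies
  have key : ∀ q, AlgSt.Points.map x q = AlgSt.Points.mk p := by
    intro q
    have h1 : q = AlgSt.Points.mk
        ({ K := p.K, str := p.str, obj := idObj T, lies := rfl } : AlgSt.FPt (FibCat.overCat T)) := by
      rw [← ofChart_id_ptToScheme q]
      conv_rhs => rw [← ofChart_id_ptToScheme (AlgSt.Points.mk _)]
      exact congrArg _ (Subsingleton.elim (α := PrimeSpectrum p.K) _ _)
    rw [h1]
    exact mk_eq_of_hom (p := AlgSt.FPt.map x _) (q := p) i.hom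
  exact ⟨T, inferInstanceAs (IsAffine (Spec (CommRingCat.of p.K))), x,
    IsLocalRing.closedPoint p.K, (ofChart_eq_map x _).trans (key _), key⟩

/-- A functor representable by algebraic spaces is surjective on points iff its base changes are. -/
theorem isSurjective_iff_repWith (hX : FibCat.IsFibGrpd 𝒳.p) (hY : FibCat.IsFibGrpd 𝒴.p)
    {f : 𝒳 ⥤ᵇ 𝒴} (hf : AlgSt.RepByAlgSp1 f) :
    AlgSt.IsSurjective f ↔ AlgSt.RepByAlgSpWith AlgSp.IsSurjectiveMor f := by
  constructor
  · intro h U y
    obtain ⟨F, e, he⟩ := hf U y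
    refine ⟨F, e, he, fun z => ?_⟩
    have := (Set.ext_iff.1 (preimage_image_chart hX hY f y e he Set.univ)
      (AlgSp.Points.toScheme U z)).1 (by rw [Set.mem_preimage, Set.image_univ]; exact h _)
    obtain ⟨_, ⟨x, -, rfl⟩, e₂⟩ := this
    refine ⟨x, ?_⟩
    rw [← AlgSp.Points.ofScheme_toScheme U z, ← e₂, AlgSp.Points.ofScheme_toScheme]
  · intro h z
    obtain ⟨T, -, y, t, rfl, -⟩ := exists_chart_through hY z
    obtain ⟨F, e, he⟩ := hf T y
    obtain ⟨x, hx⟩ := prop_of_repWith_fp stableBaseChange_surjective h y F e he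
      (AlgSp.Points.ofScheme T t)
    have := (Set.ext_iff.1 (preimage_image_chart hX hY f y e he Set.univ) t).2
      ⟨_, ⟨x, trivial, rfl⟩, by rw [hx, AlgSp.Points.toScheme_ofScheme]⟩
    rw [Set.mem_preimage, Set.image_univ] at this
    exact this

/-- Points of a scheme are lifted by a smooth, surjective map of schemes along a smooth atlas. -/
theorem exists_smooth_cover_lift {U : Over S} {x : FibCat.overCat U ⥤ᵇ 𝒳}
    (hx : AlgSt.RepByAlgSpWith (AlgSp.LocP @Smooth) x)
    (hxs : AlgSt.RepByAlgSpWith AlgSp.IsSurjectiveMor x) {T : Over S}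
    (y : FibCat.overCat T ⥤ᵇ 𝒳) :
    ∃ (W : Over S) (c : W ⟶ T) (a : W ⟶ U), Smooth c.left ∧ Surjective c.left ∧
      Nonempty (BasedFunctor.comp (AlgSt.overMap a) x ≅ BasedFunctor.comp (AlgSt.overMap c) y) := by
  obtain ⟨F, e, he⟩ := repWith_repByAlgSp1 hx T y
  have q₁ := prop_of_repWith_fp stableBaseChange_locP hx y F e he
  have q₂ := prop_of_repWith_fp stableBaseChange_surjective hxs y F e he
  obtain ⟨W, r, hr, hrs⟩ := F.property.atlas
  obtain ⟨c, hc⟩ := (AlgSp.yon S).map_surjective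
    (r ≫ AlgSt.spMapOfOver (BasedFunctor.comp e (FibCat.fpFst y x)))
  have hcm : Smooth c.left :=
    q₁ r (𝟙 _) c hr (AlgSp.repWith_id @Etale T) (by rw [Category.comp_id, hc])
  have hcs : Surjective c.left := ⟨fun v => by
    obtain ⟨z, hz⟩ := q₂ (AlgSp.Points.schemeHomeo T v)
    obtain ⟨t, rfl⟩ := surjective_ofPt_of_repWith hrs z
    refine ⟨t, (AlgSp.Points.schemeHomeo T).injective ?_⟩
    rw [← hz, ofPt_eq_map, ← AlgSp.Points.map_comp, ← hc]
    exact (AlgSp.Points.map_yon_map_apply _ _).symm⟩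
  obtain ⟨z, ⟨α⟩⟩ := exists_lift_of_section y e r c hc
  let a : W ⟶ U := eqToHom (z.w_obj (idObj W)).symm ≫ (z.obj (idObj W)).hom
  have hz : Nonempty (z ≅ AlgSt.overMap a) := by
    refine (nonempty_overIso_iff (isFibGrpd_overCat U) _ _).2
      ⟨Over.homMk (eqToHom (z.w_obj (idObj W))) ?_, z.w_obj (idObj W), rfl⟩
    show eqToHom _ ≫ 𝟙 W ≫ a = _
    simp [a]
  exact ⟨W, c, a, hcm, hcs, ⟨(whiskerRightIso hz.some x).symm.trans α⟩⟩

/-- Every chart of an algebraic stack is continuous on points. -/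
theorem continuous_ofChart (hX : AlgSt.IsAlgStack Scheme.fppfPrecoverage 𝒳) {T : Over S}
    (y : FibCat.overCat T ⥤ᵇ 𝒳) : Continuous (AlgSt.Points.ofChart y) := by
  obtain ⟨U, x, hx, hxs⟩ := hX.atlas
  obtain ⟨W, c, a, hc, hcs, ⟨α⟩⟩ := exists_smooth_cover_lift hx hxs y
  refine continuous_def.2 fun O hO => ?_
  have hq : IsQuotientMap c.left :=
    (c.left.isOpenMap).isQuotientMap c.left.continuous hcs.surj
  rw [← hq.isCoinducing.isOpen_preimage]
  have e : c.left ⁻¹' (AlgSt.Points.ofChart y ⁻¹' O) =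
      a.left ⁻¹' (AlgSt.Points.ofChart x ⁻¹' O) := by
    ext w
    simp only [Set.mem_preimage]
    rw [← ofChart_overMap, ← ofChart_overMap, ofChart_eq_of_iso α]
  rw [e]
  exact (hO U x hx).preimage a.left.continuous

/-- Maps of algebraic stacks are continuous on points. -/
theorem continuous_map (hY : AlgSt.IsAlgStack Scheme.fppfPrecoverage 𝒴) (f : 𝒳 ⥤ᵇ 𝒴) :
    Continuous (AlgSt.Points.map f) := by
  refine continuous_def.2 fun O hO => ?_
  intro U x _
  exact (continuous_ofChart hY (BasedFunctor.comp x f)).isOpen_preimage _ hO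

/-- A flat, locally finitely presented chart is open on points. -/
theorem isOpenMap_ofChart (hX : FibCat.IsFibGrpd 𝒳.p) {U : Over S}
    {x : FibCat.overCat U ⥤ᵇ 𝒳} (h₁ : AlgSt.RepByAlgSpWith (AlgSp.LocP @Flat) x)
    (h₂ : AlgSt.RepByAlgSpWith (AlgSp.LocP @LocallyOfFinitePresentation) x) :
    IsOpenMap (AlgSt.Points.ofChart x) := by
  intro V hV T y _
  obtain ⟨F, e, he⟩ := repWith_repByAlgSp1 h₁ T y
  have him : AlgSt.Points.ofChart x '' V = AlgSt.Points.map x '' (ptToScheme U ⁻¹' V) := by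
    ext p
    constructor
    · rintro ⟨u, hu, rfl⟩
      exact ⟨AlgSt.Points.ofChart (BasedFunctor.id _) u,
        by rw [Set.mem_preimage, ptToScheme_ofChart_id]; exact hu, (ofChart_eq_map x u).symm⟩
    · rintro ⟨q, hq, rfl⟩
      exact ⟨_, hq, by rw [ofChart_eq_map, ofChart_id_ptToScheme]⟩
  rw [him, preimage_image_chart (isFibGrpd_overCat U) hX x y e he]
  let q := AlgSt.spMapOfOver (BasedFunctor.comp e (FibCat.fpFst y x))
  let s := AlgSt.spMapOfOver (BasedFunctor.comp e (FibCat.fpSnd y x))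
  have hopen : IsOpen ((fun z => AlgSt.Points.map (BasedFunctor.comp e (FibCat.fpSnd y x)) (spPt z)) ⁻¹'
      (ptToScheme U ⁻¹' V)) := by
    have : IsOpen (AlgSp.Points.map s ⁻¹' (AlgSp.Points.toScheme U ⁻¹' V)) :=
      (hV.preimage (AlgSp.Points.schemeHomeo U).continuous_invFun).preimage
        (AlgSp.Points.continuous_map s)
    convert this using 1
    ext z
    simp only [Set.mem_preimage]
    rw [ptToScheme_map_spPt]
  exact (AlgSp.Points.schemeHomeo T).symm.isOpenMap _
    (isOpenMap_map_of_locP F.property (AlgSp.IsAlgSpace.yon_obj T)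
      (prop_of_repWith_fp stableBaseChange_locP h₁ y F e he)
      (prop_of_repWith_fp stableBaseChange_locP h₂ y F e he) _ hopen)

/-- A flat, locally finitely presented map from an algebraic space is open on points. -/
theorem isOpenMap_map_of_space (hX : FibCat.IsFibGrpd 𝒳.p) (U : AlgSp.Space S)
    {u : AlgSt.ofSp U.obj ⥤ᵇ 𝒳} (h₁ : AlgSt.RepByAlgSpWith (AlgSp.LocP @Flat) u)
    (h₂ : AlgSt.RepByAlgSpWith (AlgSp.LocP @LocallyOfFinitePresentation) u)
    (hU : AlgSt.IsAlgStack Scheme.fppfPrecoverage (AlgSt.ofSp U.obj)) :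
    IsOpenMap (AlgSt.Points.map u) := by
  obtain ⟨W, x, hx, hxs⟩ := hU.atlas
  have hW : FibCat.IsFibGrpd (FibCat.overCat W).p := isFibGrpd_overCat W
  have hxs' := (isSurjective_iff_repWith hW hU.isStack.1 (repWith_repByAlgSp1 hx)).2 hxs
  intro O hO
  have e : AlgSt.Points.map u '' O =
      AlgSt.Points.ofChart (BasedFunctor.comp x u) '' (AlgSt.Points.ofChart x ⁻¹' O) := by
    ext p
    constructor
    · rintro ⟨z, hz, rfl⟩
      obtain ⟨v, rfl⟩ := hxs' z
      obtain ⟨w, rfl⟩ := bijective_ofChart_id.2 v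
      exact ⟨w, by rw [Set.mem_preimage, ofChart_eq_map]; exact hz,
        by rw [ofChart_eq_map, map_comp]⟩
    · rintro ⟨w, hw, rfl⟩
      exact ⟨_, hw, by rw [ofChart_eq_map (BasedFunctor.comp x u), map_comp, ← ofChart_eq_map]⟩
  rw [e]
  refine isOpenMap_ofChart hX ?_ ?_ _ (hO W x hx)
  · exact repWith_comp' hW hU.isStack.1 stableBaseChange_locP stableComp_locP descendsAlongAtlas_locP
      (repWith_locP_of_smooth (P := @Flat) (fun _ _ f (_ : Smooth f) => inferInstance) hx) h₁
  · exact repWith_comp' hW hU.isStack.1 stableBaseChange_locP stableComp_locP descendsAlongAtlas_locP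
      (repWith_locP_of_smooth (P := @LocallyOfFinitePresentation)
        (fun _ _ f (_ : Smooth f) => inferInstance) hx) h₂

/-- An atlas is surjective on the points of the stack. -/
theorem surjective_ofChart (hX : FibCat.IsFibGrpd 𝒳.p) {U : Over S} {x : FibCat.overCat U ⥤ᵇ 𝒳}
    (hxs : AlgSt.RepByAlgSpWith AlgSp.IsSurjectiveMor x) :
    Function.Surjective (AlgSt.Points.ofChart x) := by
  intro z
  obtain ⟨v, rfl⟩ :=
    (isSurjective_iff_repWith (isFibGrpd_overCat U) hX (repWith_repByAlgSp1 hxs)).2 hxs z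
  exact ⟨ptToScheme U v, by rw [ofChart_eq_map, ofChart_id_ptToScheme]⟩

/-- A smooth atlas is open on points. -/
theorem isOpenMap_ofChart_of_smooth (hX : FibCat.IsFibGrpd 𝒳.p) {U : Over S}
    {x : FibCat.overCat U ⥤ᵇ 𝒳} (hx : AlgSt.RepByAlgSpWith (AlgSp.LocP @Smooth) x) :
    IsOpenMap (AlgSt.Points.ofChart x) :=
  isOpenMap_ofChart hX
    (repWith_locP_of_smooth (P := @Flat) (fun _ _ f (_ : Smooth f) => inferInstance) hx)
    (repWith_locP_of_smooth (P := @LocallyOfFinitePresentation)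
      (fun _ _ f (_ : Smooth f) => inferInstance) hx)

/-- Every neighbourhood of a point of an algebraic stack contains an open quasi-compact one. -/
theorem exists_isOpen_isCompact_nhd (hX : AlgSt.IsAlgStack Scheme.fppfPrecoverage 𝒳)
    (z : AlgSt.Points 𝒳) {W : Set (AlgSt.Points 𝒳)} (hW : IsOpen W) (hz : z ∈ W) :
    ∃ O, IsOpen O ∧ IsCompact O ∧ z ∈ O ∧ O ⊆ W := by
  obtain ⟨U, x, hx, hxs⟩ := hX.atlas
  obtain ⟨u, rfl⟩ := surjective_ofChart hX.isStack.1 hxs z
  obtain ⟨V, hV, hu, hVW⟩ := exists_isAffineOpen_mem_and_subset (X := U.left) (x := u)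
    (U := ⟨_, hW.preimage (continuous_ofChart hX x)⟩) hz
  exact ⟨_, isOpenMap_ofChart_of_smooth hX.isStack.1 hx _ V.isOpen,
    hV.isCompact.image (continuous_ofChart hX x), ⟨u, hu, rfl⟩, Set.image_subset_iff.2 hVW⟩

end Groth.AlgStBasic
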