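import Groth.Agent.AlgStBasic.SmoothDescent
import Groth.Agent.AlgSpBasic.LocP

/-!
# Smooth morphisms of schemes are etale local on source and target
-/

set_option autoImplicit false
set_option backward.isDefEq.respectTransparency.types false
universe u

open CategoryTheory CategoryTheory.Limits AlgebraicGeometry TensorProduct

namespace Groth.AlgStBasic

/-- Smoothness descends along étale surjections on the source. -/
theorem smooth_of_comp_etale_surjective {W X Z : Scheme.{u}} (χ : W ⟶ X) (h : X ⟶ Z)
    [Surjective χ] [Etale χ] [Smooth (χ ≫ h)] : Smooth h := by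
  refine (Groth.AlgSpBasic.SourceDescent.of_comp_surjective_of_ring
    @Smooth @Etale (fun _ _ f (_ : Etale f) => f.isOpenMap) ?_ χ h inferInstance inferInstance)
  intro A B C f g hg hs hfg
  algebraize [f.hom, g.hom, g.hom.comp f.hom]
  have : Algebra.Etale B C := hg.toAlgebra
  have : Algebra.Smooth A C := hfg.toAlgebra
  have : Module.FaithfullyFlat B C := .of_comap_surjective hs
  have : Algebra.Smooth B C := inferInstance
  have : Algebra.FinitePresentation A B :=
    Groth.AlgSpBasic.SourceDescent.finitePresentation_of_smooth_surjective A B C hs
  exact RingHom.smooth_algebraMap.2 (SmoothDescent.smooth_of_etale_faithfullyFlat A B C)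

instance smooth_etaleLocal : Groth.AlgSpBasic.EtaleLocal @Smooth.{u} where
  of_etale _ _ f (_ : Etale f) := inferInstance
  localAtTarget := inferInstance
  of_comp_surjective _ _ _ χ h _ _ (_ : Smooth (χ ≫ h)) := smooth_of_comp_etale_surjective χ h

end Groth.AlgStBasic
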