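import Groth.Agent.AlgStBasic.PropDescend
import Groth.Agent.AlgStBasic.RepStack
import Groth.Agent.AlgStBasic.SmoothLocal
import Groth.Agent.AlgSpBasic.LocP

/-!
# Atlases; algebraic stacks are stable under fibre products
-/

set_option autoImplicit false
set_option backward.isDefEq.respectTransparency false
set_option backward.isDefEq.respectTransparency.types false

universe u

open CategoryTheory CategoryTheory.Limits AlgebraicGeometry Opposite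
open Groth.StkBase

namespace Groth.AlgStBasic

variable {S : Scheme.{u}}

section Props

variable {P : MorphismProperty Scheme.{u}} [Groth.AlgSpBasic.EtaleLocal P]

theorem stableBaseChange_locP : StableBaseChange (AlgSp.LocP (S := S) P) :=
  fun _ _ _ _ hX₁ hY₁ _ hY₂ _ _ _ _ sq h =>
    Groth.AlgSpBasic.locP_of_isPullback hX₁ hY₁ hY₂ sq h

theorem stableComp_locP : StableComp (AlgSp.LocP (S := S) P) :=
  fun _ _ _ hX hY hZ _ _ hf hg => Groth.AlgSpBasic.locP_comp hX hY hZ hf hg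

theorem descendsAlongAtlas_locP : DescendsAlongAtlas (AlgSp.LocP (S := S) P) :=
  fun _ _ _ _ _ _ _ _ hX hY he hs _ sq hp =>
    Groth.AlgSpBasic.locP_of_target_cover hX hY he hs sq hp

theorem stableBaseChange_surjective : StableBaseChange (AlgSp.IsSurjectiveMor (S := S)) := by
  intro X₁ Y₁ X₂ Y₂ _ _ _ _ a b a' b' sq h y
  obtain ⟨x, hx⟩ := h (AlgSp.Points.map b y)
  obtain ⟨z, -, hz⟩ := Groth.AlgSpBasic.exists_point_of_isPullback sq x y hx
  exact ⟨z, hz⟩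

theorem stableComp_surjective : StableComp (AlgSp.IsSurjectiveMor (S := S)) := by
  intro X Y Z _ _ _ a b ha hb z
  obtain ⟨y, rfl⟩ := hb z
  obtain ⟨x, rfl⟩ := ha y
  exact ⟨x, AlgSp.Points.map_comp a b x⟩

theorem descendsAlongAtlas_surjective : DescendsAlongAtlas (AlgSp.IsSurjectiveMor (S := S)) := by
  intro X Y π W q Q fst snd _ _ _ hs _ sq h y
  obtain ⟨w, rfl⟩ := Groth.AlgSpBasic.surjective_map_of_repWith hs y
  obtain ⟨z, rfl⟩ := h w
  exact ⟨AlgSp.Points.map fst z, by rw [← AlgSp.Points.map_comp, ← AlgSp.Points.map_comp, sq.w]⟩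

theorem repBySpWith_of_repWith {Q : MorphismProperty (AlgSp.Sp S)} {F G : AlgSp.Sp S}
    {q : F ⟶ G} {R : MorphismProperty Scheme.{u}} (hq : AlgSp.RepWith R q)
    (h : ∀ ⦃F' : AlgSp.Sp S⦄ ⦃U : Over S⦄ (snd : F' ⟶ (AlgSp.yon S).obj U),
      AlgSp.RepWith R snd → Q snd) : AlgSp.RepBySpWith Q q.hom :=
  (AlgSp.repBySpWith_hom_iff Q q).2 fun U ξ F' fst snd sq => by
    obtain ⟨V, snd', fst', sq'⟩ := hq.rep ξ
    exact ⟨(AlgSp.IsAlgSpace.yon_obj V).of_iso (sq'.isoIsPullback _ _ sq),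
      h snd (Groth.AlgSpBasic.repWith_of_isPullback sq hq)⟩

theorem repByAlgSpWith_locP_of_repWith {F G : AlgSp.Sp S} {q : F ⟶ G} (hq : AlgSp.RepWith P q) :
    AlgSt.RepByAlgSpWith (AlgSp.LocP P) (AlgSt.ofSpMap q) :=
  repByAlgSpWith_ofPshMap (repBySpWith_of_repWith hq fun _ _ _ h =>
    Groth.AlgSpBasic.locP_of_repWith h)

theorem repByAlgSpWith_surjective_of_repWith {F G : AlgSp.Sp S} {q : F ⟶ G}
    (hq : AlgSp.RepWith @Surjective q) :
    AlgSt.RepByAlgSpWith AlgSp.IsSurjectiveMor (AlgSt.ofSpMap q) :=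
  repByAlgSpWith_ofPshMap (repBySpWith_of_repWith hq fun _ _ _ h =>
    Groth.AlgSpBasic.surjective_map_of_repWith h)

/-- An atlas from an algebraic space gives an atlas from a scheme. -/
theorem hasAtlas_of_space {𝒳 : AlgSt.Cat S} {F : AlgSp.Space S} (u : AlgSt.ofSp F.obj ⥤ᵇ 𝒳)
    (hu : AlgSt.RepByAlgSpWith (AlgSp.LocP P) u)
    (hs : AlgSt.RepByAlgSpWith AlgSp.IsSurjectiveMor u) :
    AlgSt.HasAtlas (AlgSp.LocP P) 𝒳 := by
  obtain ⟨V, q, hqe, hqs⟩ := F.property.atlas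
  have hV := (isFibSetoid_ofPsh ((AlgSp.yon S).obj V).obj).1
  have hF := (isFibSetoid_ofPsh F.obj.obj).1
  refine ⟨V, BasedFunctor.comp (AlgSt.ofOverCat V) (BasedFunctor.comp (AlgSt.ofSpMap q) u),
    (repWith_precomp_equiv (isEquivOver_ofOverCat V) _).2 ?_,
    (repWith_precomp_equiv (isEquivOver_ofOverCat V) _).2 ?_⟩
  · exact repWith_comp' hV hF stableBaseChange_locP stableComp_locP descendsAlongAtlas_locP
      (repByAlgSpWith_locP_of_repWith (Groth.AlgSpBasic.repWith_mono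
        (fun _ _ φ hφ => Groth.AlgSpBasic.EtaleLocal.of_etale φ hφ) hqe)) hu
  · exact repWith_comp' hV hF stableBaseChange_surjective stableComp_surjective
      descendsAlongAtlas_surjective (repByAlgSpWith_surjective_of_repWith hqs) hs

theorem hasAtlas_of_repByAlgSp {𝒳 : AlgSt.Cat S} (h : AlgSt.RepByAlgSp 𝒳) :
    AlgSt.HasAtlas (AlgSp.LocP P) 𝒳 := by
  obtain ⟨F, e, he⟩ := h
  obtain ⟨V, q, hqe, hqs⟩ := F.property.atlas
  exact ⟨V, BasedFunctor.comp (AlgSt.ofOverCat V) (BasedFunctor.comp (AlgSt.ofSpMap q) e),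
    (repWith_precomp_equiv (isEquivOver_ofOverCat V) _).2 ((repWith_postcomp_equiv _ he).2
      (repByAlgSpWith_locP_of_repWith (Groth.AlgSpBasic.repWith_mono
        (fun _ _ φ hφ => Groth.AlgSpBasic.EtaleLocal.of_etale φ hφ) hqe))),
    (repWith_precomp_equiv (isEquivOver_ofOverCat V) _).2 ((repWith_postcomp_equiv _ he).2
      (repByAlgSpWith_surjective_of_repWith hqs))⟩

/-- An atlas pulls back along a functor representable by algebraic spaces. -/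
theorem hasAtlas_of_repByAlgSp1 {𝒳 𝒴 : AlgSt.Cat S} (hX : FibCat.IsFibGrpd 𝒳.p)
    (hY : FibCat.IsFibGrpd 𝒴.p) (j : 𝒳 ⥤ᵇ 𝒴) (hj : AlgSt.RepByAlgSp1 j)
    (h : AlgSt.HasAtlas (AlgSp.LocP P) 𝒴) : AlgSt.HasAtlas (AlgSp.LocP P) 𝒳 := by
  obtain ⟨U, u, hu, hus⟩ := h
  obtain ⟨F, e, he⟩ := repByAlgSp_fp hX hY j u hj (repByAlgSp_overCat U)
  exact hasAtlas_of_space (BasedFunctor.comp e (FibCat.fpSnd u j))
    ((repWith_precomp_equiv he _).2 (repWith_fpSnd u j hu))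
    ((repWith_precomp_equiv he _).2 (repWith_fpSnd u j hus))

theorem hasAtlas_fp {𝒳 𝒴 𝒵 : AlgSt.Cat S} (hX : FibCat.IsFibGrpd 𝒳.p) (hY : FibCat.IsFibGrpd 𝒴.p)
    (hZ : FibCat.IsFibGrpd 𝒵.p) (dZ : AlgSt.RepByAlgSp1 (FibCat.diag (FibCat.toSelf 𝒵)))
    (f : 𝒳 ⥤ᵇ 𝒵) (g : 𝒴 ⥤ᵇ 𝒵) (ha : AlgSt.HasAtlas (AlgSp.LocP P) 𝒳)
    (hb : AlgSt.HasAtlas (AlgSp.LocP P) 𝒴) : AlgSt.HasAtlas (AlgSp.LocP P) (FibCat.fp f g) := by
  obtain ⟨U, a, ha, has⟩ := ha
  obtain ⟨V, b, hb, hbs⟩ := hb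
  obtain ⟨F, e, he⟩ := repByAlgSp_fp (isFibGrpd_overCat V) hZ (BasedFunctor.comp b g)
    (BasedFunctor.comp a f) ((repByAlgSp1_diag_iff hZ).1 dZ V _) (repByAlgSp_overCat U)
  exact hasAtlas_of_space (BasedFunctor.comp e (fpPre a b f g))
    ((repWith_precomp_equiv he _).2 (repWith_fpPre (isFibGrpd_overCat U) hX (isFibGrpd_overCat V) hZ
      stableBaseChange_locP stableComp_locP descendsAlongAtlas_locP a b f g ha hb))
    ((repWith_precomp_equiv he _).2 (repWith_fpPre (isFibGrpd_overCat U) hX (isFibGrpd_overCat V) hZ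
      stableBaseChange_surjective stableComp_surjective descendsAlongAtlas_surjective a b f g has hbs))

end Props

section AlgStack

variable {𝒳 𝒴 𝒵 : AlgSt.Cat S}

theorem isAlgStack_of_repByAlgSp (h : AlgSt.RepByAlgSp 𝒳) :
    AlgSt.IsAlgStack Scheme.fppfPrecoverage 𝒳 where
  isStack := isStack_of_repByAlgSp h
  diag := (repByAlgSp1_diag_iff (isFibGrpd_of_repByAlgSp h)).2 fun U x =>
    repByAlgSp1_of_repByAlgSp (repByAlgSp_overCat U) h x
  atlas := hasAtlas_of_repByAlgSp h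

theorem hasAtlas_isEtaleMor_iff (𝒳 : AlgSt.Cat S) :
    AlgSt.HasAtlas (AlgSp.IsEtaleMor (S := S)) 𝒳 ↔ AlgSt.HasAtlas (AlgSp.LocP (S := S) @Etale) 𝒳 := by
  constructor <;> rintro ⟨U, x, h, hs⟩
  · exact ⟨U, x, repWith_mono (fun _ _ _ _ _ h => Groth.AlgSpBasic.locP_of_isEtaleMor h) h, hs⟩
  · exact ⟨U, x, repWith_mono (fun _ _ _ _ hY h => Groth.AlgSpBasic.isEtaleMor_of_locP hY h) h, hs⟩

theorem isDM_of_repByAlgSp (h : AlgSt.RepByAlgSp 𝒳) : AlgSt.IsDM Scheme.fppfPrecoverage 𝒳 :=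
  ⟨isAlgStack_of_repByAlgSp h, (hasAtlas_isEtaleMor_iff 𝒳).2 (hasAtlas_of_repByAlgSp h)⟩

theorem isAlgStack_of_repByAlgSp1 (hX : FibCat.IsFibGrpd 𝒳.p)
    (hY : AlgSt.IsAlgStack Scheme.fppfPrecoverage 𝒴) (j : 𝒳 ⥤ᵇ 𝒴) (hj : AlgSt.RepByAlgSp1 j) :
    AlgSt.IsAlgStack Scheme.fppfPrecoverage 𝒳 where
  isStack := isStack_of_repByAlgSp1 hX hY.isStack j hj
  diag := repByAlgSp1_diag_of_repByAlgSp1 hX hY.isStack.1 hj hY.diag
  atlas := hasAtlas_of_repByAlgSp1 hX hY.isStack.1 j hj hY.atlas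

theorem isAlgStack_fp (hZ : Stk.IsStack (AlgSp.J S) 𝒵)
    (dZ : AlgSt.RepByAlgSp1 (FibCat.diag (FibCat.toSelf 𝒵)))
    (hX : AlgSt.IsAlgStack Scheme.fppfPrecoverage 𝒳) (hY : AlgSt.IsAlgStack Scheme.fppfPrecoverage 𝒴)
    (f : 𝒳 ⥤ᵇ 𝒵) (g : 𝒴 ⥤ᵇ 𝒵) : AlgSt.IsAlgStack Scheme.fppfPrecoverage (FibCat.fp f g) where
  isStack := isStack_fp (AlgSp.J S) hX.isStack hY.isStack (isPrestack_of_isStack hZ)
  diag := repByAlgSp1_diag_fp hX.isStack.1 hY.isStack.1 hZ.1 hX.diag hY.diag dZ f g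
  atlas := hasAtlas_fp hX.isStack.1 hY.isStack.1 hZ.1 dZ f g hX.atlas hY.atlas

theorem isStack_selfOver : Stk.IsStack (AlgSp.J S) (FibCat.selfOver (Over S)) := by
  let T : AlgSp.PSp S := ⊤_ (AlgSp.PSp S)
  have hT : ∀ W, Nonempty (Unique (T.obj W)) := fun W => by
    have : IsTerminal (T.obj W) := IsTerminal.isTerminalObj ((evaluation _ _).obj W) _ terminalIsTerminal
    exact ⟨Types.isTerminalEquivUnique _ this⟩
  refine (isStack_iff_of_isEquivOver (AlgSp.J S) (isEquivOver_toSelf_ofPsh_of_unique T hT)).1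
    ((isStack_ofPsh_iff _ _).2 fun U R _ x _ => ?_)
  obtain ⟨hu⟩ := hT (op U)
  have hs : ∀ V, Subsingleton (T.obj V) := fun V => (hT V).elim fun h => @Unique.instSubsingleton _ h
  exact ⟨hu.default, fun V i hi => (hs _).elim _ _, fun t _ => (hs _).elim _ _⟩

theorem repByAlgSp1_diag_selfOver :
    AlgSt.RepByAlgSp1 (FibCat.diag (FibCat.toSelf (FibCat.selfOver (Over S)))) :=
  (repByAlgSp1_diag_iff isFibGrpd_selfOver).2 fun U x V y =>
    repByAlgSp_of_equiv (isEquivOver_fpCongr (selfIso (FibCat.toSelf _) y) (selfIso (FibCat.toSelf _) x))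
      (repByAlgSp_prod_overCat V U)

theorem isAlgStack_prod (hX : AlgSt.IsAlgStack Scheme.fppfPrecoverage 𝒳)
    (hY : AlgSt.IsAlgStack Scheme.fppfPrecoverage 𝒴) :
    AlgSt.IsAlgStack Scheme.fppfPrecoverage (FibCat.fp (FibCat.toSelf 𝒳) (FibCat.toSelf 𝒴)) :=
  isAlgStack_fp isStack_selfOver repByAlgSp1_diag_selfOver hX hY _ _

theorem exists_smooth_surjective_chart_over (hX : AlgSt.IsAlgStack Scheme.fppfPrecoverage 𝒳)
    (hY : AlgSt.IsAlgStack Scheme.fppfPrecoverage 𝒴) (f : 𝒳 ⥤ᵇ 𝒴) (V : Over S)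
    (y : FibCat.overCat V ⥤ᵇ 𝒴) (hy : AlgSt.RepByAlgSpWith (AlgSp.LocP @Smooth) y)
    (hy' : AlgSt.RepByAlgSpWith AlgSp.IsSurjectiveMor y) :
    ∃ (U : Over S) (a : U ⟶ V) (x : FibCat.overCat U ⥤ᵇ 𝒳),
      AlgSt.RepByAlgSpWith (AlgSp.LocP @Smooth) x ∧ AlgSt.RepByAlgSpWith AlgSp.IsSurjectiveMor x ∧
        Nonempty (BasedFunctor.comp x f ≅ BasedFunctor.comp (AlgSt.overMap a) y) := by
  have hQ := isAlgStack_fp hY.isStack hY.diag (isAlgStack_of_repByAlgSp (repByAlgSp_overCat V)) hX y f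
  obtain ⟨U, w, hw, hws⟩ := hQ.atlas
  have hU := isFibGrpd_overCat (C := Over S) U
  let φ := BasedFunctor.comp w (FibCat.fpFst y f)
  let a : U ⟶ V := eqToHom (φ.w_obj (idObj U)).symm ≫ (φ.obj (idObj U)).hom
  have hφ : Nonempty (φ ≅ AlgSt.overMap a) := by
    refine (nonempty_overIso_iff (isFibGrpd_overCat V) _ _).2
      ⟨Over.homMk (eqToHom (φ.w_obj (idObj U))) ?_, φ.w_obj (idObj U), rfl⟩
    show eqToHom _ ≫ 𝟙 U ≫ a = _
    simp [a]
  refine ⟨U, a, BasedFunctor.comp w (FibCat.fpSnd y f),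
    repWith_comp' hU hQ.isStack.1 stableBaseChange_locP stableComp_locP descendsAlongAtlas_locP
      hw (repWith_fpSnd y f hy),
    repWith_comp' hU hQ.isStack.1 stableBaseChange_surjective stableComp_surjective
      descendsAlongAtlas_surjective hws (repWith_fpSnd y f hy'), ?_⟩
  exact ⟨(whiskerLeftIso w (FibCat.fpIso y f).symm).trans (whiskerRightIso hφ.some y)⟩

end AlgStack

end Groth.AlgStBasic
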