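import Groth.Agent.AlgStBasic.PropDescend
import Groth.Agent.AlgStBasic.Atlas

/-!
# Calculus of properties of diagonals

Diagonals of composites and of base changes, and cancellation of properties of functors
representable by algebraic spaces.
-/

set_option autoImplicit false
set_option backward.isDefEq.respectTransparency false
set_option backward.isDefEq.respectTransparency.types false

universe u

open CategoryTheory CategoryTheory.Limits AlgebraicGeometry Opposite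
open Groth.StkBase Groth.AlgSpBasic

namespace Groth.AlgStBasic

variable {S : Scheme.{u}} {𝒳 𝒴 𝒵 𝒲 : AlgSt.Cat S} {P : MorphismProperty (AlgSp.Sp S)}

/-- A right cancellation property of a property of morphisms of algebraic spaces. -/
def CancelRight (P : MorphismProperty (AlgSp.Sp S)) : Prop :=
  ∀ ⦃X Y Z : AlgSp.Sp S⦄, AlgSp.IsAlgSpace X → AlgSp.IsAlgSpace Y → AlgSp.IsAlgSpace Z →
    ∀ (f : X ⟶ Y) (g : Y ⟶ Z), P (f ≫ g) → P f

theorem prop_of_repFst [P.RespectsIso] {U : Over S} {π : 𝒵 ⥤ᵇ FibCat.overCat U}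
    (h : RepFst P π) (F : AlgSp.Space S) (e : AlgSt.ofSp F.obj ⥤ᵇ 𝒵) (he : FibCat.IsEquivOver e) :
    P (AlgSt.spMapOfOver (BasedFunctor.comp e π)) := by
  obtain ⟨X, e₀, he₀, hP⟩ := h
  obtain ⟨E', hE', -, ⟨b⟩⟩ := isEquivOver_symm he₀
  have := isIso_pshMapOf (isEquivOver_comp he hE')
  let φ : F.obj ⟶ X.obj := ObjectProperty.homMk (pshMapOf (BasedFunctor.comp e E'))
  have : IsIso ((sheafToPresheaf (AlgSp.J S) (Type (u + 1))).map φ) := this
  have : IsIso φ := isIso_of_fully_faithful (sheafToPresheaf (AlgSp.J S) (Type (u + 1))) φ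
  have key : AlgSt.spMapOfOver (BasedFunctor.comp e π)
      = φ ≫ AlgSt.spMapOfOver (BasedFunctor.comp e₀ π) := by
    apply ObjectProperty.hom_ext
    rw [spMapOfOver_hom_eq]
    refine (pshMapOf_eq_of_iso (whiskerRightIso (whiskerLeftIso e
      (whiskerRightIso b π)) (AlgSt.ofOverCat U))).symm.trans ?_
    refine (pshMapOf_comp (BasedFunctor.comp e E')
      (BasedFunctor.comp (BasedFunctor.comp e₀ π) (AlgSt.ofOverCat U))).trans ?_
    exact congrArg _ (spMapOfOver_hom_eq _).symm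
  rw [key]
  exact (P.cancel_left_of_respectsIso φ _).2 hP

/-- A morphism of algebraic spaces with a property stable under base change, read as a functor. -/
theorem repWith_ofPshMap_of_stable (hb : StableBaseChange P) {F G : AlgSp.Space S}
    (p : F.obj ⟶ G.obj) (hp : P p) : AlgSt.RepByAlgSpWith P (Stk.ofPshMap p.hom) :=
  repByAlgSpWith_ofPshMap ((AlgSp.repBySpWith_hom_iff P p).2 fun U ξ F' fst snd sq => by
    have hA : AlgSp.IsAlgSpace F' := isAlgSpace_of_isPullback sq G.property.diag F.property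
      (AlgSp.IsAlgSpace.yon_obj U)
    exact ⟨hA, hb F.property G.property hA (AlgSp.IsAlgSpace.yon_obj U) p ξ snd fst sq hp⟩)

/-- Cancellation: if `f ≫ g` has `P` and `g` has `Q`, then `f` has `P`, when this holds for spaces. -/
theorem repWith_of_comp_cancel' (hX : FibCat.IsFibGrpd 𝒳.p) (hY : FibCat.IsFibGrpd 𝒴.p)
    (hb : StableBaseChange P) {Q : MorphismProperty (AlgSp.Sp S)} (hQ : StableBaseChange Q)
    (hc : ∀ ⦃X Y Z : AlgSp.Sp S⦄, AlgSp.IsAlgSpace X → AlgSp.IsAlgSpace Y → AlgSp.IsAlgSpace Z →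
      ∀ (a : X ⟶ Y) (b : Y ⟶ Z), Q b → P (a ≫ b) → P a)
    {f : 𝒳 ⥤ᵇ 𝒴} {g : 𝒴 ⥤ᵇ 𝒵}
    (hf : AlgSt.RepByAlgSp1 f) (hg : AlgSt.RepByAlgSpWith Q g)
    (hfg : AlgSt.RepByAlgSpWith P (BasedFunctor.comp f g)) : AlgSt.RepByAlgSpWith P f := by
  intro U y
  have := hb.respectsIso
  let z := BasedFunctor.comp y g
  obtain ⟨G, e, he⟩ := repWith_repByAlgSp1 hg U z
  let ey := BasedFunctor.comp e (FibCat.fpSnd z g)
  obtain ⟨F, e', he'⟩ := repByAlgSp_fp hX hY f ey hf ⟨G, BasedFunctor.id _, isEquivOver_id _⟩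
  let E := BasedFunctor.comp (fpPre e (BasedFunctor.id _) (FibCat.fpSnd z g) f)
    (BasedFunctor.comp (BasedFunctor.comp (fpSwap _ _) (BasedFunctor.comp
      (fpPre (BasedFunctor.id _) (fpSwap z g) f (FibCat.fpFst g z)) (fpPaste f g z)))
    (fpSwap (BasedFunctor.comp f g) z))
  have hE : FibCat.IsEquivOver E :=
    isEquivOver_comp (isEquivOver_fpPre he (isEquivOver_id _) _ _)
      (isEquivOver_comp (isEquivOver_comp (isEquivOver_fpSwap _ _) (isEquivOver_comp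
        (isEquivOver_fpPre (isEquivOver_id _) (isEquivOver_fpSwap z g) _ _) (isEquivOver_fpPaste f g z)))
        (isEquivOver_fpSwap _ _))
  let p : F.obj ⟶ G.obj := ObjectProperty.homMk (pshMapOf (BasedFunctor.comp e' (FibCat.fpFst ey f)))
  let q : G.obj ⟶ (AlgSp.yon S).obj U :=
    AlgSt.spMapOfOver (BasedFunctor.comp e (FibCat.fpFst z g))
  have hpq : P (p ≫ q) := by
    convert (prop_of_repFst (P := onSpaces P)
      (RepFst.mono (fun _ _ _ hA hB hp => ⟨hA, hB, hp⟩) (hfg U z)) F _ (isEquivOver_comp he' hE)).2.2 using 1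
    apply ObjectProperty.hom_ext
    rw [spMapOfOver_hom_eq]
    exact ((pshMapOf_comp (BasedFunctor.comp e' (FibCat.fpFst ey f))
      (BasedFunctor.comp (BasedFunctor.comp e (FibCat.fpFst z g)) (AlgSt.ofOverCat U))).trans
      (congrArg _ (spMapOfOver_hom_eq _).symm)).symm
  have := hQ.respectsIso
  have hq : Q q := (prop_of_repFst (P := onSpaces Q)
    (RepFst.mono (fun _ _ _ hA hB hp => ⟨hA, hB, hp⟩) (hg U z)) G e he).2.2
  obtain ⟨β⟩ := nonempty_iso_pshMapOf (BasedFunctor.comp e' (FibCat.fpFst ey f))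
  have hπ : AlgSt.RepByAlgSpWith P (FibCat.fpFst ey f) :=
    (repWith_precomp_equiv he' _).1 (repWith_of_iso β.symm (repWith_ofPshMap_of_stable hb p
      (hc F.property G.property (AlgSp.IsAlgSpace.yon_obj U) p q hq hpq)))
  obtain ⟨E', -, -, ⟨b⟩⟩ := isEquivOver_symm he
  let σ : FibCat.overCat U ⥤ᵇ FibCat.fp z g :=
    FibCat.fpLift (BasedFunctor.id _) y (Iso.refl _)
  let σ' := BasedFunctor.comp σ E'
  have α : BasedFunctor.comp σ' ey ≅ y :=
    whiskerRightIso (whiskerLeftIso σ b) (FibCat.fpSnd z g)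
  exact RepFst.of_equiv (isEquivOver_comp (isEquivOver_fpPaste σ' ey f)
    (isEquivOver_fpCongr α (Iso.refl f))) (Iso.refl _) (hπ U σ')

theorem stableBaseChange_top : StableBaseChange (⊤ : MorphismProperty (AlgSp.Sp S)) :=
  fun _ _ _ _ _ _ _ _ _ _ _ _ _ _ => trivial

/-- Cancellation: if `f ≫ g` has `P` and `g` is representable by algebraic spaces, then `f` has `P`. -/
theorem repWith_of_comp_cancel (hX : FibCat.IsFibGrpd 𝒳.p) (hY : FibCat.IsFibGrpd 𝒴.p)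
    (hb : StableBaseChange P) (hc : CancelRight P) {f : 𝒳 ⥤ᵇ 𝒴} {g : 𝒴 ⥤ᵇ 𝒵}
    (hf : AlgSt.RepByAlgSp1 f) (hg : AlgSt.RepByAlgSp1 g)
    (hfg : AlgSt.RepByAlgSpWith P (BasedFunctor.comp f g)) : AlgSt.RepByAlgSpWith P f :=
  repWith_of_comp_cancel' hX hY hb stableBaseChange_top
    (fun _ _ _ hX hY hZ a b _ hab => hc hX hY hZ a b hab) hf ((repWith_top_iff g).2 hg) hfg

/-- `𝒳 ×_𝒴 ℬ ⟶ 𝒳 ×_𝒵 ℬ` is a base change of the diagonal of `g : 𝒴 ⟶ 𝒵`. -/
theorem repWith_fpPost {F : 𝒳 ⥤ᵇ 𝒴} {G : 𝒲 ⥤ᵇ 𝒴} {g : 𝒴 ⥤ᵇ 𝒵}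
    (h : AlgSt.RepByAlgSpWith P (FibCat.diag g)) : AlgSt.RepByAlgSpWith P (fpPost F G g) :=
  repWith_of_iso (fpIsoMk (Iso.refl _) (Iso.refl _) fun _ => by simp [fpPost])
    ((repWith_precomp_equiv (isEquivOver_diagFp' F G g) _).2 (repWith_fpFst _ _ h))

theorem repByAlgSp1_fpPost {F : 𝒳 ⥤ᵇ 𝒴} {G : 𝒲 ⥤ᵇ 𝒴} {g : 𝒴 ⥤ᵇ 𝒵}
    (h : AlgSt.RepByAlgSp1 (FibCat.diag g)) : AlgSt.RepByAlgSp1 (fpPost F G g) :=
  repWith_repByAlgSp1 (repWith_fpPost ((repWith_top_iff _).2 h))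

/-- The diagonal of a composite is the diagonal of the first functor followed by `fpPost`. -/
theorem nonempty_diag_comp_iso (f : 𝒳 ⥤ᵇ 𝒴) (g : 𝒴 ⥤ᵇ 𝒵) :
    Nonempty (BasedFunctor.comp (FibCat.diag f) (fpPost f f g)
      ≅ FibCat.diag (BasedFunctor.comp f g)) :=
  ⟨fpIsoMk (Iso.refl _) (Iso.refl _) fun _ => by simp [fpPost, FibCat.diag]⟩

/-- The diagonal of a composite. -/
theorem repWith_diag_comp (hX : FibCat.IsFibGrpd 𝒳.p) (hY : FibCat.IsFibGrpd 𝒴.p)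
    (hb : StableBaseChange P) (hc : StableComp P) (hP : DescendsAlongAtlas P)
    {f : 𝒳 ⥤ᵇ 𝒴} {g : 𝒴 ⥤ᵇ 𝒵} (hf : AlgSt.RepByAlgSpWith P (FibCat.diag f))
    (hg : AlgSt.RepByAlgSpWith P (FibCat.diag g)) :
    AlgSt.RepByAlgSpWith P (FibCat.diag (BasedFunctor.comp f g)) :=
  repWith_of_iso (nonempty_diag_comp_iso f g).some
    (repWith_comp' hX (isFibGrpd_fp hX hX hY) hb hc hP hf (repWith_fpPost hg))

/-- The diagonal of the first functor of a composite. -/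
theorem repWith_diag_of_comp (hX : FibCat.IsFibGrpd 𝒳.p) (hY : FibCat.IsFibGrpd 𝒴.p)
    (hb : StableBaseChange P) (hc : CancelRight P) {f : 𝒳 ⥤ᵇ 𝒴} {g : 𝒴 ⥤ᵇ 𝒵}
    (df : AlgSt.RepByAlgSp1 (FibCat.diag f)) (dg : AlgSt.RepByAlgSp1 (FibCat.diag g))
    (h : AlgSt.RepByAlgSpWith P (FibCat.diag (BasedFunctor.comp f g))) :
    AlgSt.RepByAlgSpWith P (FibCat.diag f) :=
  repWith_of_comp_cancel hX (isFibGrpd_fp hX hX hY) hb hc df (repByAlgSp1_fpPost dg)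
    (repWith_of_iso (nonempty_diag_comp_iso f g).some.symm h)

/-- The graph of `k : 𝒲 ⟶ 𝒳` over `f : 𝒳 ⟶ 𝒴` is a base change of the diagonal of `f`. -/
theorem repWith_graph {f : 𝒳 ⥤ᵇ 𝒴} (k : 𝒲 ⥤ᵇ 𝒳) (h : AlgSt.RepByAlgSpWith P (FibCat.diag f)) :
    AlgSt.RepByAlgSpWith P (FibCat.fpLift (F := BasedFunctor.comp k f) (G := f)
      (BasedFunctor.id 𝒲) k (Iso.refl _)) := by
  let s : 𝒲 ⥤ᵇ FibCat.fp k (BasedFunctor.id 𝒳) :=
    FibCat.fpLift (BasedFunctor.id 𝒲) k (Iso.refl _)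
  have hs : FibCat.IsEquivOver s := by
    refine ⟨FibCat.fpFst k (BasedFunctor.id 𝒳), ⟨Iso.refl _⟩,
      ⟨fpIsoMk (Iso.refl _) (FibCat.fpIso k (BasedFunctor.id 𝒳)) fun x => ?_⟩⟩
    simp [s]
  have h' : AlgSt.RepByAlgSpWith P (BasedFunctor.comp s (fpPost k (BasedFunctor.id 𝒳) f)) :=
    (repWith_precomp_equiv hs _).2 (repWith_fpPost (F := k) (G := BasedFunctor.id 𝒳) h)
  refine repWith_of_iso ?_ h'
  exact fpIsoMk (Iso.refl _) (Iso.refl _) fun _ => by simp [s, fpPost]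

/-- The diagonal of a base change. -/
theorem repWith_diag_fpFst {f : 𝒳 ⥤ᵇ 𝒴} (g : 𝒵 ⥤ᵇ 𝒴) (h : AlgSt.RepByAlgSpWith P (FibCat.diag f)) :
    AlgSt.RepByAlgSpWith P (FibCat.diag (FibCat.fpFst g f)) := by
  let a := FibCat.fpFst g f
  let k := FibCat.fpSnd g f
  let C := fpCongr (FibCat.fpIso g f).symm (Iso.refl f)
  refine repWith_of_iso ?_ ((repWith_postcomp_equiv _ (b := BasedFunctor.comp C (fpUnpaste a g f))
    (isEquivOver_comp (isEquivOver_fpCongr _ _) (isEquivOver_fpUnpaste a g f))).2 (repWith_graph k h))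
  exact fpIsoMk (Iso.refl _) (fpIsoMk (Iso.refl _) (Iso.refl _) fun x => by
    simp [a, k, C, fpCongr, fpUnpaste, FibCat.diag]) fun x => by
    simp [a, k, C, fpCongr, fpUnpaste, FibCat.diag]

/-- Invariance of a property of the diagonal under isomorphism. -/
theorem repWith_diag_of_iso {f f' : 𝒳 ⥤ᵇ 𝒴} (α : f ≅ f')
    (h : AlgSt.RepByAlgSpWith P (FibCat.diag f)) : AlgSt.RepByAlgSpWith P (FibCat.diag f') := by
  refine repWith_of_iso ?_ ((repWith_postcomp_equiv _ (isEquivOver_fpCongr α α)).2 h)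
  exact fpIsoMk (Iso.refl _) (Iso.refl _) fun x => by simp [fpCongr, FibCat.diag]

/-- The diagonal of a fully faithful functor is an equivalence. -/
theorem isEquivOver_diag (f : 𝒳 ⥤ᵇ 𝒴) [f.toFunctor.Full] [f.toFunctor.Faithful] :
    FibCat.IsEquivOver (FibCat.diag f) := by
  have h1 : FibCat.IsEquivOver
      (FibCat.fpLift (F := BasedFunctor.id 𝒳) (G := BasedFunctor.id 𝒳)
        (BasedFunctor.id 𝒳) (BasedFunctor.id 𝒳) (Iso.refl _)) := by
    refine ⟨FibCat.fpFst (BasedFunctor.id 𝒳) (BasedFunctor.id 𝒳), ⟨Iso.refl _⟩,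
      ⟨fpIsoMk (Iso.refl _) (FibCat.fpIso _ _) fun x => ?_⟩⟩
    simp
  refine isEquivOver_of_iso ?_ (isEquivOver_comp h1 (isEquivOver_fpPost _ _ f))
  exact fpIsoMk (Iso.refl _) (Iso.refl _) fun _ => by simp [fpPost, FibCat.diag]

/-- The diagonal of an equivalence followed by a functor. -/
theorem repWith_diag_precomp_equiv {e : 𝒳 ⥤ᵇ 𝒴} (he : FibCat.IsEquivOver e) {g : 𝒴 ⥤ᵇ 𝒵}
    (h : AlgSt.RepByAlgSpWith P (FibCat.diag g)) :
    AlgSt.RepByAlgSpWith P (FibCat.diag (BasedFunctor.comp e g)) := by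
  have := full_of_isEquivOver he
  have := faithful_of_isEquivOver he
  exact repWith_of_iso (nonempty_diag_comp_iso e g).some
    ((repWith_precomp_equiv (isEquivOver_diag e) _).2 (repWith_fpPost h))

/-- The diagonal of a functor followed by an equivalence. -/
theorem repWith_diag_postcomp_equiv {f : 𝒳 ⥤ᵇ 𝒴} {e : 𝒴 ⥤ᵇ 𝒵} (he : FibCat.IsEquivOver e)
    (h : AlgSt.RepByAlgSpWith P (FibCat.diag f)) :
    AlgSt.RepByAlgSpWith P (FibCat.diag (BasedFunctor.comp f e)) := by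
  have := full_of_isEquivOver he
  have := faithful_of_isEquivOver he
  exact repWith_of_iso (nonempty_diag_comp_iso f e).some
    ((repWith_postcomp_equiv _ (isEquivOver_fpPost f f e)).2 h)

/-- The diagonal of a projection. -/
theorem repWith_diag_fpSnd {f : 𝒳 ⥤ᵇ 𝒴} (g : 𝒵 ⥤ᵇ 𝒴)
    (h : AlgSt.RepByAlgSpWith P (FibCat.diag f)) :
    AlgSt.RepByAlgSpWith P (FibCat.diag (FibCat.fpSnd f g)) :=
  repWith_diag_of_iso (Iso.refl _) (repWith_diag_precomp_equiv (isEquivOver_fpSwap f g)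
    (repWith_diag_fpFst g h))

/-- The map `fp a a ⟶ fp f f`, for `a` the base change of `f`. -/
def diagBC (w : 𝒵 ⥤ᵇ 𝒴) (f : 𝒳 ⥤ᵇ 𝒴) :
    FibCat.fp (FibCat.fpFst w f) (FibCat.fpFst w f) ⥤ᵇ FibCat.fp f f :=
  BasedFunctor.comp (fpPost (FibCat.fpFst w f) (FibCat.fpFst w f) w)
    (BasedFunctor.comp (fpCongr (FibCat.fpIso w f) (FibCat.fpIso w f))
      (fpPre (FibCat.fpSnd w f) (FibCat.fpSnd w f) f f))

/-- The diagonal of a base change is the base change of the diagonal along `diagBC`. -/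
theorem repWith_fpFst_diagBC (w : 𝒵 ⥤ᵇ 𝒴) (f : 𝒳 ⥤ᵇ 𝒴)
    (h : AlgSt.RepByAlgSpWith P (FibCat.diag (FibCat.fpFst w f))) :
    AlgSt.RepByAlgSpWith P (FibCat.fpFst (diagBC w f) (FibCat.diag f)) := by
  let a := FibCat.fpFst w f
  let M := diagBC w f
  let E : FibCat.fp w f ⥤ᵇ FibCat.fp M (FibCat.diag f) :=
    FibCat.fpLift (FibCat.diag a) (FibCat.fpSnd w f)
      (fpIsoMk (Iso.refl _) (Iso.refl _) fun x => by
        simp [M, diagBC, a, fpPost, fpCongr, fpPre, FibCat.diag])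
  have hE : FibCat.IsEquivOver E := by
    let D := FibCat.diag f
    let σ := FibCat.fpIso M D
    let P₁ := BasedFunctor.comp (FibCat.fpFst M D) (FibCat.fpFst a a)
    let P₂ := BasedFunctor.comp (FibCat.fpFst M D) (FibCat.fpSnd a a)
    let π₁ := whiskerRightIso σ (FibCat.fpFst f f)
    let π₂ := whiskerRightIso σ (FibCat.fpSnd f f)
    let ψ : P₁ ≅ P₂ := fpIsoMk (whiskerLeftIso (FibCat.fpFst M D) (FibCat.fpIso a a))
      (π₁.trans π₂.symm) fun p => by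
        have k := fp_iso_eq_of_iso_diag f p.obj.iso
        simp [M, diagBC, fpPost, fpCongr, fpPre] at k
        simp [P₁, P₂, π₁, π₂, σ, D, M, diagBC, fpPost, fpCongr, fpPre]
        erw [← k]
        simp
    refine ⟨P₁, ⟨Iso.refl _⟩, ⟨fpIsoMk (fpIsoMk (Iso.refl _) ψ fun p => ?_) π₁ fun p => ?_⟩⟩
    · simp [E, P₁, P₂, ψ, a, FibCat.diag]
    · apply fp_hom_ext <;>
        simp [E, P₁, P₂, ψ, π₁, π₂, σ, D, M, diagBC, a, fpPost, fpCongr, fpPre, FibCat.diag]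
      have h' : p.obj.iso.inv.hom.snd ≫ p.obj.iso.hom.hom.snd = 𝟙 _ :=
        congrArg (fun t => t.hom.snd) p.obj.iso.inv_hom_id
      erw [h', Category.comp_id]
  exact (repWith_precomp_equiv hE _).1 (repWith_of_iso (Iso.refl _) h)

/-- Lifting along `diagBC`. -/
theorem exists_lift_diagBC (w : 𝒵 ⥤ᵇ 𝒴) (f : 𝒳 ⥤ᵇ 𝒴) (Z : 𝒲 ⥤ᵇ FibCat.fp f f) (zW : 𝒲 ⥤ᵇ 𝒵)
    (α : BasedFunctor.comp zW w ≅ BasedFunctor.comp (BasedFunctor.comp Z (FibCat.fpFst f f)) f) :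
    ∃ z : 𝒲 ⥤ᵇ FibCat.fp (FibCat.fpFst w f) (FibCat.fpFst w f),
      Nonempty (BasedFunctor.comp z (diagBC w f) ≅ Z) := by
  let z₁ : 𝒲 ⥤ᵇ FibCat.fp w f := FibCat.fpLift zW (BasedFunctor.comp Z (FibCat.fpFst f f)) α
  let z₂ : 𝒲 ⥤ᵇ FibCat.fp w f :=
    FibCat.fpLift zW (BasedFunctor.comp Z (FibCat.fpSnd f f))
      (α.trans (whiskerLeftIso Z (FibCat.fpIso f f)))
  refine ⟨FibCat.fpLift (F := FibCat.fpFst w f) (G := FibCat.fpFst w f) z₁ z₂ (Iso.refl _),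
    ⟨fpIsoMk (Iso.refl _) (Iso.refl _) fun v => ?_⟩⟩
  simp [diagBC, z₁, z₂, fpPost, fpCongr, fpPre]

/-- A property of the diagonal can be checked after every base change to a scheme. -/
theorem repWith_diag_iff_forall_fpFst (f : 𝒳 ⥤ᵇ 𝒴) :
    AlgSt.RepByAlgSpWith P (FibCat.diag f) ↔
      ∀ (T : Over S) (y : FibCat.overCat T ⥤ᵇ 𝒴),
        AlgSt.RepByAlgSpWith P (FibCat.diag (FibCat.fpFst y f)) := by
  refine ⟨fun h T y => repWith_diag_fpFst y h, fun h U z => ?_⟩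
  let y := BasedFunctor.comp (BasedFunctor.comp z (FibCat.fpFst f f)) f
  obtain ⟨Z, ⟨α⟩⟩ := exists_lift_diagBC y f z (BasedFunctor.id _) (Iso.refl _)
  exact RepFst.of_equiv (isEquivOver_comp (isEquivOver_fpPaste Z _ _)
    (isEquivOver_fpCongr α (Iso.refl _))) (Iso.refl _) (repWith_fpFst_diagBC y f (h U y) U Z)

/-- The diagonal of a map of 2-fibre products. -/
theorem repWith_diag_fpPre {𝒳' 𝒲' : AlgSt.Cat S} (hX' : FibCat.IsFibGrpd 𝒳'.p)
    (hX : FibCat.IsFibGrpd 𝒳.p) (hW' : FibCat.IsFibGrpd 𝒲'.p)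
    (hY : FibCat.IsFibGrpd 𝒴.p)
    (hb : StableBaseChange P) (hc : StableComp P) (hP : DescendsAlongAtlas P)
    (a : 𝒳' ⥤ᵇ 𝒳) (b : 𝒲' ⥤ᵇ 𝒲) (f : 𝒳 ⥤ᵇ 𝒴) (g : 𝒲 ⥤ᵇ 𝒴)
    (ha : AlgSt.RepByAlgSpWith P (FibCat.diag a)) (hb' : AlgSt.RepByAlgSpWith P (FibCat.diag b)) :
    AlgSt.RepByAlgSpWith P (FibCat.diag (fpPre a b f g)) := by
  have hl : ∀ {𝒜 𝒜' ℬ : AlgSt.Cat S} (a : 𝒜' ⥤ᵇ 𝒜) (f : 𝒜 ⥤ᵇ 𝒴) (g : ℬ ⥤ᵇ 𝒴),
      AlgSt.RepByAlgSpWith P (FibCat.diag a) →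
      AlgSt.RepByAlgSpWith P (FibCat.diag (fpPre a (BasedFunctor.id ℬ) f g)) :=
    fun a f g ha => repWith_diag_of_iso (nonempty_fpPre_left_iso a f g).some
      (repWith_diag_precomp_equiv (isEquivOver_fpUnpaste a f g)
        (repWith_diag_fpSnd (FibCat.fpFst f g) ha))
  have h2 : AlgSt.RepByAlgSpWith P (FibCat.diag (fpPre (BasedFunctor.id 𝒳) b f g)) :=
    repWith_diag_of_iso (nonempty_fpPre_swap_iso b f g).some
      (repWith_diag_postcomp_equiv (isEquivOver_fpSwap g f)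
        (repWith_diag_precomp_equiv (isEquivOver_fpSwap f (BasedFunctor.comp b g)) (hl b g f hb')))
  refine repWith_diag_of_iso ?_
    (repWith_diag_comp (isFibGrpd_fp hX' hW' hY) (isFibGrpd_fp hX hW' hY) hb hc hP
      (hl a f (BasedFunctor.comp b g) ha) h2)
  exact fpIsoMk (Iso.refl _) (Iso.refl _) fun z => by simp [fpPre]

theorem descendsAlongAtlas_of_isLocalOnBase_et
    (hP : AlgSp.IsLocalOnBase AlgSp.IsEtCover P) : DescendsAlongAtlas P :=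
  fun _ _ π W q Q fst snd hX hY he hs hQ sq hp =>
    (hP (fun _ : PUnit.{u + 1} => (AlgSp.yon S).obj W) (fun _ => q) hY
      (fun _ => AlgSp.IsAlgSpace.yon_obj W)
      ⟨fun _ => isEtaleMor_of_locP hY (Groth.AlgSpBasic.locP_of_repWith he),
        fun x => ⟨PUnit.unit, surjective_map_of_repWith hs x⟩⟩ π hX
      (fun _ => Q) (fun _ => snd) (fun _ => fst) (fun _ => hQ) (fun _ => sq)).2 fun _ => hp

theorem cancelRight_locP {Q : MorphismProperty Scheme.{u}} [EtaleLocal Q]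
    (h : ∀ ⦃A B C : Scheme.{u}⦄ (f : A ⟶ B) (g : B ⟶ C), Q (f ≫ g) → Q f) :
    CancelRight (AlgSp.LocP (S := S) Q) :=
  fun _ _ _ hX hY hZ _ _ hfg => locP_of_comp_of_cancel h hX hY hZ hfg

end Groth.AlgStBasic
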