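import Groth.Agent.AlgStBasic.LocQBase
import Groth.Agent.AlgStBasic.MonoCalc
import Groth.Agent.AlgStBasic.LocalLift
import Groth.Agent.AlgStBasic.DiagCalc
import Groth.Agent.AlgSp2.FiniteMor
import Groth.Agent.AlgSp2.FpqcTopRows
import Groth.Agent.AlgSpBasic.ClosedQC
import Groth.Agent.AlgSpBasic.DiagProps
import Mathlib.AlgebraicGeometry.ZariskisMainTheorem

/-!
# Separation of representable morphisms of algebraic stacks
-/

set_option autoImplicit false
set_option backward.isDefEq.respectTransparency false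
set_option backward.isDefEq.respectTransparency.types false

universe u

open CategoryTheory CategoryTheory.Limits AlgebraicGeometry Opposite
open Groth.StkBase Groth.AlgSpBasic

noncomputable section

namespace Groth.AlgStBasic

variable {S : Scheme.{u}} {𝒳 𝒴 : AlgSt.Cat S} {P : MorphismProperty (AlgSp.Sp S)}

theorem repWith_inf {Q : MorphismProperty (AlgSp.Sp S)} {f : 𝒳 ⥤ᵇ 𝒴} (hQ : StableBaseChange Q)
    (hp : AlgSt.RepByAlgSpWith P f) (hq : AlgSt.RepByAlgSpWith Q f) :
    AlgSt.RepByAlgSpWith (P ⊓ Q) f := fun U y => by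
  obtain ⟨F, e, he, h⟩ := hp U y
  exact ⟨F, e, he, h, prop_of_repWith_fp hQ hq y F e he⟩

section Spaces

variable {X Y : AlgSp.Sp S} (hX : AlgSp.IsAlgSpace X) (hY : AlgSp.IsAlgSpace Y) (q : X ⟶ Y)

include hX hY

theorem isAlgSpace_pullback_self : AlgSp.IsAlgSpace (pullback q q) :=
  isAlgSpace_of_isPullback (IsPullback.of_hasPullback q q) hY.diag hX hX

omit hY in
/-- The diagonal of a morphism of algebraic spaces is separated. -/
theorem isSeparatedMor_diagonal : AlgSp.IsSeparatedMor (pullback.diagonal q) := by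
  have : Mono (pullback.diagonal q) :=
    mono_of_repWith (fun _ _ _ h => h.1) (monoLFT_diagonal hX q)
  exact Groth.AlgSpBasic.repWith_isIso _

omit hY in
theorem locP_lft_diagonal : AlgSp.LocP @LocallyOfFiniteType (pullback.diagonal q) :=
  Groth.AlgSpBasic.locP_of_repWith (repWith_inf_iff.1 (monoLFT_diagonal hX q)).2

theorem isProperMor_diagonal_of_sep (h : AlgSp.IsSeparatedMor q) :
    AlgSp.IsProperMor (pullback.diagonal q) :=
  (Groth.AlgSp2.isProperMor_iff_repWith hX (isAlgSpace_pullback_self hX hY q) h.rep).2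
    (Groth.AlgSpBasic.repWith_mono (fun _ _ j (_ : IsClosedImmersion j) =>
      (inferInstance : IsProper j)) h)

omit hY in
theorem sep_of_isUnivClosedMor_diagonal (h : AlgSp.IsUnivClosedMor (pullback.diagonal q)) :
    AlgSp.IsSeparatedMor q := by
  have hm := monoLFT_diagonal hX q
  have h' := repWith_inf_iff.1 (Groth.AlgSpBasic.repWith_mono monoLFT_le hm)
  have hu := (Groth.AlgSp2.repWith_universallyClosed_iff hm.rep).2 h
  refine ⟨hm.rep, fun U V g fst snd sq => ?_⟩
  have : Mono snd.left := (hm.property g fst snd sq).1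
  have : LocallyOfFiniteType snd.left := (hm.property g fst snd sq).2
  have : IsSeparated snd.left := h'.1.property g fst snd sq
  have : LocallyQuasiFinite snd.left := (h'.2.property g fst snd sq).1
  have : UniversallyClosed snd.left := hu.property g fst snd sq
  have : IsProper snd.left := IsProper.mk
  exact (IsClosedImmersion.iff_isFinite_and_mono _).2
    ⟨IsFinite.of_isProper_of_locallyQuasiFinite snd.left, ‹Mono snd.left›⟩

theorem qc_diagonal_iff_qs :
    AlgSp.IsQuasiCompactMor (pullback.diagonal q) ↔ AlgSp.IsQuasiSeparatedMor q :=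
  ⟨repWith_of_isQuasiCompactMor (monoLFT_diagonal hX q).rep,
    fun h => isQuasiCompactMor_of_repWith hX (isAlgSpace_pullback_self hX hY q) h⟩

end Spaces

section Transfer

/-- The diagonal of the functor of a map of spaces is the functor of the diagonal. -/
theorem repWith_diag_ofSpMap_iff (hb : StableBaseChange P) {X Y : AlgSp.Space S}
    (q : X.obj ⟶ Y.obj) :
    (P (pullback.diagonal q) → AlgSt.RepByAlgSpWith P (FibCat.diag (AlgSt.ofSpMap q))) ∧
      (DescendsAlongAtlas P → AlgSt.RepByAlgSpWith P (FibCat.diag (AlgSt.ofSpMap q)) →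
        P (pullback.diagonal q)) := by
  have sq := IsPullback.of_hasPullback q q
  have hW := isAlgSpace_pullback_self X.property Y.property q
  have sq' : IsPullback (pullback.fst q q).hom (pullback.snd q q).hom q.hom q.hom :=
    (sq.map (sheafToPresheaf (AlgSp.J S) (Type (u + 1))) :)
  let Δ : X.obj ⟶ pullback q q := pullback.diagonal q
  have e₁ : Δ.hom ≫ (pullback.fst q q).hom = 𝟙 _ :=
    congrArg (fun t : X.obj ⟶ X.obj => t.hom) (pullback.diagonal_fst q)
  have e₂ : Δ.hom ≫ (pullback.snd q q).hom = 𝟙 _ :=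
    congrArg (fun t : X.obj ⟶ X.obj => t.hom) (pullback.diagonal_snd q)
  have α : BasedFunctor.comp (AlgSt.ofSpMap Δ) (pshFpLift sq'.w) ≅ FibCat.diag (AlgSt.ofSpMap q) :=
    fpIsoMk
      (eqToIso (by
        show Stk.ofPshMap (Δ.hom ≫ (pullback.fst q q).hom) = _
        rw [e₁]; rfl))
      (eqToIso (by
        show Stk.ofPshMap (Δ.hom ≫ (pullback.snd q q).hom) = _
        rw [e₂]; rfl))
      fun x => elt_hom_ext_p (by
        refine (IsVert.map_eq ?_).trans (IsVert.map_eq ?_).symm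
        · exact (isVert_map (isVert_isoApp _ _)).comp (fp_isVert _)
        · exact (fp_isVert _).comp (isVert_map (isVert_isoApp _ _)))
  refine ⟨fun h => ?_, fun hd h => ?_⟩
  · exact repWith_of_iso α ((repWith_postcomp_equiv _ (isEquivOver_pshFpLift sq')).2
      (repWith_ofPshMap_of_stable (F := X) (G := ⟨_, hW⟩) hb Δ h))
  · exact prop_of_repWith_ofSpMap hb hd X.property hW
      ((repWith_postcomp_equiv _ (isEquivOver_pshFpLift sq')).1 (repWith_of_iso α.symm h))

variable {f : 𝒳 ⥤ᵇ 𝒴}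

theorem comp_ofOverCat_toOverCat {𝒲 : AlgSt.Cat S} {T : Over S} (Φ : 𝒲 ⥤ᵇ FibCat.overCat T) :
    BasedFunctor.comp (BasedFunctor.comp Φ (AlgSt.ofOverCat T)) (AlgSt.toOverCat T) = Φ := rfl

theorem exists_iso_ofSpMap_spMapOfOver {F : AlgSp.Sp S} {T : Over S}
    (Φ : AlgSt.ofSp F ⥤ᵇ FibCat.overCat T) :
    Nonempty (BasedFunctor.comp Φ (AlgSt.ofOverCat T) ≅ AlgSt.ofSpMap (AlgSt.spMapOfOver Φ)) := by
  obtain ⟨γ⟩ := nonempty_iso_pshMapOf (P := F.obj) (Q := (AlgSp.pyon S).obj T)
    (BasedFunctor.comp Φ (AlgSt.ofOverCat T))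
  rw [← spMapOfOver_hom_eq] at γ
  exact ⟨γ⟩

/-- Cancelling an equivalence against its inverse. -/
def cancelIso {𝒜 ℬ 𝒞 : AlgSt.Cat S} {e' : 𝒜 ⥤ᵇ ℬ} {e : ℬ ⥤ᵇ 𝒜}
    (ε : BasedFunctor.comp e' e ≅ BasedFunctor.id 𝒜) (π : 𝒜 ⥤ᵇ 𝒞) :
    BasedFunctor.comp e' (BasedFunctor.comp e π) ≅ π :=
  whiskerRightIso ε π

theorem exists_fpFst_iso {T : Over S} (y : FibCat.overCat T ⥤ᵇ 𝒴) {F : AlgSp.Space S}
    {e : AlgSt.ofSp F.obj ⥤ᵇ FibCat.fp y f} (he : FibCat.IsEquivOver e) :
    AlgSt.RepByAlgSpWith P (FibCat.diag (FibCat.fpFst y f)) ↔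
      AlgSt.RepByAlgSpWith P (FibCat.diag (AlgSt.ofSpMap
        (AlgSt.spMapOfOver (BasedFunctor.comp e (FibCat.fpFst y f))))) := by
  obtain ⟨γ⟩ := exists_iso_ofSpMap_spMapOfOver (BasedFunctor.comp e (FibCat.fpFst y f))
  obtain ⟨e', he', -, ⟨ε⟩⟩ := isEquivOver_symm he
  constructor
  · intro h
    exact repWith_diag_of_iso γ
      (repWith_diag_postcomp_equiv (isEquivOver_ofOverCat T) (repWith_diag_precomp_equiv he h))
  · intro h
    have h₁ := repWith_diag_postcomp_equiv (isEquivOver_toOverCat T)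
      (repWith_diag_of_iso γ.symm h)
    rw [comp_ofOverCat_toOverCat] at h₁
    exact repWith_diag_of_iso (cancelIso ε (FibCat.fpFst y f)) (repWith_diag_precomp_equiv he' h₁)

/-- A property of the diagonals of all base changes to schemes gives that property of the diagonal. -/
theorem repWith_diag_of_repWith (hb : StableBaseChange P) {D : MorphismProperty (AlgSp.Sp S)}
    (hD : ∀ ⦃X Y : AlgSp.Sp S⦄, AlgSp.IsAlgSpace X → AlgSp.IsAlgSpace Y → ∀ q : X ⟶ Y,
      D q → P (pullback.diagonal q))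
    (h : AlgSt.RepByAlgSpWith D f) : AlgSt.RepByAlgSpWith P (FibCat.diag f) :=
  (repWith_diag_iff_forall_fpFst f).2 fun T y => by
    obtain ⟨F, e, he, hq⟩ := h T y
    exact (exists_fpFst_iso y he).2 ((repWith_diag_ofSpMap_iff hb (Y := ⟨_, AlgSp.IsAlgSpace.yon_obj T⟩) _).1
      (hD F.property (AlgSp.IsAlgSpace.yon_obj T) _ hq))

/-- A property of the diagonal gives one of all base changes to schemes. -/
theorem repWith_of_repWith_diag (hb : StableBaseChange P) (hd : DescendsAlongAtlas P)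
    {D : MorphismProperty (AlgSp.Sp S)}
    (hD : ∀ ⦃X Y : AlgSp.Sp S⦄, AlgSp.IsAlgSpace X → AlgSp.IsAlgSpace Y → ∀ q : X ⟶ Y,
      P (pullback.diagonal q) → D q)
    (hf : AlgSt.RepByAlgSp1 f) (h : AlgSt.RepByAlgSpWith P (FibCat.diag f)) :
    AlgSt.RepByAlgSpWith D f := fun T y => by
  obtain ⟨F, e, he⟩ := hf T y
  exact ⟨F, e, he, hD F.property (AlgSp.IsAlgSpace.yon_obj T) _
    ((repWith_diag_ofSpMap_iff hb (Y := ⟨_, AlgSp.IsAlgSpace.yon_obj T⟩) _).2 hd
      ((exists_fpFst_iso y he).1 ((repWith_diag_iff_forall_fpFst f).1 h T y)))⟩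

variable (hf : AlgSt.RepByAlgSp1 f)

include hf

theorem repWith_sep_diag : AlgSt.RepByAlgSpWith AlgSp.IsSeparatedMor (FibCat.diag f) :=
  repWith_diag_of_repWith (D := ⊤) stableBaseChange_sep
    (fun _ _ hX hY q _ => isSeparatedMor_diagonal hX q) ((repWith_top_iff f).2 hf)

theorem tfae_separated :
    [AlgSt.RepByAlgSpWith AlgSp.IsSeparatedMor f, AlgSt.IsClosedImm (FibCat.diag f),
      AlgSt.IsSeparatedMor f, AlgSt.RepByAlgSpWith AlgSp.IsUnivClosedMor (FibCat.diag f)].TFAE := by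
  tfae_have 1 → 2 := fun h =>
    repWith_diag_of_repWith (stableBaseChange_repWith _) (fun _ _ _ _ _ hq => hq) h
  tfae_have 2 → 3 := fun h => repWith_mono (fun _ _ φ hX hY hφ =>
    (Groth.AlgSp2.isProperMor_iff_repWith hX hY hφ.rep).2
      (Groth.AlgSpBasic.repWith_mono (fun _ _ j (_ : IsClosedImmersion j) =>
        (inferInstance : IsProper j)) hφ)) h
  tfae_have 3 → 4 := fun h => repWith_mono (fun _ _ _ _ _ hφ => hφ.2.2) h
  tfae_have 4 → 1 := fun h => repWith_of_repWith_diag stableBaseChange_univClosed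
    (descendsAlongAtlas_of_isLocalOnBase
      (isLocalOnBase_fppf_of_fpqc Groth.AlgSp2.isLocalOnBase_fpqc_isUnivClosedMor))
    (fun _ _ hX hY q hq => sep_of_isUnivClosedMor_diagonal hX q hq) hf h
  tfae_finish

theorem tfae_quasiSeparated :
    [AlgSt.RepByAlgSpWith AlgSp.IsQuasiSeparatedMor f,
      AlgSt.RepByAlgSpWith AlgSp.IsQuasiCompactMor (FibCat.diag f),
      AlgSt.RepByAlgSpWith AlgSp.IsFiniteTypeMor (FibCat.diag f)].TFAE := by
  tfae_have 1 → 3 := fun h =>
    repWith_mono (P := AlgSp.LocP @LocallyOfFiniteType ⊓ AlgSp.IsQuasiCompactMor)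
      (fun _ _ _ _ _ hφ => ⟨hφ.1, hφ.2⟩)
      (repWith_diag_of_repWith (stableBaseChange_inf stableBaseChange_locP stableBaseChange_qc)
        (fun _ _ hX hY q hq =>
          ⟨locP_lft_diagonal hX q, (qc_diagonal_iff_qs hX hY q).2 hq⟩) h)
  tfae_have 3 → 2 := fun h => repWith_mono (fun _ _ _ _ _ hφ => hφ.2) h
  tfae_have 2 → 1 := fun h => repWith_of_repWith_diag stableBaseChange_qc
    (descendsAlongAtlas_of_isLocalOnBase isLocalOnBase_fppf_qc)
    (fun _ _ hX hY q hq => (qc_diagonal_iff_qs hX hY q).1 hq) hf h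
  tfae_finish

end Transfer

end Groth.AlgStBasic
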