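import Groth.Agent.AlgStBasic.DiagCalc
import Groth.Agent.AlgStBasic.SpaceProps
import Groth.Agent.AlgSpBasic.AffineMor
import Groth.Agent.AlgSp2.AffineRows
import Groth.Agent.AlgSp2.AffineDescentLocal

/-!
# Affine, integral and finite representable morphisms of stacks
-/

set_option autoImplicit false
set_option backward.isDefEq.respectTransparency false
set_option backward.isDefEq.respectTransparency.types false

universe u

open CategoryTheory CategoryTheory.Limits AlgebraicGeometry Opposite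
open Groth.StkBase Groth.AlgSpBasic

noncomputable section

namespace Groth.AlgStBasic

variable {S : Scheme.{u}} {𝒳 𝒴 𝒵 : AlgSt.Cat S}

theorem isAffineMor_eq : AlgSp.IsAffineMor (S := S) = AlgSp.RepWith @IsAffineHom := by
  ext X Y f
  exact isAffineMor_iff_repWith

theorem isIntegralMor_eq : AlgSp.IsIntegralMor (S := S) = AlgSp.RepWith @IsIntegralHom := by
  ext X Y f
  exact isIntegralMor_iff_repWith

theorem isFiniteMor_eq : AlgSp.IsFiniteMor (S := S) = AlgSp.RepWith @IsFinite := by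
  ext X Y f
  exact isFiniteMor_iff_repWith

theorem repWith_comp_of_fpqc {R : MorphismProperty Scheme.{u}} [R.IsStableUnderComposition]
    (h𝒳 : FibCat.IsFibGrpd 𝒳.p) (h𝒴 : FibCat.IsFibGrpd 𝒴.p)
    (hl : AlgSp.IsLocalOnBase (AlgSp.IsFpqcCover (S := S)) (AlgSp.RepWith R))
    {f : 𝒳 ⥤ᵇ 𝒴} {g : 𝒴 ⥤ᵇ 𝒵} (hf : AlgSt.RepByAlgSpWith (AlgSp.RepWith R) f)
    (hg : AlgSt.RepByAlgSpWith (AlgSp.RepWith R) g) :
    AlgSt.RepByAlgSpWith (AlgSp.RepWith R) (BasedFunctor.comp f g) :=
  repWith_comp' h𝒳 h𝒴 (stableBaseChange_repWith R) (stableComp_repWith R)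
    (descendsAlongAtlas_of_isLocalOnBase (isLocalOnBase_fppf_of_fpqc hl)) hf hg

end Groth.AlgStBasic
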