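import Groth.Agent.AlgStBasic.RepCalc
import Groth.Agent.AlgSpBasic.Topology
import Groth.Agent.AlgSpBasic.Points
import Groth.Prelude.Def_AlgSpCov

/-!
# Calculus of properties of functors representable by algebraic spaces
-/

set_option autoImplicit false
set_option backward.isDefEq.respectTransparency false
set_option backward.isDefEq.respectTransparency.types false

universe u

open CategoryTheory CategoryTheory.Limits AlgebraicGeometry Opposite
open Groth.StkBase Groth.AlgSpBasic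

namespace Groth.AlgStBasic

variable {S : Scheme.{u}}

/-- A property of morphisms restricted to morphisms between algebraic spaces. -/
def onSpaces (P : MorphismProperty (AlgSp.Sp S)) : MorphismProperty (AlgSp.Sp S) :=
  fun X Y f => AlgSp.IsAlgSpace X ∧ AlgSp.IsAlgSpace Y ∧ P f

/-- Stability under base change among algebraic spaces. -/
def StableBaseChange (P : MorphismProperty (AlgSp.Sp S)) : Prop :=
  ∀ ⦃X₁ Y₁ X₂ Y₂ : AlgSp.Sp S⦄, AlgSp.IsAlgSpace X₁ → AlgSp.IsAlgSpace Y₁ → AlgSp.IsAlgSpace X₂ →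
    AlgSp.IsAlgSpace Y₂ → ∀ (a : X₁ ⟶ Y₁) (b : Y₂ ⟶ Y₁) (a' : X₂ ⟶ Y₂) (b' : X₂ ⟶ X₁),
    IsPullback b' a' a b → P a → P a'

/-- Stability under composition among algebraic spaces. -/
def StableComp (P : MorphismProperty (AlgSp.Sp S)) : Prop :=
  ∀ ⦃X Y Z : AlgSp.Sp S⦄, AlgSp.IsAlgSpace X → AlgSp.IsAlgSpace Y → AlgSp.IsAlgSpace Z →
    ∀ (a : X ⟶ Y) (b : Y ⟶ Z), P a → P b → P (a ≫ b)

theorem StableBaseChange.respectsIso {P : MorphismProperty (AlgSp.Sp S)} (h : StableBaseChange P) :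
    (onSpaces P).RespectsIso := by
  refine MorphismProperty.RespectsIso.mk _ (fun {X Y Z} e f hf => ?_) (fun {X Y Z} e f hf => ?_)
  · obtain ⟨hY, hZ, hP⟩ := hf
    refine ⟨hY.of_iso e.symm, hZ, h hY hZ (hY.of_iso e.symm) hZ f (𝟙 Z) (e.hom ≫ f) e.hom ?_ hP⟩
    exact IsPullback.of_horiz_isIso ⟨by simp⟩
  · obtain ⟨hX, hY, hP⟩ := hf
    refine ⟨hX, hY.of_iso e, h hX hY hX (hY.of_iso e) f e.inv (f ≫ e.hom) (𝟙 X) ?_ hP⟩
    exact IsPullback.of_horiz_isIso ⟨by simp⟩

/-- A representable map with a composable, base change stable property containing etale maps has the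
property etale locally on source and target. -/
theorem locP_of_repWith {P : MorphismProperty Scheme.{u}} [P.IsStableUnderBaseChange]
    [P.IsStableUnderComposition] (hP : ∀ ⦃X Y : Scheme.{u}⦄ (φ : X ⟶ Y), Etale φ → P φ)
    {F G : AlgSp.Sp S} {f : F ⟶ G} (hf : AlgSp.RepWith P f) : AlgSp.LocP P f := by
  intro U V a b h ha hb e
  have := MorphismProperty.IsStableUnderBaseChange.respectsIso (P := P)
  have haf : AlgSp.RepWith P (a ≫ f) := Groth.AlgSpBasic.repWith_comp (Groth.AlgSpBasic.repWith_mono (fun _ _ φ hφ => hP φ hφ) ha) hf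
  obtain ⟨Q, fst, snd, sq⟩ := exists_pullback_yon haf.rep b
  obtain ⟨σ, hσ⟩ := (AlgSp.yon S).map_surjective
    (sq.lift (𝟙 _) ((AlgSp.yon S).map h) ((Category.id_comp _).trans e))
  have h₁ : σ ≫ fst = 𝟙 U := (AlgSp.yon S).map_injective (by
    rw [Functor.map_comp, hσ, sq.lift_fst, (AlgSp.yon S).map_id])
  have h₂ : σ ≫ snd = h := (AlgSp.yon S).map_injective (by
    rw [Functor.map_comp, hσ, sq.lift_snd])
  have hsnd : P snd.left := haf.property b _ snd sq
  have hfst : Etale fst.left := hb.property (a ≫ f) _ fst sq.flip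
  have h₁' : σ.left ≫ fst.left = 𝟙 U.left := congrArg (fun t => t.left) h₁
  have : Etale (σ.left ≫ fst.left) := by rw [h₁']; infer_instance
  have hσ' : Etale σ.left := Etale.of_comp σ.left fst.left
  rw [← h₂]
  exact P.comp_mem _ _ (hP _ hσ') hsnd

theorem isFppfCover_of_etale {W : Over S} {X : AlgSp.Sp S} (q : (AlgSp.yon S).obj W ⟶ X)
    (he : AlgSp.RepWith @Etale q) (hs : AlgSp.RepWith @Surjective q) :
    AlgSp.IsFppfCover (fun _ : PUnit.{u + 1} => (AlgSp.yon S).obj W) (fun _ => q) := by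
  refine ⟨fun _ => ⟨?_, ?_⟩, fun x => ⟨PUnit.unit, surjective_map_of_repWith hs x⟩⟩
  · exact locP_of_repWith (fun _ _ φ (h : Etale φ) => by infer_instance)
      (Groth.AlgSpBasic.repWith_mono (fun _ _ φ (h : Etale φ) => (by infer_instance : Flat φ)) he)
  · exact locP_of_repWith (fun _ _ φ (h : Etale φ) => by infer_instance)
      (Groth.AlgSpBasic.repWith_mono (fun _ _ φ (h : Etale φ) => (by infer_instance : LocallyOfFinitePresentation φ)) he)

theorem prop_snd_of_repFst {Q : MorphismProperty (AlgSp.Sp S)} [Q.RespectsIso]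
    {F G P : AlgSp.PSp S} {a : F ⟶ G} {U : Over S} {ξ : (AlgSp.pyon S).obj U ⟶ G}
    {fst : P ⟶ F} {snd : P ⟶ (AlgSp.pyon S).obj U} (sq : IsPullback fst snd a ξ)
    (hs : Presheaf.IsSheaf (AlgSp.J S) P)
    (h : RepFst Q (FibCat.fpFst (overMapOf ξ) (Stk.ofPshMap a))) :
    Q (ObjectProperty.homMk snd : (⟨P, hs⟩ : AlgSp.Sp S) ⟶ (AlgSp.yon S).obj U) := by
  obtain ⟨X, e, he, hQ⟩ := h
  obtain ⟨E', hE', -, ⟨b⟩⟩ := isEquivOver_symm (isEquivOver_fpOfMap sq.flip)
  have := isIso_pshMapOf (isEquivOver_comp he hE')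
  let φ : X.obj ⟶ (⟨P, hs⟩ : AlgSp.Sp S) := ObjectProperty.homMk (pshMapOf (BasedFunctor.comp e E'))
  have : IsIso ((sheafToPresheaf (AlgSp.J S) (Type (u + 1))).map φ) := this
  have : IsIso φ := isIso_of_fully_faithful (sheafToPresheaf (AlgSp.J S) (Type (u + 1))) φ
  have key : AlgSt.spMapOfOver (BasedFunctor.comp e (FibCat.fpFst (overMapOf ξ) (Stk.ofPshMap a)))
      = φ ≫ ObjectProperty.homMk (snd : P ⟶ ((AlgSp.yon S).obj U).obj) := by
    apply ObjectProperty.hom_ext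
    rw [spMapOfOver_hom_eq]
    refine (pshMapOf_eq_of_iso (whiskerRightIso (whiskerLeftIso e
      (whiskerRightIso b (FibCat.fpFst (overMapOf ξ) (Stk.ofPshMap a)))) (AlgSt.ofOverCat U))).symm.trans ?_
    refine (pshMapOf_comp (BasedFunctor.comp e E') (Stk.ofPshMap snd)).trans ?_
    rw [pshMapOf_ofPshMap]
    rfl
  rw [key] at hQ
  exact (Q.cancel_left_of_respectsIso φ _).1 hQ

/-- `P` descends along the etale surjective charts of algebraic spaces (on the target). -/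
def DescendsAlongAtlas (P : MorphismProperty (AlgSp.Sp S)) : Prop :=
  ∀ ⦃X Y : AlgSp.Sp S⦄ (π : X ⟶ Y) ⦃W : Over S⦄ (q : (AlgSp.yon S).obj W ⟶ Y) ⦃Q : AlgSp.Sp S⦄
    (fst : Q ⟶ X) (snd : Q ⟶ (AlgSp.yon S).obj W), AlgSp.IsAlgSpace X → AlgSp.IsAlgSpace Y →
    AlgSp.RepWith @Etale q → AlgSp.RepWith @Surjective q → AlgSp.IsAlgSpace Q →
    IsPullback fst snd π q → P snd → P π

theorem descendsAlongAtlas_of_isLocalOnBase {P : MorphismProperty (AlgSp.Sp S)}
    (hP : AlgSp.IsLocalOnBase AlgSp.IsFppfCover P) : DescendsAlongAtlas P :=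
  fun _ _ π W q Q fst snd hX hY he hs hQ sq hp =>
    (hP (fun _ : PUnit.{u + 1} => (AlgSp.yon S).obj W) (fun _ => q) hY
      (fun _ => AlgSp.IsAlgSpace.yon_obj W) (isFppfCover_of_etale q he hs) π hX
      (fun _ => Q) (fun _ => snd) (fun _ => fst) (fun _ => hQ) (fun _ => sq)).2 fun _ => hp

variable {𝒳 𝒴 𝒵 : AlgSt.Cat S} {P : MorphismProperty (AlgSp.Sp S)}

/-- The base change of a functor with property `P` to an algebraic space has `P`. -/
theorem exists_space_of_repWith (hX : FibCat.IsFibGrpd 𝒳.p) (hY : FibCat.IsFibGrpd 𝒴.p)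
    (hb : StableBaseChange P) (hP : DescendsAlongAtlas P)
    {f : 𝒳 ⥤ᵇ 𝒴} (hf : AlgSt.RepByAlgSpWith P f) {G : AlgSp.Space S} (g : AlgSt.ofSp G.obj ⥤ᵇ 𝒴) :
    ∃ (F : AlgSp.Space S) (e : AlgSt.ofSp F.obj ⥤ᵇ FibCat.fp g f),
      FibCat.IsEquivOver e ∧
        P (ObjectProperty.homMk (pshMapOf (BasedFunctor.comp e (FibCat.fpFst g f))) : F.obj ⟶ G.obj) := by
  obtain ⟨F, e, he⟩ := repByAlgSp_fp hX hY f g (repWith_repByAlgSp1 hf) ⟨G, BasedFunctor.id _, isEquivOver_id _⟩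
  refine ⟨F, e, he, ?_⟩
  let π : F.obj ⟶ G.obj := ObjectProperty.homMk (pshMapOf (BasedFunctor.comp e (FibCat.fpFst g f)))
  have := hb.respectsIso
  obtain ⟨β⟩ := nonempty_iso_pshMapOf (BasedFunctor.comp e (FibCat.fpFst g f))
  have hπ : AlgSt.RepByAlgSpWith P (Stk.ofPshMap π.hom) :=
    repWith_of_iso β ((repWith_precomp_equiv he _).2 (repWith_fpFst f g hf))
  have hQ := (AlgSp.repBySpWith_hom_iff _ π).1 (repBySpWith_of_repByAlgSpWith (Q := onSpaces P)
    (repWith_mono (fun _ _ _ hX hY h => (⟨hX, hY, h⟩ : onSpaces P _)) hπ))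
  obtain ⟨W, q, he', hs⟩ := G.property.atlas
  have sq := IsPullback.of_hasPullback π q
  obtain ⟨hA, -, -, hp⟩ := hQ q _ _ sq
  exact hP π q _ _ F.property G.property he' hs hA sq hp

theorem repWith_comp' (hX : FibCat.IsFibGrpd 𝒳.p) (hY : FibCat.IsFibGrpd 𝒴.p)
    (hb : StableBaseChange P) (hc : StableComp P) (hP : DescendsAlongAtlas P)
    {f : 𝒳 ⥤ᵇ 𝒴} {g : 𝒴 ⥤ᵇ 𝒵} (hf : AlgSt.RepByAlgSpWith P f) (hg : AlgSt.RepByAlgSpWith P g) :
    AlgSt.RepByAlgSpWith P (BasedFunctor.comp f g) := by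
  intro U z
  obtain ⟨G, e, he, hPG⟩ := hg U z
  obtain ⟨F, e', he', hPF⟩ := exists_space_of_repWith hX hY hb hP hf
    (BasedFunctor.comp e (FibCat.fpSnd z g))
  let E := BasedFunctor.comp (fpPre e (BasedFunctor.id _) (FibCat.fpSnd z g) f)
    (BasedFunctor.comp (BasedFunctor.comp (fpSwap _ _) (BasedFunctor.comp
      (fpPre (BasedFunctor.id _) (fpSwap z g) f (FibCat.fpFst g z)) (fpPaste f g z)))
    (fpSwap (BasedFunctor.comp f g) z))
  have hE : FibCat.IsEquivOver E :=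
    isEquivOver_comp (isEquivOver_fpPre he (isEquivOver_id _) _ _)
      (isEquivOver_comp (isEquivOver_comp (isEquivOver_fpSwap _ _) (isEquivOver_comp
        (isEquivOver_fpPre (isEquivOver_id _) (isEquivOver_fpSwap z g) _ _) (isEquivOver_fpPaste f g z)))
        (isEquivOver_fpSwap _ _))
  refine ⟨F, BasedFunctor.comp e' E, isEquivOver_comp he' hE, ?_⟩
  convert hc F.property G.property (AlgSp.IsAlgSpace.yon_obj U) _ _ hPF hPG using 1
  apply ObjectProperty.hom_ext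
  rw [spMapOfOver_hom_eq]
  exact (pshMapOf_comp (BasedFunctor.comp e' (FibCat.fpFst (BasedFunctor.comp e (FibCat.fpSnd z g)) f))
    (BasedFunctor.comp (BasedFunctor.comp e (FibCat.fpFst z g)) (AlgSt.ofOverCat U))).trans
    (congrArg _ (spMapOfOver_hom_eq _).symm)

end Groth.AlgStBasic
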