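import Groth.Agent.AlgStBasic.DiagOfAtlas
import Groth.Agent.AlgStBasic.PropCalc

/-!
# An atlas from a fibre product with a cover of the base
-/

set_option autoImplicit false
set_option backward.isDefEq.respectTransparency false
set_option backward.isDefEq.respectTransparency.types false

universe u

open CategoryTheory CategoryTheory.Limits AlgebraicGeometry Opposite
open Groth.StkBase Groth.AlgSpBasic

namespace Groth.AlgStBasic

variable {S : Scheme.{u}} {P : MorphismProperty Scheme.{u}} [EtaleLocal P]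

theorem hasAtlas_of_fp_atlas {𝒳 𝒴 𝒲 : AlgSt.Cat S} (hW : FibCat.IsFibGrpd 𝒲.p)
    (hX : FibCat.IsFibGrpd 𝒳.p) (hY : FibCat.IsFibGrpd 𝒴.p) (z : 𝒲 ⥤ᵇ 𝒴)
    (hz : AlgSt.RepByAlgSpWith (AlgSp.LocP P) z) (hzs : AlgSt.RepByAlgSpWith AlgSp.IsSurjectiveMor z)
    (f : 𝒳 ⥤ᵇ 𝒴) (h : AlgSt.HasAtlas (AlgSp.LocP P) (FibCat.fp z f)) :
    AlgSt.HasAtlas (AlgSp.LocP P) 𝒳 := by
  obtain ⟨V, v, hv, hvs⟩ := h
  exact ⟨V, BasedFunctor.comp v (FibCat.fpSnd z f),
    repWith_comp' (isFibGrpd_overCat V) (isFibGrpd_fp hW hX hY) stableBaseChange_locP stableComp_locP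
      descendsAlongAtlas_locP hv (repWith_fpSnd z f hz),
    repWith_comp' (isFibGrpd_overCat V) (isFibGrpd_fp hW hX hY) stableBaseChange_surjective
      stableComp_surjective descendsAlongAtlas_surjective hvs (repWith_fpSnd z f hzs)⟩

end Groth.AlgStBasic
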