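import Groth.Agent.AlgStBasic.SetoidSpace
import Groth.Agent.AlgStBasic.Atlas
import Groth.Agent.AlgSpBoot.EtaleTop

/-!
# A smooth atlas makes the diagonal representable
-/

set_option autoImplicit false
set_option backward.isDefEq.respectTransparency false
set_option backward.isDefEq.respectTransparency.types false

universe u

open CategoryTheory CategoryTheory.Limits AlgebraicGeometry Opposite
open Groth.StkBase

namespace Groth.AlgStBasic

variable {S : Scheme.{u}} {𝒳 : AlgSt.Cat S}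

theorem isStack_etale_of_repByAlgSp {𝒴 : AlgSt.Cat S} (h : AlgSt.RepByAlgSp 𝒴) :
    Stk.IsStack (Groth.AlgSpBoot.Jet S) 𝒴 := by
  obtain ⟨X, e, he⟩ := h
  exact (isStack_iff_of_isEquivOver _ he).1 ((isStack_ofPsh_iff _ _).2
    ((isSheaf_iff_isSheaf_of_type _ _).1 (Groth.AlgSpBoot.isSheaf_Jet X.obj.property)))

/-- Two maps from schemes to a stack with an atlas have a setoid fibre product with an atlas; where such
categories are algebraic spaces the diagonal of the stack is representable. -/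
theorem repByAlgSp1_diag_of_atlas {J' : GrothendieckTopology (Over S)}
    (hsub : ∀ U : Over S, Stk.IsStack J' (FibCat.overCat U : AlgSt.Cat S))
    (hboot : ∀ {𝒵 : AlgSt.Cat S}, FibCat.IsFibSetoid 𝒵.p → Stk.IsStack J' 𝒵 →
      AlgSt.HasAtlas (AlgSp.LocP @Smooth) 𝒵 → AlgSt.RepByAlgSp 𝒵)
    (hst : Stk.IsStack J' 𝒳) (hat : AlgSt.HasAtlas (AlgSp.LocP @Smooth) 𝒳) :
    AlgSt.RepByAlgSp1 (FibCat.diag (FibCat.toSelf 𝒳)) := by
  rw [repByAlgSp1_diag_iff hst.1]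
  intro U₂ x₂ U₁ x₁
  obtain ⟨W, u, hu, hus⟩ := hat
  have hW := isFibGrpd_overCat W
  have hset : FibCat.IsFibSetoid (FibCat.fp x₁ x₂).p :=
    fp_isFibSetoid (isFibSetoid_of_repByAlgSp (repByAlgSp_overCat U₁))
      (isFibSetoid_of_repByAlgSp (repByAlgSp_overCat U₂)) hst.1
  refine hboot hset (isStack_fp J' (hsub U₁) (hsub U₂) (isPrestack_of_isStack hst)) ?_
  let p := FibCat.fpFst x₁ u
  have hT₁ : AlgSt.RepByAlgSp (FibCat.fp x₁ u) := repWith_repByAlgSp1 hu U₁ x₁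
  have hT₂ : AlgSt.RepByAlgSp (FibCat.fp u x₂) :=
    repByAlgSp_of_equiv (isEquivOver_fpSwap x₂ u) (repWith_repByAlgSp1 hu U₂ x₂)
  have h₁ : AlgSt.RepByAlgSp (FibCat.fp (FibCat.fpSnd x₁ u) (FibCat.fpFst u x₂)) :=
    repByAlgSp_fp (isFibGrpd_fp hW (isFibGrpd_overCat U₂) hst.1) hW _ _
      (repByAlgSp1_of_repByAlgSp hT₂ (repByAlgSp_overCat W) _) hT₁
  have h₂ : AlgSt.RepByAlgSp (FibCat.fp (BasedFunctor.comp p x₁) x₂) :=
    repByAlgSp_of_equiv (isEquivOver_fpCongr (FibCat.fpIso x₁ u).symm (Iso.refl x₂))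
      (repByAlgSp_of_equiv (isEquivOver_fpPaste (FibCat.fpSnd x₁ u) u x₂) h₁)
  obtain ⟨F, e, he⟩ := h₂
  exact hasAtlas_of_space (BasedFunctor.comp e (fpPre p (BasedFunctor.id _) x₁ x₂))
    ((repWith_precomp_equiv he _).2 (repWith_fpPre_left p x₁ x₂ (repWith_fpFst u x₁ hu)))
    ((repWith_precomp_equiv he _).2 (repWith_fpPre_left p x₁ x₂ (repWith_fpFst u x₁ hus)))

/-- An fppf stack with a smooth atlas is algebraic. -/
theorem isAlgStack_of_hasAtlas (hst : Stk.IsStack (AlgSp.J S) 𝒳)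
    (hat : AlgSt.HasAtlas (AlgSp.LocP @Smooth) 𝒳) : AlgSt.IsAlgStack Scheme.fppfPrecoverage 𝒳 :=
  ⟨hst, repByAlgSp1_diag_of_atlas (fun U => isStack_of_repByAlgSp (repByAlgSp_overCat U))
    (fun h₁ h₂ h₃ => repByAlgSp_of_setoid_atlas h₁ h₂ h₃) hst hat, hat⟩

/-- An etale stack with a smooth atlas is algebraic. -/
theorem isAlgStack_etale_of_hasAtlas (hst : Stk.IsStack (Groth.AlgSpBoot.Jet S) 𝒳)
    (hat : AlgSt.HasAtlas (AlgSp.LocP @Smooth) 𝒳) : AlgSt.IsAlgStack Scheme.etalePrecoverage 𝒳 :=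
  ⟨hst, repByAlgSp1_diag_of_atlas (fun U => isStack_etale_of_repByAlgSp (repByAlgSp_overCat U))
    (fun h₁ h₂ h₃ => repByAlgSp_of_setoid_etale_atlas h₁ h₂ h₃) hst hat, hat⟩

end Groth.AlgStBasic
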