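import Groth.Agent.AlgSpBoot.SmoothCover
import Groth.Agent.AlgStBasic.Atlas
import Groth.Agent.AlgStBasic.Faithful
import Groth.Agent.AlgStBasic.StUniv
import Groth.Agent.StkBase.Setoid
import Groth.Agent.StkBase.Descent

/-!
# Algebraic stacks in setoids are algebraic spaces
-/

set_option autoImplicit false
set_option backward.isDefEq.respectTransparency false
set_option backward.isDefEq.respectTransparency.types false

universe u

open CategoryTheory CategoryTheory.Limits AlgebraicGeometry Opposite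

namespace Groth.AlgStBasic

open Groth.StkBase Groth.AlgSpBasic

variable {S : Scheme.{u}}

instance respectsIso_locP_sp (P : MorphismProperty Scheme.{u}) :
    (AlgSp.LocP (S := S) P).RespectsIso := by
  refine MorphismProperty.RespectsIso.mk _ (fun {X Y Z} e f hf => ?_) (fun {X Y Z} e f hf => ?_)
  · intro U V a b h ha hb comm
    exact hf (a ≫ e.hom) b h (Groth.AlgSpBasic.repWith_comp ha (Groth.AlgSpBasic.repWith_isIso e.hom))
      hb (by rw [Category.assoc]; exact comm)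
  · intro U V a b h ha hb comm
    exact hf a (b ≫ e.inv) h ha (Groth.AlgSpBasic.repWith_comp hb (Groth.AlgSpBasic.repWith_isIso e.inv))
      (by rw [← cancel_mono e.hom]; simpa using comm)

instance respectsIso_isSurjectiveMor : (AlgSp.IsSurjectiveMor (S := S)).RespectsIso := by
  have hbij : ∀ {X Y : AlgSp.Sp S} (e : X ≅ Y), Function.Surjective (AlgSp.Points.map e.hom) :=
    fun e y => ⟨AlgSp.Points.map e.inv y, by rw [← AlgSp.Points.map_comp, e.inv_hom_id, AlgSp.Points.map_id]⟩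
  refine MorphismProperty.RespectsIso.mk _ (fun {X Y Z} e f hf => ?_) (fun {X Y Z} e f hf => ?_)
  · intro y
    obtain ⟨x, rfl⟩ := hf y
    obtain ⟨x', rfl⟩ := hbij e x
    exact ⟨x', AlgSp.Points.map_comp _ _ _⟩
  · intro y
    obtain ⟨y', rfl⟩ := hbij e y
    obtain ⟨x, rfl⟩ := hf y'
    exact ⟨x, AlgSp.Points.map_comp _ _ _⟩

variable {𝒳 𝒴 : AlgSt.Cat S}

/-- A setoid category with a stack structure and a smooth surjective cover by a space is an algebraic
space. -/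
theorem repByAlgSp_of_setoid_atlas (hS : FibCat.IsFibSetoid 𝒳.p)
    (hst : Stk.IsStack (AlgSp.J S) 𝒳) (hat : AlgSt.HasAtlas (AlgSp.LocP @Smooth) 𝒳) :
    AlgSt.RepByAlgSp 𝒳 := by
  obtain ⟨P, e, he⟩ := exists_ofPsh_equiv hS
  have hP : Presheaf.IsSheaf (AlgSp.J S) P :=
    (isSheaf_iff_isSheaf_of_type _ _).2 ((isStack_ofPsh_iff P (AlgSp.J S)).1
      ((isStack_iff_of_isEquivOver (AlgSp.J S) he).2 hst))
  obtain ⟨U, x, hx, hxs⟩ := hat
  obtain ⟨e', he', -, ⟨b⟩⟩ := isEquivOver_symm he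
  obtain ⟨ξ, ⟨β⟩⟩ := exists_overMapOf (BasedFunctor.comp x e')
  have key : ∀ {Q : MorphismProperty (AlgSp.Sp S)} [Q.RespectsIso],
      AlgSt.RepByAlgSpWith Q x → AlgSp.RepBySpWith Q ξ := fun {Q} _ h =>
    repBySpWith_of_repByAlgSpWith ((repWith_precomp_equiv (isEquivOver_ofOverCat U) _).1
      (repWith_of_iso β.symm ((repWith_postcomp_equiv x he').2 h)))
  refine ⟨⟨⟨P, hP⟩, (AlgSp.isAlgSpaceP_obj_iff ⟨P, hP⟩).1 ?_⟩, e, he⟩
  refine Groth.AlgSpBoot.isAlgSpaceP_of_smooth_cover (U := (AlgSp.ofScheme S).obj U) (p := ξ)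
    (Groth.AlgSpBoot.isSheaf_Jet hP) fun V η F' fst snd sq => ?_
  obtain ⟨h, hA, h₁⟩ := key hxs η fst snd sq
  obtain ⟨h', hA', h₂⟩ := key hx η fst snd sq
  exact ⟨h, hA, h₁, h₂⟩

/-- A setoid category with an etale stack structure and a smooth surjective cover by a space is an
algebraic space. -/
theorem repByAlgSp_of_setoid_etale_atlas (hS : FibCat.IsFibSetoid 𝒳.p)
    (hst : Stk.IsStack (Groth.AlgSpBoot.Jet S) 𝒳) (hat : AlgSt.HasAtlas (AlgSp.LocP @Smooth) 𝒳) :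
    AlgSt.RepByAlgSp 𝒳 := by
  obtain ⟨P, e, he⟩ := exists_ofPsh_equiv hS
  have hP : Presheaf.IsSheaf (Groth.AlgSpBoot.Jet S) P :=
    (isSheaf_iff_isSheaf_of_type _ _).2 ((isStack_ofPsh_iff P _).1
      ((isStack_iff_of_isEquivOver _ he).2 hst))
  obtain ⟨U, x, hx, hxs⟩ := hat
  obtain ⟨e', he', -, ⟨b⟩⟩ := isEquivOver_symm he
  obtain ⟨ξ, ⟨β⟩⟩ := exists_overMapOf (BasedFunctor.comp x e')
  have key : ∀ {Q : MorphismProperty (AlgSp.Sp S)} [Q.RespectsIso],
      AlgSt.RepByAlgSpWith Q x → AlgSp.RepBySpWith Q ξ := fun {Q} _ h =>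
    repBySpWith_of_repByAlgSpWith ((repWith_precomp_equiv (isEquivOver_ofOverCat U) _).1
      (repWith_of_iso β.symm ((repWith_postcomp_equiv x he').2 h)))
  have hA : AlgSp.IsAlgSpaceP P :=
    Groth.AlgSpBoot.isAlgSpaceP_of_smooth_cover (U := (AlgSp.ofScheme S).obj U) (p := ξ) hP
      fun V η F' fst snd sq => by
        obtain ⟨h, hA, h₁⟩ := key hxs η fst snd sq
        obtain ⟨h', hA', h₂⟩ := key hx η fst snd sq
        exact ⟨h, hA, h₁, h₂⟩
  exact ⟨⟨⟨P, hA.choose⟩, hA.choose_spec⟩, e, he⟩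

/-- An algebraic stack in setoids is an algebraic space. -/
theorem isFibSetoid_iff_repByAlgSp (hX : AlgSt.IsAlgStack Scheme.fppfPrecoverage 𝒳) :
    FibCat.IsFibSetoid 𝒳.p ↔ AlgSt.RepByAlgSp 𝒳 :=
  ⟨fun h => repByAlgSp_of_setoid_atlas h hX.isStack hX.atlas, isFibSetoid_of_repByAlgSp⟩

/-- Fibre products of a faithful functor over a slice are setoids. -/
theorem isFibSetoid_fp_of_faithful (hX : FibCat.IsFibGrpd 𝒳.p) (hY : FibCat.IsFibGrpd 𝒴.p)
    (f : 𝒳 ⥤ᵇ 𝒴) [f.toFunctor.Faithful] {U : Over S} (y : FibCat.overCat U ⥤ᵇ 𝒴) :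
    FibCat.IsFibSetoid (FibCat.fp y f).p := by
  refine ⟨isFibGrpd_fp (isFibGrpd_overCat U) hX hY, fun V a b => ⟨fun u v => ?_⟩⟩
  have h₁ : u.1.hom.fst = v.1.hom.fst := by
    have := u.2
    have := v.2
    have e1 := IsHomLift.fac (FibCat.fp y f).p (𝟙 V) u.1
    have e2 := IsHomLift.fac (FibCat.fp y f).p (𝟙 V) v.1
    have e3 := (IsHomLift.fac' (FibCat.fp y f).p (𝟙 V) u.1).trans
      (IsHomLift.fac' (FibCat.fp y f).p (𝟙 V) v.1).symm
    exact Over.OverMorphism.ext e3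
  refine Subtype.ext (fp_hom_ext h₁ (f.toFunctor.map_injective ?_))
  have w₁ := u.1.hom.w
  have w₂ := v.1.hom.w
  rw [h₁] at w₁
  exact (cancel_epi a.1.obj.iso.hom).1 (w₁.symm.trans w₂)

/-- A morphism of algebraic stacks is representable by algebraic spaces iff it is faithful. -/
theorem faithful_iff_repByAlgSp1 (hX : AlgSt.IsAlgStack Scheme.fppfPrecoverage 𝒳)
    (hY : AlgSt.IsAlgStack Scheme.fppfPrecoverage 𝒴) (f : 𝒳 ⥤ᵇ 𝒴) :
    f.toFunctor.Faithful ↔ AlgSt.RepByAlgSp1 f :=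
  ⟨fun _ U y => (isFibSetoid_iff_repByAlgSp
      (isAlgStack_fp hY.isStack hY.diag (isAlgStack_overCat U) hX y f)).1
    (isFibSetoid_fp_of_faithful hX.isStack.1 hY.isStack.1 f y),
    faithful_of_repByAlgSp1 hX.isStack.1 hY.isStack.1 f⟩

end Groth.AlgStBasic
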