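import Groth.Agent.AlgStBasic.Rep

/-!
# Invariance of algebraic stacks under equivalence over the base
-/

set_option autoImplicit false
set_option backward.isDefEq.respectTransparency false
set_option backward.isDefEq.respectTransparency.types false

universe v₅ u₅ v₄ u₄ v₃ u₃ v₂ u₂ v u

open CategoryTheory CategoryTheory.Limits AlgebraicGeometry
open Groth.StkBase

namespace Groth.StkBase

variable {C : Type u} [Category.{v} C]
variable {𝒲 : BasedCategory.{v₂, u₂} C} {𝒳 : BasedCategory.{v₃, u₃} C} {𝒴 : BasedCategory.{v₄, u₄} C}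
  {𝒵 : BasedCategory.{v₅, u₅} C}

theorem self_ext {a b : C} {f g : a ⟶ b} (hf : IsVert (FibCat.selfOver C).p f)
    (hg : IsVert (FibCat.selfOver C).p g) : f = g :=
  hf.map_eq.trans hg.map_eq.symm

/-- Any two functors over `C` to `C` itself are canonically isomorphic. -/
def selfIso (A B : 𝒲 ⥤ᵇ FibCat.selfOver C) : A ≅ B :=
  isoMk (fun a => eqToIso ((A.w_obj a).trans (B.w_obj a).symm))
    (fun {a b} φ => by
      have h1 : A.map φ = eqToHom (A.w_obj a) ≫ 𝒲.p.map φ ≫ eqToHom (A.w_obj b).symm := map_map A φ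
      have h2 : B.map φ = eqToHom (B.w_obj a) ≫ 𝒲.p.map φ ≫ eqToHom (B.w_obj b).symm := map_map B φ
      rw [h1, h2]
      simp)
    (fun a => ⟨(A.w_obj a).trans (B.w_obj a).symm, rfl⟩)

/-- The product of two functors over `C`. -/
def prodMapF (a : 𝒲 ⥤ᵇ 𝒳) (b : 𝒵 ⥤ᵇ 𝒴) :
    FibCat.fp (FibCat.toSelf 𝒲) (FibCat.toSelf 𝒵) ⥤ᵇ FibCat.fp (FibCat.toSelf 𝒳) (FibCat.toSelf 𝒴) :=
  FibCat.fpLift (BasedFunctor.comp (FibCat.fpFst _ _) a) (BasedFunctor.comp (FibCat.fpSnd _ _) b)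
    (selfIso _ _)

theorem isEquivOver_prodMapF {a : 𝒲 ⥤ᵇ 𝒳} {b : 𝒵 ⥤ᵇ 𝒴} (ha : FibCat.IsEquivOver a)
    (hb : FibCat.IsEquivOver b) : FibCat.IsEquivOver (prodMapF a b) := by
  refine isEquivOver_of_iso (F := BasedFunctor.comp
    (fpCongr (selfIso (FibCat.toSelf 𝒲) (BasedFunctor.comp a (FibCat.toSelf 𝒳)))
      (selfIso (FibCat.toSelf 𝒵) (BasedFunctor.comp b (FibCat.toSelf 𝒴))))
    (fpPre a b (FibCat.toSelf 𝒳) (FibCat.toSelf 𝒴))) ?_
    (isEquivOver_comp (isEquivOver_fpCongr _ _) (isEquivOver_fpPre ha hb _ _))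
  exact fpIsoMk (Iso.refl _) (Iso.refl _) fun x =>
    self_ext ((isVert_map (isVert_id _)).comp (fp_isVert _))
      ((fp_isVert _).comp (isVert_map (isVert_id _)))

theorem exists_diag_square {e : 𝒲 ⥤ᵇ 𝒳} :
    Nonempty (BasedFunctor.comp (FibCat.diag (FibCat.toSelf 𝒲)) (prodMapF e e)
      ≅ BasedFunctor.comp e (FibCat.diag (FibCat.toSelf 𝒳))) :=
  ⟨fpIsoMk (Iso.refl _) (Iso.refl _) fun _ =>
    self_ext ((isVert_map (isVert_id _)).comp (fp_isVert _))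
      ((fp_isVert _).comp (isVert_map (isVert_id _)))⟩

end Groth.StkBase

namespace Groth.AlgStBasic

universe w₁ v₁ w₂

variable {S : Scheme.{u}}
variable {𝒳 : BasedCategory.{v₁, w₁} (Over S)} {𝒴 : BasedCategory.{v₂, w₂} (Over S)}

theorem repByAlgSp1_diag_iff_of_isEquivOver {e : 𝒳 ⥤ᵇ 𝒴} (he : FibCat.IsEquivOver e) :
    AlgSt.RepByAlgSp1 (FibCat.diag (FibCat.toSelf 𝒴)) ↔
      AlgSt.RepByAlgSp1 (FibCat.diag (FibCat.toSelf 𝒳)) :=
  repByAlgSp1_iff_of_square he (isEquivOver_prodMapF he he) (exists_diag_square (e := e)).some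

theorem hasAtlas_of_isEquivOver {e : 𝒳 ⥤ᵇ 𝒴} (he : FibCat.IsEquivOver e)
    {P : MorphismProperty (AlgSp.Sp S)} (h : AlgSt.HasAtlas P 𝒳) : AlgSt.HasAtlas P 𝒴 := by
  obtain ⟨U, x, h1, h2⟩ := h
  exact ⟨U, BasedFunctor.comp x e, (repWith_postcomp_equiv x he).2 h1,
    (repWith_postcomp_equiv x he).2 h2⟩

theorem isAlgStack_of_isEquivOver {K : Precoverage Scheme.{u}} {e : 𝒳 ⥤ᵇ 𝒴}
    (he : FibCat.IsEquivOver e) (h : AlgSt.IsAlgStack K 𝒳) : AlgSt.IsAlgStack K 𝒴 where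
  isStack := (isStack_iff_of_isEquivOver _ he).1 h.isStack
  diag := (repByAlgSp1_diag_iff_of_isEquivOver he).2 h.diag
  atlas := hasAtlas_of_isEquivOver he h.atlas

theorem isAlgStack_iff_of_isEquivOver (K : Precoverage Scheme.{u}) {e : 𝒳 ⥤ᵇ 𝒴}
    (he : FibCat.IsEquivOver e) : AlgSt.IsAlgStack K 𝒳 ↔ AlgSt.IsAlgStack K 𝒴 := by
  refine ⟨isAlgStack_of_isEquivOver he, ?_⟩
  obtain ⟨G, hG, -⟩ := isEquivOver_symm he
  exact isAlgStack_of_isEquivOver hG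

theorem isDM_iff_of_isEquivOver (K : Precoverage Scheme.{u}) {e : 𝒳 ⥤ᵇ 𝒴}
    (he : FibCat.IsEquivOver e) : AlgSt.IsDM K 𝒳 ↔ AlgSt.IsDM K 𝒴 := by
  obtain ⟨G, hG, -⟩ := isEquivOver_symm he
  exact ⟨fun h => ⟨isAlgStack_of_isEquivOver he h.1, hasAtlas_of_isEquivOver he h.2⟩,
    fun h => ⟨isAlgStack_of_isEquivOver hG h.1, hasAtlas_of_isEquivOver hG h.2⟩⟩

end Groth.AlgStBasic
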