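import Groth.Agent.AlgStBasic.Space
import Groth.Agent.AlgStBasic.Invariance
import Groth.Agent.AlgStBasic.Faithful
import Groth.Agent.AlgSpRep.Basic

/-!
# Categories over `(Sch/S)` representable by algebraic spaces: maps, fibre products, diagonals
-/

set_option autoImplicit false
set_option backward.isDefEq.respectTransparency false
set_option backward.isDefEq.respectTransparency.types false

universe w₁ v₁ w₂ v₂ w₃ v₃ v₅ u₅ v₄ u₄ v' u' u

open CategoryTheory CategoryTheory.Limits AlgebraicGeometry Opposite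
open Groth.StkBase

namespace Groth.StkBase

variable {C : Type u'} [Category.{v'} C]
variable {𝒜 : BasedCategory.{v₄, u₄} C} {ℬ : BasedCategory.{v₅, u₅} C}
variable {𝒳 : BasedCategory.{v₃, w₃} C}

/-- The magic square: comparison from `𝒜 ×_𝒳 ℬ` to the base change of the diagonal of `𝒳`. -/
def diagFp (x : 𝒜 ⥤ᵇ 𝒳) (y : ℬ ⥤ᵇ 𝒳) :
    FibCat.fp x y ⥤ᵇ FibCat.fp (prodMapF x y) (FibCat.diag (FibCat.toSelf 𝒳)) :=
  FibCat.fpLift
    (FibCat.fpLift (FibCat.fpFst x y) (FibCat.fpSnd x y) (selfIso _ _))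
    (BasedFunctor.comp (FibCat.fpFst x y) x)
    (fpIsoMk (Iso.refl _) (FibCat.fpIso x y).symm fun _ =>
      self_ext ((isVert_map (isVert_id _)).comp (fp_isVert _))
        ((fp_isVert _).comp (isVert_map (isVert_isoApp _ _))))

theorem isEquivOver_diagFp (x : 𝒜 ⥤ᵇ 𝒳) (y : ℬ ⥤ᵇ 𝒳) : FibCat.IsEquivOver (diagFp x y) := by
  let P := prodMapF x y
  let D := FibCat.diag (FibCat.toSelf 𝒳)
  refine ⟨FibCat.fpLift (BasedFunctor.comp (FibCat.fpFst P D) (FibCat.fpFst _ _))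
    (BasedFunctor.comp (FibCat.fpFst P D) (FibCat.fpSnd _ _))
    ((whiskerRightIso (FibCat.fpIso P D) (FibCat.fpFst _ _)).trans
      (whiskerRightIso (FibCat.fpIso P D) (FibCat.fpSnd _ _)).symm),
    ⟨fpIsoMk (Iso.refl _) (Iso.refl _) fun a => ?_⟩,
    ⟨fpIsoMk
      (fpIsoMk (isoMk (fun a => Iso.refl _) ?_ fun a => isVert_id _)
        (isoMk (fun a => Iso.refl _) ?_ fun a => isVert_id _) fun a => ?_)
      (isoMk (fun a => isoApp (whiskerRightIso (FibCat.fpIso P D) (FibCat.fpFst _ _)) a) ?_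
        fun a => isVert_isoApp _ a) fun a => ?_⟩⟩
  · simp [diagFp, P, D]; exact (Category.id_comp _).symm
  · intro a b φ; simp; rfl
  · intro a b φ; simp; rfl
  · exact self_ext ((isVert_map (isVert_id _)).comp (fp_isVert _))
      ((fp_isVert _).comp (isVert_map (isVert_id _)))
  · intro a b φ; exact isoApp_naturality _ φ
  · simp [diagFp, P, D]
    apply fp_hom_ext
    · show x.map (𝟙 _) ≫ a.obj.iso.hom.hom.fst = 𝟙 _ ≫ a.obj.iso.hom.hom.fst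
      simp
    · show y.map (𝟙 _) ≫ a.obj.iso.hom.hom.snd = _
      simp
      show _ = (a.obj.iso.hom.hom.snd ≫ a.obj.iso.inv.hom.fst) ≫ a.obj.iso.hom.hom.fst
      have h : a.obj.iso.inv.hom.fst ≫ a.obj.iso.hom.hom.fst = 𝟙 _ :=
        congrArg (fun t => t.hom.fst) a.obj.iso.inv_hom_id
      simp only [Category.assoc]
      erw [h, Category.comp_id]

theorem isFibGrpd_selfOver : FibCat.IsFibGrpd (FibCat.selfOver C).p := by
  refine isFibGrpd_mk (fun {x V} f => ⟨V, f, rfl, (Category.id_comp f).symm⟩) (fun {z y x} φ ψ g hg => ?_)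
  exact ⟨g, ⟨rfl, hg⟩, fun χ h => h.1⟩

theorem isEquivOver_toSelf_ofPsh_of_unique (T : Cᵒᵖ ⥤ Type u₄) (h : ∀ U, Nonempty (Unique (T.obj U))) :
    FibCat.IsEquivOver (FibCat.toSelf (Stk.ofPsh T)) := by
  refine isEquivOver_of_fullyFaithful _ ⟨fun {a b} g => ?_⟩ ⟨fun {a b} f g e => ?_⟩ (fun c => ?_)
  · have : Subsingleton (T.obj (op a.base)) := (h _).elim fun hu => @Unique.instSubsingleton _ hu
    exact ⟨eltHom g (Subsingleton.elim _ _), rfl⟩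
  · exact elt_hom_ext_p e
  · obtain ⟨hu⟩ := h (op c)
    exact ⟨⟨c, hu.default⟩, Iso.refl _, isVert_id _⟩

end Groth.StkBase

namespace Groth.AlgStBasic

open Groth.AlgSpRep

variable {S : Scheme.{u}}

theorem repByAlgSp1_precomp_iff {𝒳 : BasedCategory.{v₁, w₁} (Over S)}
    {𝒴 : BasedCategory.{v₂, w₂} (Over S)} {𝒵 : BasedCategory.{v₃, w₃} (Over S)}
    {a : 𝒳 ⥤ᵇ 𝒴} (ha : FibCat.IsEquivOver a) (f : 𝒴 ⥤ᵇ 𝒵) :
    AlgSt.RepByAlgSp1 (BasedFunctor.comp a f) ↔ AlgSt.RepByAlgSp1 f := by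
  rw [← repWith_top_iff, ← repWith_top_iff, repWith_precomp_equiv ha]

theorem repByAlgSp1_postcomp_iff {𝒳 : BasedCategory.{v₁, w₁} (Over S)}
    {𝒴 : BasedCategory.{v₂, w₂} (Over S)} {𝒵 : BasedCategory.{v₃, w₃} (Over S)}
    (f : 𝒳 ⥤ᵇ 𝒴) {b : 𝒴 ⥤ᵇ 𝒵} (hb : FibCat.IsEquivOver b) :
    AlgSt.RepByAlgSp1 (BasedFunctor.comp f b) ↔ AlgSt.RepByAlgSp1 f := by
  rw [← repWith_top_iff, ← repWith_top_iff, repWith_postcomp_equiv f hb]

theorem isFibGrpd_of_repByAlgSp {𝒳 : BasedCategory.{v₁, w₁} (Over S)} (h : AlgSt.RepByAlgSp 𝒳) :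
    FibCat.IsFibGrpd 𝒳.p := (isFibSetoid_of_repByAlgSp h).1

/-- A category representable by algebraic spaces over an algebraic space is an algebraic space. -/
theorem repByAlgSp_of_repByAlgSp1_to_space {𝒲 : AlgSt.Cat S} (hW : FibCat.IsFibGrpd 𝒲.p)
    {X : AlgSp.Space S} (π : 𝒲 ⥤ᵇ AlgSt.ofSp X.obj) (hπ : AlgSt.RepByAlgSp1 π) :
    AlgSt.RepByAlgSp 𝒲 := by
  have hX := isFibSetoid_ofPsh X.obj.obj
  have := faithful_of_repByAlgSp1 hW hX.1 π hπ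
  obtain ⟨P, e, he⟩ := exists_ofPsh_equiv (isFibSetoid_of_faithful hW π hX)
  obtain ⟨β⟩ := nonempty_iso_pshMapOf (BasedFunctor.comp e π)
  have h' := repByAlgSp1_of_iso β ((repByAlgSp1_precomp_iff he π).2 hπ)
  obtain ⟨hs, hA⟩ := isAlgSpaceP_of_repBySp _ (repBySp_of_repByAlgSp1 h')
    ((AlgSp.isAlgSpaceP_obj_iff X.obj).2 X.property)
  exact ⟨⟨⟨P, hs⟩, hA⟩, e, he⟩

theorem repByAlgSp_fp {𝒳 𝒴 𝒵 : AlgSt.Cat S}
    (hX : FibCat.IsFibGrpd 𝒳.p) (hY : FibCat.IsFibGrpd 𝒴.p)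
    (f : 𝒳 ⥤ᵇ 𝒴) (g : 𝒵 ⥤ᵇ 𝒴) (hf : AlgSt.RepByAlgSp1 f) (hZ : AlgSt.RepByAlgSp 𝒵) :
    AlgSt.RepByAlgSp (FibCat.fp g f) := by
  obtain ⟨X, e, he⟩ := hZ
  exact repByAlgSp_of_equiv (isEquivOver_fpPre he (isEquivOver_id _) g f)
    (repByAlgSp_of_repByAlgSp1_to_space
      (isFibGrpd_fp (isFibSetoid_ofPsh X.obj.obj).1 hX hY)
      (FibCat.fpFst (BasedFunctor.comp e g) f) (repByAlgSp1_fpFst f (BasedFunctor.comp e g) hf))

theorem repBySp_of_spaces {X Y : AlgSp.Space S} (a : X.obj.obj ⟶ Y.obj.obj) : AlgSp.RepBySp a := by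
  refine (AlgSp.repBySp_hom_iff (ObjectProperty.homMk a : X.obj ⟶ Y.obj)).2 ?_
  intro U ξ F' fst snd sq
  exact Groth.AlgSpBasic.isAlgSpace_of_isPullback sq Y.property.diag X.property
    (AlgSp.IsAlgSpace.yon_obj U)

theorem repByAlgSp1_of_repByAlgSp {𝒳 𝒴 : AlgSt.Cat S}
    (hX : AlgSt.RepByAlgSp 𝒳) (hY : AlgSt.RepByAlgSp 𝒴) (f : 𝒳 ⥤ᵇ 𝒴) : AlgSt.RepByAlgSp1 f := by
  obtain ⟨X, a, ha⟩ := hX
  obtain ⟨Y, b, hb⟩ := hY
  obtain ⟨b', hb', -⟩ := isEquivOver_symm hb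
  rw [← repByAlgSp1_precomp_iff ha, ← repByAlgSp1_postcomp_iff _ hb']
  obtain ⟨β⟩ := nonempty_iso_pshMapOf (BasedFunctor.comp (BasedFunctor.comp a f) b')
  exact repByAlgSp1_of_iso β.symm (repByAlgSp1_ofPshMap (repBySp_of_spaces _))

theorem repByAlgSp_prod_overCat (U V : Over S) :
    AlgSt.RepByAlgSp (FibCat.fp (FibCat.toSelf (FibCat.overCat U)) (FibCat.toSelf (FibCat.overCat V))) := by
  let A := (AlgSp.pyon S).obj U
  let B := (AlgSp.pyon S).obj V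
  let T : AlgSp.PSp S := ⊤_ (AlgSp.PSp S)
  have hT : ∀ W, Nonempty (Unique (T.obj W)) := fun W => by
    have : IsTerminal (T.obj W) := IsTerminal.isTerminalObj ((evaluation _ _).obj W) _ terminalIsTerminal
    exact ⟨Types.isTerminalEquivUnique _ this⟩
  have hc := isEquivOver_toSelf_ofPsh_of_unique T hT
  have := full_of_isEquivOver hc
  have := faithful_of_isEquivOver hc
  have sq : IsPullback (prod.fst : A ⨯ B ⟶ A) prod.snd (terminal.from A) (terminal.from B) :=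
    IsPullback.of_is_product' (prodIsProd A B) terminalIsTerminal
  obtain ⟨hs, hP⟩ : AlgSp.IsAlgSpaceP (A ⨯ B) :=
    (isAlgSpaceP_pyon (U ⨯ V)).of_iso (asIso (prodComparison (AlgSp.pyon S) U V))
  refine ⟨⟨⟨A ⨯ B, hs⟩, hP⟩,
    BasedFunctor.comp (BasedFunctor.comp (pshFpLift sq.w) (fpPost _ _ (FibCat.toSelf (Stk.ofPsh T))))
      (fpPre (AlgSt.toOverCat U) (AlgSt.toOverCat V) (FibCat.toSelf _) (FibCat.toSelf _)), ?_⟩
  exact isEquivOver_comp (isEquivOver_comp (isEquivOver_pshFpLift sq) (isEquivOver_fpPost _ _ _))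
    (isEquivOver_fpPre (isEquivOver_toOverCat U) (isEquivOver_toOverCat V) _ _)

theorem isFibGrpd_selfProd {𝒳 : AlgSt.Cat S} (hX : FibCat.IsFibGrpd 𝒳.p) :
    FibCat.IsFibGrpd (FibCat.fp (FibCat.toSelf 𝒳) (FibCat.toSelf 𝒳)).p :=
  isFibGrpd_fp hX hX isFibGrpd_selfOver

theorem repByAlgSp1_diag_iff {𝒳 : AlgSt.Cat S} (hX : FibCat.IsFibGrpd 𝒳.p) :
    AlgSt.RepByAlgSp1 (FibCat.diag (FibCat.toSelf 𝒳)) ↔
      ∀ (U : Over S) (x : FibCat.overCat U ⥤ᵇ 𝒳), AlgSt.RepByAlgSp1 x := by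
  constructor
  · intro h U x V y
    obtain ⟨E, hE, -⟩ := isEquivOver_symm (isEquivOver_diagFp y x)
    exact repByAlgSp_of_equiv hE (repByAlgSp_fp hX (isFibGrpd_selfProd hX) _ (prodMapF y x) h
      (repByAlgSp_prod_overCat V U))
  · intro h W z
    let z₁ := BasedFunctor.comp z (FibCat.fpFst _ _)
    let z₂ := BasedFunctor.comp z (FibCat.fpSnd _ _)
    let Δ := FibCat.diag (FibCat.toSelf (FibCat.overCat W))
    obtain ⟨E, hE, -⟩ := isEquivOver_symm (isEquivOver_diagFp z₁ z₂)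
    have hQ := repByAlgSp_of_equiv (isEquivOver_diagFp z₁ z₂) (h W z₂ W z₁)
    have hΔ : AlgSt.RepByAlgSp1 Δ :=
      repByAlgSp1_of_repByAlgSp (repByAlgSp_overCat W) (repByAlgSp_prod_overCat W W) _
    have h1 : AlgSt.RepByAlgSp (FibCat.fp
        (FibCat.fpFst (prodMapF z₁ z₂) (FibCat.diag (FibCat.toSelf 𝒳))) Δ) :=
      repByAlgSp_fp (isFibGrpd_overCat W) (isFibGrpd_selfProd (isFibGrpd_overCat W)) Δ _ hΔ hQ
    have h2 := repByAlgSp_of_equiv (isEquivOver_fpPaste Δ (prodMapF z₁ z₂) (FibCat.diag (FibCat.toSelf 𝒳)))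
      (repByAlgSp_of_equiv (isEquivOver_fpSwap _ _) h1)
    have α : BasedFunctor.comp Δ (prodMapF z₁ z₂) ≅ z :=
      fpIsoMk (Iso.refl _) (Iso.refl _) fun _ =>
        self_ext ((isVert_map (isVert_id _)).comp (fp_isVert _))
          ((fp_isVert _).comp (isVert_map (isVert_id _)))
    exact repByAlgSp_of_equiv (isEquivOver_fpCongr α (Iso.refl _)) h2

end Groth.AlgStBasic
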