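import Groth.Agent.AlgStBasic.StabilizerFree
import Groth.Agent.AlgStBasic.SetoidSpace
import Groth.Agent.AlgSpBasic.FpqcSheaf
import Groth.Agent.AlgStBasic.SpaceCalc

/-!
# Trivial stabilizers at geometric points
-/

set_option autoImplicit false
set_option backward.isDefEq.respectTransparency false
set_option backward.isDefEq.respectTransparency.types false

universe u

open CategoryTheory CategoryTheory.Limits AlgebraicGeometry Opposite
open Groth.StkBase Groth.AlgSpBasic Groth.Pi1Desc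

namespace Groth.AlgStBasic

noncomputable section

variable {S : Scheme.{u}} {𝒳 : AlgSt.Cat S}

theorem exists_vert_preimage_over {F : AlgSp.Sp S} {𝒵 : AlgSt.Cat S} {e : AlgSt.ofSp F ⥤ᵇ 𝒵}
    (he : FibCat.IsEquivOver e) (z : 𝒵.obj) {T : Over S} (hz : 𝒵.p.obj z = T) :
    ∃ (s : F.obj.obj (op T)) (i : e.obj ⟨T, s⟩ ≅ z), IsVert 𝒵.p i.hom := by
  obtain ⟨⟨K, s⟩, i, hi⟩ := exists_vert_preimage he z
  have hb : K = T := ((e.w_obj ⟨K, s⟩).symm.trans hi.obj_eq).trans hz
  subst hb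
  exact ⟨s, i, hi⟩

/-- An automorphism of an object trivial on an fpqc cover is trivial, the diagonal being representable. -/
theorem eq_id_of_cover (hX : FibCat.IsFibGrpd 𝒳.p)
    (hd : AlgSt.RepByAlgSp1 (FibCat.diag (FibCat.toSelf 𝒳))) {T T' : Over S} (p : T' ⟶ T) [IsCover p.left]
    (g : FibCat.overCat T ⥤ᵇ 𝒳) (φ : g.obj (idObj T) ⟶ g.obj (idObj T)) (hφ : IsVert 𝒳.p φ)
    (h : g.map (Over.homMk p (by simp [idObj]) : Over.mk p ⟶ idObj T) ≫ φ =
      g.map (Over.homMk p (by simp [idObj]) : Over.mk p ⟶ idObj T)) : φ = 𝟙 _ := by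
  have key : ∀ (a b : idObj T ⟶ idObj T), a.left = 𝟙 T → g.map a ≫ φ = 𝟙 _ ≫ g.map b → φ = 𝟙 _ := by
    intro a b ha w
    have hid : (idObj T).left = T := rfl
    obtain rfl : a = 𝟙 _ := Over.OverMorphism.ext ha
    rw [g.toFunctor.map_id, Category.id_comp, Category.id_comp] at w
    have h₂ : b = 𝟙 _ := by
      apply Over.OverMorphism.ext
      have h3 := congrArg (fun q => 𝒳.p.map q) w
      simp only [hφ.map_eq, map_map] at h3
      rw [← cancel_epi (eqToHom (g.w_obj (idObj T))), ← cancel_mono (eqToHom (g.w_obj (idObj T)).symm),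
        Category.assoc]
      refine h3.symm.trans ?_
      show eqToHom _ = (eqToHom _ ≫ 𝟙 T) ≫ eqToHom _
      simp
    rw [w, h₂, g.toFunctor.map_id]
  have := hφ.isIso hX
  obtain ⟨F, e, he⟩ := (repByAlgSp1_diag_iff hX).1 hd T g T g
  let o := idObj T
  let A₁ : (FibCat.fp g g).obj := fpMk (F := g) (G := g) o o (asIso φ) hφ
  let A₀ : (FibCat.fp g g).obj := fpMk (F := g) (G := g) o o (Iso.refl _) (isVert_id _)
  obtain ⟨s, i, hi⟩ := exists_vert_preimage_over he A₁ (T := T) rfl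
  obtain ⟨t, j, hj⟩ := exists_vert_preimage_over he A₀ (T := T) rfl
  let s' : (AlgSt.ofSp F.obj).obj := ⟨T', F.obj.obj.map p.op s⟩
  let t' : (AlgSt.ofSp F.obj).obj := ⟨T', F.obj.obj.map p.op t⟩
  let πs : s' ⟶ (⟨T, s⟩ : (AlgSt.ofSp F.obj).obj) := eltHom p rfl
  let πt : t' ⟶ (⟨T, t⟩ : (AlgSt.ofSp F.obj).obj) := eltHom p rfl
  let α : e.obj s' ⟶ A₁ := e.map πs ≫ i.hom
  let γ : e.obj t' ⟶ A₀ := e.map πt ≫ j.hom
  have hpα : (FibCat.fp g g).p.map α = eqToHom (e.w_obj s') ≫ p := by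
    refine ((FibCat.fp g g).p.map_comp _ _).trans ?_
    rw [map_map, hi.map_eq]
    show (eqToHom _ ≫ p ≫ eqToHom _) ≫ eqToHom _ = eqToHom _ ≫ p
    rw [Category.assoc, Category.assoc, eqToHom_trans]
    exact congrArg (_ ≫ ·) (Category.comp_id p)
  have hpγ : (FibCat.fp g g).p.map γ = eqToHom (e.w_obj t') ≫ p := by
    refine ((FibCat.fp g g).p.map_comp _ _).trans ?_
    rw [map_map, hj.map_eq]
    show (eqToHom _ ≫ p ≫ eqToHom _) ≫ eqToHom _ = eqToHom _ ≫ p
    rw [Category.assoc, Category.assoc, eqToHom_trans]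
    exact congrArg (_ ≫ ·) (Category.comp_id p)
  have hl : α.hom.fst.left = eqToHom (e.w_obj s') ≫ p := hpα
  have hfst : g.map α.hom.fst ≫ φ = g.map α.hom.fst := by
    let c : (e.obj s').obj.fst ⟶ Over.mk p := Over.homMk (eqToHom (e.w_obj s')) (by
      have w := Over.w α.hom.fst
      rw [hl] at w
      simpa [A₁, o, fpMk, idObj] using w)
    have e₁ : α.hom.fst = c ≫ (Over.homMk p (by simp [idObj]) : Over.mk p ⟶ idObj T) :=
      Over.OverMorphism.ext hl
    rw [e₁, Functor.map_comp, Category.assoc, h]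
  let β : e.obj s' ⟶ A₀ := fpHom (F := g) (G := g) α.hom.fst α.hom.snd (by
    have w := α.hom.w
    change g.map α.hom.fst ≫ φ = _ at w
    rw [hfst] at w
    exact (Category.comp_id _).trans w)
  obtain ⟨m, hm, -⟩ := exists_vert_iso_of_lifts (isFibGrpd_fp (isFibGrpd_overCat T) (isFibGrpd_overCat T) hX)
    β γ ((e.w_obj s').trans (e.w_obj t').symm) (by
      rw [hpγ]
      refine (show (FibCat.fp g g).p.map β = (FibCat.fp g g).p.map α from rfl).trans ?_
      rw [hpα]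
      simp [s', t'])
  have := full_of_isEquivOver he
  obtain ⟨k, hk⟩ := e.toFunctor.map_surjective m.hom
  have hk' : k.hom = 𝟙 T' := by
    have h1 := map_map e k
    rw [hk, hm.map_eq] at h1
    rw [← cancel_epi (eqToHom (e.w_obj s')), ← cancel_mono (eqToHom (e.w_obj t').symm), Category.assoc]
    exact h1.symm.trans (by simp [s', t'])
  have hsec : F.obj.obj.map p.op t = F.obj.obj.map p.op s :=
    (map_op_id F.obj.obj _ hk' _).symm.trans k.map_sec
  have hst : t = s := by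
    refine yEquiv.symm.injective (eq_of_isCover F.property.diag p (a := yEquiv.symm t) (b := yEquiv.symm s) ?_)
    apply yEquiv.injective
    rw [← (AlgSp.J S).uliftYonedaEquiv_naturality, ← (AlgSp.J S).uliftYonedaEquiv_naturality]
    erw [Equiv.apply_symm_apply, Equiv.apply_symm_apply]
    exact hsec
  subst hst
  let n : A₀ ≅ A₁ := j.symm ≪≫ i
  have hn : IsVert (FibCat.fp g g).p n.hom := (IsVert.inv hj).comp hi
  exact key n.hom.hom.fst n.hom.hom.snd (hn.map_eq.trans (eqToHom_refl _ _)) n.hom.hom.w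

/-- Trivial automorphisms over geometric points give trivial automorphisms over all field points. -/
theorem trivialFieldAut_of_geometric (hX : FibCat.IsFibGrpd 𝒳.p)
    (hd : AlgSt.RepByAlgSp1 (FibCat.diag (FibCat.toSelf 𝒳)))
    (h : ∀ (k : Type u) [Field k] [IsAlgClosed k] (x : 𝒳.obj) (_ : (𝒳.p.obj x).left ≅ Spec (CommRingCat.of k))
      (ξ : 𝒳.obj) (_ : ξ ⟶ x) (σ : ξ ⟶ ξ), 𝒳.p.map σ = 𝟙 (𝒳.p.obj ξ) → σ = 𝟙 ξ) :
    TrivialFieldAut (FibCat.toSelf 𝒳) := by
  intro k _ sk x T φ hv _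
  let K := AlgebraicClosure k
  let q₀ : Spec (CommRingCat.of K) ⟶ Spec (CommRingCat.of k) :=
    Spec.map (CommRingCat.ofHom (algebraMap k K))
  have : Flat q₀ := (HasRingHomProperty.Spec_iff (P := @Flat)).2
    (show (algebraMap k K).Flat from RingHom.flat_algebraMap_iff.2 inferInstance)
  have : Surjective q₀ := ⟨fun y => ⟨Classical.arbitrary (PrimeSpectrum K), Subsingleton.elim _ _⟩⟩
  let q : Over.mk (q₀ ≫ sk) ⟶ Over.mk sk := Over.homMk q₀ rfl
  let T' : Over S := Over.mk (pullback.fst T.hom.left q₀ ≫ T.left.hom)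
  let p : T' ⟶ T.left := Over.homMk (pullback.fst T.hom.left q₀) rfl
  let p₂ : T' ⟶ Over.mk (q₀ ≫ sk) := Over.homMk (pullback.snd T.hom.left q₀) (by
    show pullback.snd T.hom.left q₀ ≫ q₀ ≫ sk = pullback.fst T.hom.left q₀ ≫ T.left.hom
    rw [← pullback.condition_assoc]
    exact congrArg (_ ≫ ·) (Over.w T.hom))
  have hpq : p₂ ≫ q = p ≫ T.hom := Over.OverMorphism.ext pullback.condition.symm
  have : IsCover p.left := inferInstanceAs (IsCover (pullback.fst T.hom.left q₀))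
  let g : FibCat.overCat T.left ⥤ᵇ 𝒳 := BasedFunctor.comp (AlgSt.overMap T.hom) x
  let τ : (Over.map T.hom).obj (idObj T.left) ≅ T := Over.isoMk (Iso.refl _) (by simp [idObj])
  have hτ : IsVert 𝒳.p (x.map τ.hom) := isVert_map (F := x) ⟨rfl, rfl⟩
  have hτ' : IsVert 𝒳.p (x.map τ.inv) := isVert_map (F := x) ⟨rfl, rfl⟩
  let φ₁ : g.obj (idObj T.left) ⟶ g.obj (idObj T.left) := x.map τ.hom ≫ φ ≫ x.map τ.inv
  have hv₁ : IsVert 𝒳.p φ₁ := hτ.comp (hv.comp hτ')
  let l := g.map (Over.homMk p (by simp [idObj]) : Over.mk p ⟶ idObj T.left)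
  obtain ⟨χ, ⟨hχ₁, hχ₂⟩, -⟩ := factor_unique hX l (l ≫ φ₁) (𝟙 _) (by
    rw [Category.id_comp, Functor.map_comp, hv₁.map_eq, eqToHom_refl, Category.comp_id])
  let ψ : g.obj (Over.mk p) ⟶ x.obj (Over.mk q) := x.map (Over.homMk p₂ hpq)
  have hχ := h K (x.obj (Over.mk q)) (eqToIso (congrArg (fun Y : Over S => Y.left) (x.w_obj (Over.mk q))))
    (g.obj (Over.mk p)) ψ χ hχ₁
  rw [hχ, Category.id_comp] at hχ₂
  have := eq_id_of_cover hX hd p g φ₁ hv₁ hχ₂.symm
  have e : φ = x.map τ.inv ≫ φ₁ ≫ x.map τ.hom := by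
    simp only [φ₁, Category.assoc, ← Functor.map_comp, τ.inv_hom_id, τ.hom_inv_id]
    rw [← Category.assoc (x.map τ.inv), ← Functor.map_comp, τ.inv_hom_id]
    simp
  rw [e, this]
  erw [Category.id_comp]
  rw [← Functor.map_comp, τ.inv_hom_id]
  exact x.toFunctor.map_id _

/-- An algebraic stack is a space iff its geometric stabilizers are trivial. -/
theorem repByAlgSp_iff_geometric (hX : AlgSt.IsAlgStack Scheme.fppfPrecoverage 𝒳) :
    AlgSt.RepByAlgSp 𝒳 ↔
      ∀ (k : Type u) [Field k] [IsAlgClosed k] (x : 𝒳.obj) (_ : (𝒳.p.obj x).left ≅ Spec (CommRingCat.of k))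
        (ξ : 𝒳.obj) (_ : ξ ⟶ x) (σ : ξ ⟶ ξ), 𝒳.p.map σ = 𝟙 (𝒳.p.obj ξ) → σ = 𝟙 ξ := by
  constructor
  · intro h k _ _ x _ ξ _ σ hσ
    have := (isFibSetoid_iff_faithful_toSelf hX.isStack.1).1 (isFibSetoid_of_repByAlgSp h)
    exact (FibCat.toSelf 𝒳).toFunctor.map_injective (hσ.trans (𝒳.p.map_id ξ).symm)
  · intro h
    have hf := faithful_of_trivialFieldAut hX.isStack.1 isFibGrpd_selfOver
      (repWith_inertiaToBase _ (repWith_lft_diag_toSelf' hX.isStack.1 hX.diag hX.atlas))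
      (trivialFieldAut_of_geometric hX.isStack.1 hX.diag h)
    exact repByAlgSp_of_setoid_atlas ((isFibSetoid_iff_faithful_toSelf hX.isStack.1).2 hf) hX.isStack hX.atlas

end

end Groth.AlgStBasic
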