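import Groth.Agent.AlgStBasic.SepRep

/-!
# The relative inertia as the self product of the diagonal
-/

set_option autoImplicit false
set_option backward.isDefEq.respectTransparency false
set_option backward.isDefEq.respectTransparency.types false

universe u

open CategoryTheory CategoryTheory.Limits AlgebraicGeometry Opposite
open Groth.StkBase Groth.AlgSpBasic

noncomputable section

namespace Groth.AlgStBasic

variable {S : Scheme.{u}} {𝒳 𝒴 : AlgSt.Cat S} (f : 𝒳 ⥤ᵇ 𝒴)

/-- The automorphism carried by an object of the inertia, as a 2-automorphism. -/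
def inertiaAut : FibCat.inertiaToBase f ≅ FibCat.inertiaToBase f :=
  isoMk (fun x => x.aut) (fun φ => φ.comm.symm)
    fun x => isVert_of_map (F := f) (by rw [x.map_aut]; exact isVert_id _)

@[simp] theorem isoApp_inertiaAut (x : (FibCat.inertia f).obj) :
    (isoApp (inertiaAut f) x).hom = x.aut.hom := rfl

/-- The inertia maps to the self product of the diagonal. -/
def inertiaToFp : FibCat.inertia f ⥤ᵇ FibCat.fp (FibCat.diag f) (FibCat.diag f) :=
  FibCat.fpLift (FibCat.inertiaToBase f) (FibCat.inertiaToBase f)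
    (fpIsoMk (inertiaAut f) (Iso.refl _) fun x => by
      simp [FibCat.diag, FibCat.inertiaToBase]
      exact x.map_aut)

theorem isEquivOver_inertiaToFp : FibCat.IsEquivOver (inertiaToFp f) := by
  refine isEquivOver_of_fullyFaithful _ ⟨fun {x y} h => ?_⟩ ⟨fun {x y} g h e => ?_⟩ (fun y => ?_)
  · have w₁ := congrArg (fun t => t.hom.fst) h.hom.w
    have w₂ := congrArg (fun t => t.hom.snd) h.hom.w
    simp [inertiaToFp, FibCat.diag, FibCat.inertiaToBase] at w₁ w₂
    refine ⟨⟨h.hom.fst, ?_⟩, fp_hom_ext rfl w₂⟩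
    rw [w₁, w₂]
  · exact FibCat.InertiaObj.hom_ext (congrArg (fun t => t.hom.fst) e)
  · let φ₁ := (FibCat.fpFst f f).toFunctor.mapIso y.obj.iso
    let φ₂ := (FibCat.fpSnd f f).toFunctor.mapIso y.obj.iso
    have w : f.map φ₁.hom = f.map φ₂.hom := by
      have := y.obj.iso.hom.hom.w
      exact ((Category.comp_id _).symm.trans this).trans (Category.id_comp _)
    refine ⟨⟨y.obj.fst, φ₁ ≪≫ φ₂.symm, ?_⟩, fpObjIso (Iso.refl _) φ₂ ?_, isVert_id _⟩
    · rw [Iso.trans_hom, Functor.map_comp, w, ← Functor.map_comp, ← Iso.trans_hom, Iso.self_symm_id]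
      exact f.toFunctor.map_id _
    · apply fp_hom_ext
      · simp [inertiaToFp, FibCat.diag, FibCat.inertiaToBase, φ₁, φ₂]
        have k : y.obj.iso.inv.hom.snd ≫ y.obj.iso.hom.hom.snd = 𝟙 _ :=
          congrArg (fun t => t.hom.snd) y.obj.iso.inv_hom_id
        exact ((congrArg (y.obj.iso.hom.hom.fst ≫ ·) k).trans (Category.comp_id _)).symm
      · simp [inertiaToFp, FibCat.diag, FibCat.inertiaToBase, φ₂]

/-- A property of the diagonal passes to the inertia. -/
theorem repWith_inertiaToBase {P : MorphismProperty (AlgSp.Sp S)}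
    (h : AlgSt.RepByAlgSpWith P (FibCat.diag f)) :
    AlgSt.RepByAlgSpWith P (FibCat.inertiaToBase f) :=
  repWith_of_iso (Iso.refl _) ((repWith_precomp_equiv (isEquivOver_inertiaToFp f) _).2
    (repWith_fpFst (FibCat.diag f) (FibCat.diag f) h))

/-- The neutral section is the second diagonal. -/
theorem nonempty_inertiaNeutral_iso :
    Nonempty (BasedFunctor.comp (FibCat.inertiaNeutral f) (inertiaToFp f) ≅
      FibCat.diag (FibCat.diag f)) :=
  ⟨fpIsoMk (Iso.refl _) (Iso.refl _) fun _ => by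
    simp [inertiaToFp, FibCat.diag, FibCat.inertiaNeutral, FibCat.inertiaToBase]; rfl⟩

theorem repWith_inertiaNeutral_iff {P : MorphismProperty (AlgSp.Sp S)} :
    AlgSt.RepByAlgSpWith P (FibCat.inertiaNeutral f) ↔
      AlgSt.RepByAlgSpWith P (FibCat.diag (FibCat.diag f)) :=
  ⟨fun h => repWith_of_iso (nonempty_inertiaNeutral_iso f).some
      ((repWith_postcomp_equiv _ (isEquivOver_inertiaToFp f)).2 h),
    fun h => (repWith_postcomp_equiv _ (isEquivOver_inertiaToFp f)).1
      (repWith_of_iso (nonempty_inertiaNeutral_iso f).some.symm h)⟩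

/-- A section of a functor is a base change of its diagonal. -/
theorem repWith_of_section {𝒵 : AlgSt.Cat S} {s : 𝒳 ⥤ᵇ 𝒵} {π : 𝒵 ⥤ᵇ 𝒳}
    (e : BasedFunctor.comp s π ≅ BasedFunctor.id 𝒳) {P : MorphismProperty (AlgSp.Sp S)}
    (h : AlgSt.RepByAlgSpWith P (FibCat.diag π)) : AlgSt.RepByAlgSpWith P s :=
  repWith_of_iso (Iso.refl _) ((repWith_postcomp_equiv _
    (isEquivOver_comp (isEquivOver_fpCongr e (Iso.refl π)) (isEquivOver_fpSnd_id π))).2
      (repWith_graph s h))

/-- The neutral section is a base change of the diagonal of the inertia. -/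
theorem repWith_inertiaNeutral_of_diag {P : MorphismProperty (AlgSp.Sp S)}
    (h : AlgSt.RepByAlgSpWith P (FibCat.diag (FibCat.inertiaToBase f))) :
    AlgSt.RepByAlgSpWith P (FibCat.inertiaNeutral f) :=
  repWith_of_section (π := FibCat.inertiaToBase f) (Iso.refl _) h

variable {f}

theorem tfae_inertia_sep (hd : AlgSt.RepByAlgSp1 (FibCat.diag f)) :
    [AlgSt.RepByAlgSpWith AlgSp.IsSeparatedMor (FibCat.inertiaToBase f),
      AlgSt.RepByAlgSpWith AlgSp.IsSeparatedMor (FibCat.diag f),
      AlgSt.IsClosedImm (FibCat.inertiaNeutral f)].TFAE := by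
  tfae_have 1 → 3 := fun h => repWith_inertiaNeutral_of_diag f
    (((tfae_separated (repWith_repByAlgSp1 h)).out 0 1).1 h)
  tfae_have 3 → 2 := fun h =>
    ((tfae_separated hd).out 0 1).2 ((repWith_inertiaNeutral_iff f).1 h)
  tfae_have 2 → 1 := repWith_inertiaToBase f
  tfae_finish

theorem tfae_inertia_qs (hd : AlgSt.RepByAlgSp1 (FibCat.diag f)) :
    [AlgSt.RepByAlgSpWith AlgSp.IsQuasiSeparatedMor (FibCat.inertiaToBase f),
      AlgSt.RepByAlgSpWith AlgSp.IsQuasiSeparatedMor (FibCat.diag f),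
      AlgSt.RepByAlgSpWith AlgSp.IsQuasiCompactMor (FibCat.inertiaNeutral f)].TFAE := by
  tfae_have 1 → 3 := fun h => repWith_inertiaNeutral_of_diag f
    (((tfae_quasiSeparated (repWith_repByAlgSp1 h)).out 0 1).1 h)
  tfae_have 3 → 2 := fun h =>
    ((tfae_quasiSeparated hd).out 0 1).2 ((repWith_inertiaNeutral_iff f).1 h)
  tfae_have 2 → 1 := repWith_inertiaToBase f
  tfae_finish

end Groth.AlgStBasic
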