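import Groth.Agent.AlgStBasic.StUniv
import Groth.Agent.AlgStBasic.SpaceProps
import Groth.Agent.AlgStBasic.MonoCalc
import Groth.Agent.AlgSpBasic.Compact
import Groth.Agent.AlgStBasic.DiagCalc

/-!
# Quasi-compact algebraic stacks and quasi-compact morphisms
-/

set_option autoImplicit false
set_option backward.isDefEq.respectTransparency false
set_option backward.isDefEq.respectTransparency.types false

universe u

open CategoryTheory CategoryTheory.Limits AlgebraicGeometry Opposite Topology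
open Groth.StkBase Groth.AlgSpBasic

noncomputable section

namespace Groth.AlgStBasic

variable {S : Scheme.{u}} {𝒳 𝒴 𝒵 𝒲 : AlgSt.Cat S}

theorem repWith_overMap {P : MorphismProperty Scheme.{u}} [EtaleLocal P]
    {U V : Over S} (g : U ⟶ V) (hg : P g.left) :
    AlgSt.RepByAlgSpWith (AlgSp.LocP (S := S) P) (AlgSt.overMap g) := by
  have h : AlgSt.RepByAlgSpWith (AlgSp.LocP (S := S) P)
      (BasedFunctor.comp (AlgSt.ofOverCat U)
        (BasedFunctor.comp (AlgSt.ofSpMap ((AlgSp.yon S).map g)) (AlgSt.toOverCat V))) :=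
    (repWith_precomp_equiv (isEquivOver_ofOverCat U) _).2
      ((repWith_postcomp_equiv _ (isEquivOver_toOverCat V)).2
        (repByAlgSpWith_locP_of_repWith ((AlgSp.repWith_yon_map_iff P g).2 hg)))
  exact h

/-- A compact set of points is covered by a smooth chart from an affine scheme. -/
theorem exists_affine_chart_covering (hX : AlgSt.IsAlgStack Scheme.fppfPrecoverage 𝒳)
    {K : Set (AlgSt.Points 𝒳)} (hK : IsCompact K) :
    ∃ (V : Over S) (x : FibCat.overCat V ⥤ᵇ 𝒳), IsAffine V.left ∧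
      AlgSt.RepByAlgSpWith (AlgSp.LocP @Smooth) x ∧ K ⊆ Set.range (AlgSt.Points.ofChart x) := by
  obtain ⟨U, x, hx, hxs⟩ := hX.atlas
  let 𝒰 := U.left.affineCover
  have hcov : K ⊆ ⋃ i, AlgSt.Points.ofChart x '' ((𝒰.f i).opensRange : Set ↥U.left) := by
    intro z _
    obtain ⟨u, rfl⟩ := surjective_ofChart hX.isStack.1 hxs z
    obtain ⟨i, y, hy⟩ := 𝒰.exists_eq u
    exact Set.mem_iUnion.2 ⟨i, u, ⟨y, hy⟩, rfl⟩
  obtain ⟨t, ht⟩ := hK.elim_finite_subcover _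
    (fun i => isOpenMap_ofChart_of_smooth hX.isStack.1 hx _ (𝒰.f i).opensRange.isOpen) hcov
  let O := ⨆ i ∈ t, (𝒰.f i).opensRange
  have hO : IsCompact (O : Set ↥U.left) := by
    simp only [O, TopologicalSpace.Opens.coe_iSup]
    exact t.finite_toSet.isCompact_biUnion fun i _ => isCompact_range (𝒰.f i).continuous
  have : CompactSpace ↥O.toScheme := isCompact_iff_compactSpace.1 hO
  obtain ⟨Y, φ, hφs, hφe, hY⟩ := O.toScheme.exists_hom_isAffine_of_isZariskiLocalAtSource @Smooth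
  let j : Over.mk ((φ ≫ O.ι) ≫ U.hom) ⟶ U := Over.homMk (φ ≫ O.ι)
  refine ⟨_, BasedFunctor.comp (AlgSt.overMap j) x, hY,
    repWith_comp' (isFibGrpd_overCat _) (isFibGrpd_overCat U) stableBaseChange_locP stableComp_locP
      descendsAlongAtlas_locP (repWith_overMap (P := @Smooth) j (show Smooth (φ ≫ O.ι) from inferInstance)) hx,
    fun z hz => ?_⟩
  obtain ⟨i, hi⟩ := Set.mem_iUnion.1 (ht hz)
  obtain ⟨hit, u, hu, rfl⟩ := Set.mem_iUnion.1 hi
  have huO : u ∈ O := (le_iSup₂ (f := fun i (_ : i ∈ t) => (𝒰.f i).opensRange) i hit) hu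
  obtain ⟨v, hv⟩ := φ.surjective ⟨u, huO⟩
  refine ⟨v, ?_⟩
  rw [ofChart_overMap]
  exact congrArg (AlgSt.Points.ofChart x) (congrArg (fun z => O.ι z) hv)

theorem repWith_surjective_of_range {V : Over S} (hX : FibCat.IsFibGrpd 𝒳.p)
    {x : FibCat.overCat V ⥤ᵇ 𝒳} (hx : AlgSt.RepByAlgSp1 x)
    (h : Function.Surjective (AlgSt.Points.ofChart x)) :
    AlgSt.RepByAlgSpWith AlgSp.IsSurjectiveMor x :=
  (isSurjective_iff_repWith (isFibGrpd_overCat V) hX hx).1 fun z => by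
    obtain ⟨t, rfl⟩ := h z
    exact ⟨_, (ofChart_eq_map x t).symm⟩

theorem isQuasiCompact_of_compactSpace (hX : AlgSt.IsAlgStack Scheme.fppfPrecoverage 𝒳)
    [CompactSpace (AlgSt.Points 𝒳)] : AlgSt.IsQuasiCompact 𝒳 := by
  obtain ⟨V, x, hV, hx, hK⟩ := exists_affine_chart_covering hX isCompact_univ
  exact ⟨V, x, hV, hx, repWith_surjective_of_range hX.isStack.1 (repWith_repByAlgSp1 hx)
    fun z => hK (Set.mem_univ z)⟩

theorem isQuasiCompact_iff_compactSpace (hX : AlgSt.IsAlgStack Scheme.fppfPrecoverage 𝒳) :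
    AlgSt.IsQuasiCompact 𝒳 ↔ CompactSpace (AlgSt.Points 𝒳) := by
  refine ⟨?_, fun h => isQuasiCompact_of_compactSpace hX⟩
  rintro ⟨U, x, hU, hx, hxs⟩
  exact (surjective_ofChart hX.isStack.1 hxs).compactSpace (continuous_ofChart hX x)

theorem isQuasiCompact_of_isSurjective (hU : AlgSt.IsAlgStack Scheme.fppfPrecoverage 𝒳)
    (hX : AlgSt.IsAlgStack Scheme.fppfPrecoverage 𝒴) {f : 𝒳 ⥤ᵇ 𝒴} (hf : AlgSt.IsSurjective f)
    (h : AlgSt.IsQuasiCompact 𝒳) : AlgSt.IsQuasiCompact 𝒴 :=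
  have := (isQuasiCompact_iff_compactSpace hU).1 h
  have := Function.Surjective.compactSpace (f := AlgSt.Points.map f) (continuous_map hX f) hf
  isQuasiCompact_of_compactSpace hX

theorem isQuasiCompact_of_isEquivOver (hU : AlgSt.IsAlgStack Scheme.fppfPrecoverage 𝒳)
    (hX : AlgSt.IsAlgStack Scheme.fppfPrecoverage 𝒴) {e : 𝒳 ⥤ᵇ 𝒴} (he : FibCat.IsEquivOver e)
    (h : AlgSt.IsQuasiCompact 𝒳) : AlgSt.IsQuasiCompact 𝒴 :=
  isQuasiCompact_of_isSurjective hU hX (f := e) (bijective_map_of_isEquivOver he).2 h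

theorem isQuasiCompact_overCat {V : Over S} [CompactSpace ↥V.left] :
    AlgSt.IsQuasiCompact (FibCat.overCat V : AlgSt.Cat S) :=
  have := (bijective_ofChart_id (T := V)).2.compactSpace
    (continuous_ofChart (isAlgStack_overCat V) _)
  isQuasiCompact_of_compactSpace (isAlgStack_overCat V)

/-- A flat, locally finitely presented functor is open on points. -/
theorem isOpenMap_map_of_repWith (hX : AlgSt.IsAlgStack Scheme.fppfPrecoverage 𝒳)
    (hY : FibCat.IsFibGrpd 𝒴.p) {f : 𝒳 ⥤ᵇ 𝒴} (h₁ : AlgSt.RepByAlgSpWith (AlgSp.LocP @Flat) f)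
    (h₂ : AlgSt.RepByAlgSpWith (AlgSp.LocP @LocallyOfFinitePresentation) f) :
    IsOpenMap (AlgSt.Points.map f) :=
  isOpenMap_map_of_charts hX hY fun T y => by
    obtain ⟨F, e, he⟩ := repWith_repByAlgSp1 h₁ T y
    exact ⟨⟨F, e, he⟩, isOpenMap_map_of_locP F.property (AlgSp.IsAlgSpace.yon_obj T)
      (prop_of_repWith_fp stableBaseChange_locP h₁ y F e he)
      (prop_of_repWith_fp stableBaseChange_locP h₂ y F e he)⟩

/-- A flat, locally finitely presented morphism of algebraic stacks is open on points. -/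
theorem isOpenMap_map_of_locQ (hX : AlgSt.IsAlgStack Scheme.fppfPrecoverage 𝒳)
    (hY : AlgSt.IsAlgStack Scheme.fppfPrecoverage 𝒴) {f : 𝒳 ⥤ᵇ 𝒴} {U V : Over S}
    {x : FibCat.overCat U ⥤ᵇ 𝒳} {y : FibCat.overCat V ⥤ᵇ 𝒴} {h : U ⟶ V}
    (α : BasedFunctor.comp x f ≅ BasedFunctor.comp (AlgSt.overMap h) y)
    (hxs : AlgSt.RepByAlgSpWith AlgSp.IsSurjectiveMor x)
    (hy : AlgSt.RepByAlgSpWith (AlgSp.LocP @Smooth) y)
    (hh : IsOpenMap h.left) : IsOpenMap (AlgSt.Points.map f) := by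
  intro O hO
  have e : AlgSt.Points.map f '' O =
      AlgSt.Points.ofChart y '' (h.left '' (AlgSt.Points.ofChart x ⁻¹' O)) := by
    have k : ∀ u, AlgSt.Points.map f (AlgSt.Points.ofChart x u) = AlgSt.Points.ofChart y (h.left u) :=
      fun u => by rw [← ofChart_overMap, ← ofChart_eq_of_iso α]; rfl
    ext z
    constructor
    · rintro ⟨w, hw, rfl⟩
      obtain ⟨u, rfl⟩ := surjective_ofChart hX.isStack.1 hxs w
      exact ⟨_, ⟨u, hw, rfl⟩, (k u).symm⟩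
    · rintro ⟨_, ⟨u, hu, rfl⟩, rfl⟩
      exact ⟨_, hu, k u⟩
  rw [e]
  exact isOpenMap_ofChart_of_smooth hY.isStack.1 hy _
    (hh _ (hO.preimage (continuous_ofChart hX x)))

theorem left_prop_of_locP_yon {P : MorphismProperty Scheme.{u}} [EtaleLocal P] {U V : Over S}
    {h : U ⟶ V} (hh : AlgSp.LocP P ((AlgSp.yon S).map h)) : P h.left :=
  hh (𝟙 _) (𝟙 _) h (AlgSp.repWith_id @Etale U) (AlgSp.repWith_id @Etale V)
    (by simp)

theorem isQuasiCompactMor_fpFst (hX : AlgSt.IsAlgStack Scheme.fppfPrecoverage 𝒳)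
    (hY : AlgSt.IsAlgStack Scheme.fppfPrecoverage 𝒴) (hZ : AlgSt.IsAlgStack Scheme.fppfPrecoverage 𝒵)
    {f : 𝒳 ⥤ᵇ 𝒴} (g : 𝒵 ⥤ᵇ 𝒴) (hf : AlgSt.IsQuasiCompactMor Scheme.fppfPrecoverage f) :
    AlgSt.IsQuasiCompactMor Scheme.fppfPrecoverage (FibCat.fpFst g f) := fun 𝒯 hT hTc h =>
  isQuasiCompact_of_isEquivOver (isAlgStack_fp hY.isStack hY.diag hT hX (BasedFunctor.comp h g) f)
    (isAlgStack_fp hZ.isStack hZ.diag hT (isAlgStack_fp hY.isStack hY.diag hZ hX g f) h _)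
    (isEquivOver_fpUnpaste h g f) (hf 𝒯 hT hTc _)

theorem isQuasiCompactMor_comp (hX : AlgSt.IsAlgStack Scheme.fppfPrecoverage 𝒳)
    (hY : AlgSt.IsAlgStack Scheme.fppfPrecoverage 𝒴) (hZ : AlgSt.IsAlgStack Scheme.fppfPrecoverage 𝒵)
    {f : 𝒳 ⥤ᵇ 𝒴} {g : 𝒴 ⥤ᵇ 𝒵} (hf : AlgSt.IsQuasiCompactMor Scheme.fppfPrecoverage f)
    (hg : AlgSt.IsQuasiCompactMor Scheme.fppfPrecoverage g) :
    AlgSt.IsQuasiCompactMor Scheme.fppfPrecoverage (BasedFunctor.comp f g) := fun 𝒯 hT hTc h =>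
  have hP := isAlgStack_fp hZ.isStack hZ.diag hT hY h g
  isQuasiCompact_of_isEquivOver (isAlgStack_fp hY.isStack hY.diag hP hX _ f)
    (isAlgStack_fp hZ.isStack hZ.diag hT hX h _)
    (isEquivOver_fpCompFun h f g) (hf _ hP (hg 𝒯 hT hTc h) _)

theorem isQuasiCompactMor_of_isClosedImm (hX : AlgSt.IsAlgStack Scheme.fppfPrecoverage 𝒳)
    (hY : AlgSt.IsAlgStack Scheme.fppfPrecoverage 𝒴) {f : 𝒳 ⥤ᵇ 𝒴} (hf : AlgSt.IsClosedImm f) :
    AlgSt.IsQuasiCompactMor Scheme.fppfPrecoverage f := by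
  intro 𝒯 hT hTc g
  have hP := isAlgStack_fp hY.isStack hY.diag hT hX g f
  have := (isQuasiCompact_iff_compactSpace hT).1 hTc
  have hg : AlgSt.IsClosedImm (FibCat.fpFst g f) := repWith_fpFst f g hf
  obtain ⟨h₁, h₂⟩ := fullyFaithful_of_isMono hP.isStack.1 hT.isStack.1 _
    (repWith_mono (fun _ _ _ _ _ h => mono_of_repWith
      (fun _ _ j (_ : IsClosedImmersion j) => inferInstance) h) hg)
  have hc : IsClosedMap (AlgSt.Points.map (FibCat.fpFst g f)) :=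
    isClosedMap_map_of_charts hP hT.isStack.1 fun T y => by
      obtain ⟨F, e, he, hq⟩ := hg T y
      exact ⟨⟨F, e, he⟩, isClosedMap_of_repWith_closedImm (AlgSp.IsAlgSpace.yon_obj T) hq⟩
  have := (IsClosedEmbedding.of_continuous_injective_isClosedMap (continuous_map hT _)
    (injective_map_of_full_faithful hP.isStack.1 hT.isStack.1 _) hc).compactSpace
  exact isQuasiCompact_of_compactSpace hP

theorem isQuasiCompactMor_of_isSurjective (hX : AlgSt.IsAlgStack Scheme.fppfPrecoverage 𝒳)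
    (hY : AlgSt.IsAlgStack Scheme.fppfPrecoverage 𝒴) (hZ : AlgSt.IsAlgStack Scheme.fppfPrecoverage 𝒵)
    {f : 𝒳 ⥤ᵇ 𝒴} {p : 𝒳 ⥤ᵇ 𝒵} {q : 𝒴 ⥤ᵇ 𝒵} (e : BasedFunctor.comp f q ≅ p)
    (hf : AlgSt.IsSurjective f) (hp : AlgSt.IsQuasiCompactMor Scheme.fppfPrecoverage p) :
    AlgSt.IsQuasiCompactMor Scheme.fppfPrecoverage q := by
  intro 𝒯 hT hTc h
  have hP := isAlgStack_fp hZ.isStack hZ.diag hT hY h q
  have hA := isAlgStack_fp hZ.isStack hZ.diag hT hX h (BasedFunctor.comp f q)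
  have hB := isAlgStack_fp hY.isStack hY.diag hP hX (FibCat.fpSnd h q) f
  obtain ⟨G, hG, -⟩ := isEquivOver_symm (isEquivOver_fpCompFun h f q)
  have h₁ := isQuasiCompact_of_isEquivOver hA hB hG
    (isQuasiCompact_of_isEquivOver (isAlgStack_fp hZ.isStack hZ.diag hT hX h p) hA
      (isEquivOver_fpCongr (Iso.refl h) e.symm) (hp 𝒯 hT hTc h))
  exact isQuasiCompact_of_isSurjective hB hP
    (isSurjective_fpFst hX.isStack.1 hY.isStack.1 hP.isStack.1 (FibCat.fpSnd h q) hf) h₁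

/-- Quasi-compactness descends along surjective morphisms that stay open after base change. -/
theorem isQuasiCompactMor_of_open_cover (hX : AlgSt.IsAlgStack Scheme.fppfPrecoverage 𝒳)
    (hY : AlgSt.IsAlgStack Scheme.fppfPrecoverage 𝒴) (hW : AlgSt.IsAlgStack Scheme.fppfPrecoverage 𝒲)
    {f : 𝒳 ⥤ᵇ 𝒴} {w : 𝒲 ⥤ᵇ 𝒴} (hws : AlgSt.IsSurjective w)
    (hwo : ∀ (𝒯 : AlgSt.Cat S), AlgSt.IsAlgStack Scheme.fppfPrecoverage 𝒯 → ∀ g : 𝒯 ⥤ᵇ 𝒴,
      IsOpenMap (AlgSt.Points.map (FibCat.fpFst g w)))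
    (h : AlgSt.IsQuasiCompactMor Scheme.fppfPrecoverage (FibCat.fpFst w f)) :
    AlgSt.IsQuasiCompactMor Scheme.fppfPrecoverage f := by
  intro 𝒯 hT hTc g
  have hP := isAlgStack_fp hY.isStack hY.diag hT hW g w
  have := (isQuasiCompact_iff_compactSpace hT).1 hTc
  let π := AlgSt.Points.map (FibCat.fpFst g w)
  have hπs : Function.Surjective π :=
    isSurjective_fpFst hW.isStack.1 hY.isStack.1 hT.isStack.1 g hws
  choose O hO₁ hO₂ hO₃ _ using fun z : AlgSt.Points (FibCat.fp g w) =>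
    exists_isOpen_isCompact_nhd hP z isOpen_univ (Set.mem_univ z)
  obtain ⟨t, ht⟩ := isCompact_univ.elim_finite_subcover (fun z => π '' O z)
    (fun z => hwo 𝒯 hT g _ (hO₁ z)) fun z _ => by
      obtain ⟨a, rfl⟩ := hπs z
      exact Set.mem_iUnion.2 ⟨a, a, hO₃ a, rfl⟩
  obtain ⟨V, x, hV, -, hK⟩ := exists_affine_chart_covering hP
    (t.finite_toSet.isCompact_biUnion fun z _ => hO₂ z)
  let v : FibCat.overCat V ⥤ᵇ 𝒯 := BasedFunctor.comp x (FibCat.fpFst g w)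
  have hv : AlgSt.IsSurjective v := fun z => by
    obtain ⟨i, hi⟩ := Set.mem_iUnion.1 (ht (Set.mem_univ z))
    obtain ⟨hit, a, ha, rfl⟩ := Set.mem_iUnion.1 hi
    obtain ⟨u, rfl⟩ := hK (Set.mem_biUnion hit ha)
    exact ⟨AlgSt.Points.ofChart (BasedFunctor.id _) u, by rw [map_comp, ← ofChart_eq_map]⟩
  let V' : AlgSt.Cat S := FibCat.overCat V
  have hV' : AlgSt.IsAlgStack Scheme.fppfPrecoverage V' := isAlgStack_overCat V
  let b : V' ⥤ᵇ 𝒲 := BasedFunctor.comp x (FibCat.fpSnd g w)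
  have hA := isAlgStack_fp hY.isStack hY.diag hV' hX (BasedFunctor.comp b w) f
  have hB := isAlgStack_fp hY.isStack hY.diag hV' hX (BasedFunctor.comp v g) f
  have hQ := isAlgStack_fp hY.isStack hY.diag hT hX g f
  have hC := isAlgStack_fp hT.isStack hT.diag hV' hQ v (FibCat.fpFst g f)
  have hD := isAlgStack_fp hW.isStack hW.diag hV'
    (isAlgStack_fp hY.isStack hY.diag hW hX w f) b (FibCat.fpFst w f)
  have h₁ := isQuasiCompact_of_isEquivOver hD hA (isEquivOver_fpPaste b w f)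
    (h V' hV' isQuasiCompact_overCat b)
  have h₂ := isQuasiCompact_of_isEquivOver hA hB
    (isEquivOver_fpCongr (whiskerLeftIso x (FibCat.fpIso g w)).symm (Iso.refl f)) h₁
  have h₃ := isQuasiCompact_of_isEquivOver hB hC (isEquivOver_fpUnpaste v g f) h₂
  refine isQuasiCompact_of_isSurjective hC hQ (f := FibCat.fpSnd v (FibCat.fpFst g f)) (fun z => ?_) h₃
  obtain ⟨u, hu⟩ := hv (AlgSt.Points.map (FibCat.fpFst g f) z)
  obtain ⟨c, -, hc⟩ := exists_points_fp hQ.isStack.1 hT.isStack.1 hV'.isStack.1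
    (FibCat.fpFst g f) v u z hu
  exact ⟨c, hc⟩

theorem isUnivInjective_iff_isSurjective_diag (hX : AlgSt.IsAlgStack Scheme.fppfPrecoverage 𝒳)
    (hY : AlgSt.IsAlgStack Scheme.fppfPrecoverage 𝒴) (f : 𝒳 ⥤ᵇ 𝒴) :
    AlgSt.IsUnivInjective Scheme.fppfPrecoverage f ↔ AlgSt.IsSurjective (FibCat.diag f) := by
  refine ⟨fun h w => ⟨AlgSt.Points.map (FibCat.fpFst f f) w, h 𝒳 hX f ?_⟩, fun h 𝒵 hZ g => ?_⟩
  · rw [← map_comp]
    exact map_id _
  intro x x' e
  let a := FibCat.fpFst g f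
  let M := diagBC g f
  let D := FibCat.diag f
  have hQ := isAlgStack_fp hY.isStack hY.diag hZ hX g f
  have hR := isAlgStack_fp hZ.isStack hZ.diag hQ hQ a a
  have hF := isAlgStack_fp hY.isStack hY.diag hX hX f f
  obtain ⟨c, rfl, rfl⟩ := exists_points_fp hQ.isStack.1 hZ.isStack.1 hQ.isStack.1 a a x x' e
  obtain ⟨z, hz⟩ := h (AlgSt.Points.map M c)
  obtain ⟨w, rfl, -⟩ := exists_points_fp hX.isStack.1 hF.isStack.1 hR.isStack.1 D M c z hz.symm
  let σ := FibCat.fpIso M D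
  let P₁ := BasedFunctor.comp (FibCat.fpFst M D) (FibCat.fpFst a a)
  let P₂ := BasedFunctor.comp (FibCat.fpFst M D) (FibCat.fpSnd a a)
  let π₁ := whiskerRightIso σ (FibCat.fpFst f f)
  let π₂ := whiskerRightIso σ (FibCat.fpSnd f f)
  let ψ : P₁ ≅ P₂ := fpIsoMk (whiskerLeftIso (FibCat.fpFst M D) (FibCat.fpIso a a))
    (π₁.trans π₂.symm) fun p => by
      have k := fp_iso_eq_of_iso_diag f p.obj.iso
      simp [M, diagBC, fpPost, fpCongr, fpPre] at k
      simp [P₁, P₂, π₁, π₂, σ, D, M, diagBC, fpPost, fpCongr, fpPre]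
      erw [← k]
      simp
  exact (map_comp _ _ w).symm.trans ((congrFun (map_eq_of_iso ψ) w).trans (map_comp _ _ w))

end Groth.AlgStBasic
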