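import Groth.Agent.AlgStBasic.LocQCalc
import Groth.Agent.AlgStBasic.StCompact
import Groth.Agent.AlgSp2.FppfProps
import Groth.Agent.AlgSp2.FiniteMor

/-!
# Scheme charts for one or two morphisms of algebraic stacks; smooth-locally properties
-/

set_option autoImplicit false
set_option backward.isDefEq.respectTransparency false
set_option backward.isDefEq.respectTransparency.types false

universe u

open CategoryTheory CategoryTheory.Limits AlgebraicGeometry Opposite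
open Groth.StkBase Groth.AlgSpBasic

noncomputable section

namespace Groth.AlgStBasic

variable {S : Scheme.{u}} {𝒳 𝒴 𝒵 : AlgSt.Cat S}

theorem locP_yon_of_left {P : MorphismProperty Scheme.{u}} [EtaleLocal P] {U V : Over S}
    {h : U ⟶ V} (hh : P h.left) : AlgSp.LocP P ((AlgSp.yon S).map h) :=
  Groth.AlgSpBasic.locP_of_repWith ((AlgSp.repWith_yon_map_iff P h).2 hh)

theorem repWith_fpPre_id_left {P : MorphismProperty (AlgSp.Sp S)} {𝒲 : AlgSt.Cat S} (b : 𝒲 ⥤ᵇ 𝒴)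
    (f : 𝒳 ⥤ᵇ 𝒵) (g : 𝒴 ⥤ᵇ 𝒵) (hb : AlgSt.RepByAlgSpWith P b) :
    AlgSt.RepByAlgSpWith P (fpPre (BasedFunctor.id 𝒳) b f g) :=
  repWith_of_iso (nonempty_fpPre_swap_iso b f g).some
    ((repWith_postcomp_equiv _ (isEquivOver_fpSwap g f)).2
      ((repWith_precomp_equiv (isEquivOver_fpSwap f (BasedFunctor.comp b g)) _).2
        (repWith_fpPre_left b g f hb)))

/-- A smooth chart square by schemes on which every property local on source and target is read. -/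
theorem exists_scheme_square (hX : AlgSt.IsAlgStack Scheme.fppfPrecoverage 𝒳)
    (hY : AlgSt.IsAlgStack Scheme.fppfPrecoverage 𝒴) (f : 𝒳 ⥤ᵇ 𝒴) :
    ∃ (U V : Over S) (x : FibCat.overCat U ⥤ᵇ 𝒳) (y : FibCat.overCat V ⥤ᵇ 𝒴) (a : U ⟶ V)
      (_ : BasedFunctor.comp x f ≅ BasedFunctor.comp (AlgSt.overMap a) y),
      AlgSt.RepByAlgSpWith (AlgSp.LocP @Smooth) x ∧ AlgSt.RepByAlgSpWith AlgSp.IsSurjectiveMor x ∧
      AlgSt.RepByAlgSpWith (AlgSp.LocP @Smooth) y ∧ AlgSt.RepByAlgSpWith AlgSp.IsSurjectiveMor y ∧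
      ∀ {P : MorphismProperty (AlgSp.Sp S)}, AlgSp.IsSmoothLocalST P →
        (AlgSt.LocQ P f ↔ P ((AlgSp.yon S).map a)) := by
  obtain ⟨V, y, hy, hys⟩ := exists_space_atlas hY
  obtain ⟨U, L, hL, -, hx, hxs⟩ := exists_chart_over hX hY f hy
  obtain ⟨k, hk⟩ := (AlgSp.yon S).map_surjective (mapOf (BasedFunctor.comp L (FibCat.fpSnd f y)))
  obtain ⟨α⟩ := nonempty_lift_iso f (U := (AlgSp.ofScheme S).obj U) L
  rw [← hk] at α
  have hx' := (repWith_precomp_equiv (isEquivOver_ofOverCat U) _).2 hx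
  have hxs' := (repWith_precomp_equiv (isEquivOver_ofOverCat U) _).2 (hxs hys)
  have hy' := (repWith_precomp_equiv (isEquivOver_ofOverCat V) y).2 hy
  refine ⟨U, V, BasedFunctor.comp (AlgSt.ofOverCat U) (BasedFunctor.comp L (FibCat.fpFst f y)),
    BasedFunctor.comp (AlgSt.ofOverCat V) y, k, (whiskerLeftIso (AlgSt.ofOverCat U) α :), hx', hxs', hy',
    (repWith_precomp_equiv (isEquivOver_ofOverCat V) y).2 hys, fun {P} hP => ⟨fun hf => ?_, fun h =>
      ⟨U, V, _, _, k, (whiskerLeftIso (AlgSt.ofOverCat U) α :), hx', hxs', hy', h⟩⟩⟩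
  rw [hk]
  exact (locQ_iff_all hP hX hY).1 hf _ _ y L hy hL

/-- Scheme charts for two composable morphisms. -/
theorem exists_scheme_square_comp (hX : AlgSt.IsAlgStack Scheme.fppfPrecoverage 𝒳)
    (hY : AlgSt.IsAlgStack Scheme.fppfPrecoverage 𝒴) (hZ : AlgSt.IsAlgStack Scheme.fppfPrecoverage 𝒵)
    (f : 𝒳 ⥤ᵇ 𝒴) (g : 𝒴 ⥤ᵇ 𝒵) :
    ∃ (U W V : Over S) (a : U ⟶ W) (b : W ⟶ V),
      ∀ {P : MorphismProperty (AlgSp.Sp S)}, AlgSp.IsSmoothLocalST P →
        (AlgSt.LocQ P f ↔ P ((AlgSp.yon S).map a)) ∧ (AlgSt.LocQ P g ↔ P ((AlgSp.yon S).map b)) ∧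
        (AlgSt.LocQ P (BasedFunctor.comp f g) ↔ P ((AlgSp.yon S).map (a ≫ b))) := by
  obtain ⟨V, z, hz, hzs⟩ := exists_space_atlas hZ
  obtain ⟨W, Lg, hLg, -, hy, hys⟩ := exists_chart_over hY hZ g hz
  obtain ⟨U, L, hL, -, hx, hxs⟩ := exists_chart_over hX hY f hy
  let U' : AlgSp.Space S := (AlgSp.ofScheme S).obj U
  let V' : AlgSp.Space S := (AlgSp.ofScheme S).obj V
  let W' : AlgSp.Space S := (AlgSp.ofScheme S).obj W
  obtain ⟨a, ha⟩ := (AlgSp.yon S).map_surjective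
    (mapOf (BasedFunctor.comp L (FibCat.fpSnd f (BasedFunctor.comp Lg (FibCat.fpFst g z)))))
  obtain ⟨b, hb⟩ := (AlgSp.yon S).map_surjective (mapOf (BasedFunctor.comp Lg (FibCat.fpSnd g z)))
  have hab : (AlgSp.yon S).map (a ≫ b) =
      mapOf (BasedFunctor.comp (liftComp Lg L) (FibCat.fpSnd (BasedFunctor.comp f g) z)) := by
    rw [mapOf_liftComp_snd, Functor.map_comp, ha, hb]
  refine ⟨U, W, V, a, b, fun {P} hP => ⟨⟨fun h => ?_, fun h => ?_⟩, ⟨fun h => ?_, fun h => ?_⟩,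
    ⟨fun h => ?_, fun h => ?_⟩⟩⟩
  · rw [ha]; exact (locQ_iff_all hP hX hY).1 h _ _ _ L hy hL
  · exact (locQ_iff_locQSp hP hX hY).2 ⟨U', W', _, _, ObjectProperty.homMk (mapOf _),
      (nonempty_lift_iso f L).some, hx, hxs (hys hzs), hy, ha ▸ h⟩
  · rw [hb]; exact (locQ_iff_all hP hY hZ).1 h _ _ _ Lg hz hLg
  · exact (locQ_iff_locQSp hP hY hZ).2 ⟨W', V', _, _, ObjectProperty.homMk (mapOf _),
      (nonempty_lift_iso g Lg).some, hy, hys hzs, hz, hb ▸ h⟩
  · rw [hab]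
    refine (locQ_iff_all hP hX hZ).1 h _ _ _ (liftComp Lg L) hz ?_
    exact repWith_comp' (isFibGrpd_ofSp _)
      (isFibGrpd_fp hX.isStack.1 (isFibGrpd_ofSp _) hY.isStack.1)
      stableBaseChange_locP stableComp_locP descendsAlongAtlas_locP hL
      ((repWith_postcomp_equiv _ (isEquivOver_fpPaste f g z)).2
        (repWith_fpPre_id_left Lg f (FibCat.fpFst g z) hLg))
  · refine (locQ_iff_locQSp hP hX hZ).2 ⟨U', V', BasedFunctor.comp L (FibCat.fpFst f _), z,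
      ObjectProperty.homMk (mapOf (BasedFunctor.comp (liftComp Lg L) (FibCat.fpSnd _ _))),
      (nonempty_lift_iso (BasedFunctor.comp f g) (liftComp Lg L)).some, hx, hxs (hys hzs), hz, ?_⟩
    exact hab ▸ h

section SmoothLocally

/-- Two smooth charts have a common refinement. -/
theorem exists_common_chart {U₀ U : Over S} {x₀ : FibCat.overCat U₀ ⥤ᵇ 𝒳}
    (h₀ : AlgSt.RepByAlgSpWith (AlgSp.LocP @Smooth) x₀)
    (h₀s : AlgSt.RepByAlgSpWith AlgSp.IsSurjectiveMor x₀) {x : FibCat.overCat U ⥤ᵇ 𝒳}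
    (hx : AlgSt.RepByAlgSpWith (AlgSp.LocP @Smooth) x) :
    ∃ (W : Over S) (c : W ⟶ U) (a : W ⟶ U₀), Smooth c.left ∧ Surjective c.left ∧ Smooth a.left := by
  obtain ⟨F, e, he⟩ := repWith_repByAlgSp1 h₀ U x
  have q₁ := prop_of_repWith_fp stableBaseChange_locP h₀ x F e he
  have q₂ := prop_of_repWith_fp stableBaseChange_surjective h₀s x F e he
  let Ψ : AlgSt.ofSp F.obj ⥤ᵇ AlgSt.ofSp ((AlgSp.yon S).obj U₀) :=
    BasedFunctor.comp (BasedFunctor.comp e (FibCat.fpSnd x x₀)) (AlgSt.ofOverCat U₀)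
  have q₀ : AlgSp.LocP @Smooth (mapOf Ψ) :=
    locP_smooth_mapOf F.property (AlgSp.IsAlgSpace.yon_obj U₀)
      ((repWith_postcomp_equiv _ (isEquivOver_ofOverCat U₀)).2
        ((repWith_precomp_equiv he _).2 (repWith_fpSnd x x₀ hx)))
  obtain ⟨W, r, hr, hrs⟩ := F.property.atlas
  obtain ⟨c, hc⟩ := (AlgSp.yon S).map_surjective
    (r ≫ AlgSt.spMapOfOver (BasedFunctor.comp e (FibCat.fpFst x x₀)))
  obtain ⟨a, ha⟩ := (AlgSp.yon S).map_surjective (r ≫ mapOf Ψ)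
  refine ⟨W, c, a, q₁ r (𝟙 _) c hr (AlgSp.repWith_id @Etale U) (by rw [Category.comp_id, hc]),
    ⟨fun v => ?_⟩, q₀ r (𝟙 _) a hr (AlgSp.repWith_id @Etale U₀) (by rw [Category.comp_id, ha])⟩
  obtain ⟨z, hz⟩ := q₂ (AlgSp.Points.schemeHomeo U v)
  obtain ⟨t, rfl⟩ := surjective_ofPt_of_repWith hrs z
  refine ⟨t, (AlgSp.Points.schemeHomeo U).injective ?_⟩
  rw [← hz, ofPt_eq_map, ← AlgSp.Points.map_comp, ← hc]
  exact (AlgSp.Points.map_yon_map_apply _ _).symm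

variable {P : Scheme.{u} → Prop}
  (hP : ∀ (U : Scheme.{u}) (R : Presieve U), R ∈ Scheme.precoverage @Smooth U →
    (P U ↔ ∀ ⦃V : Scheme.{u}⦄ (g : V ⟶ U), R g → P V))

include hP

theorem prop_of_smooth {V U : Scheme.{u}} (r : V ⟶ U) (hr : Smooth r) (h : P U) : P V :=
  (hP U _ (Groth.AlgSp2.pairSch_mem (Q := @Smooth) r hr)).1 h r
    (Presieve.ofArrows.mk (f := Groth.AlgSp2.pairSchHom r) ⟨true⟩)

theorem prop_of_smooth_surjective {V U : Scheme.{u}} (r : V ⟶ U) (hr : Smooth r) (hs : Surjective r)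
    (h : P V) : P U :=
  (hP U _ ((Scheme.singleton_mem_precoverage_iff _ r).2 ⟨hs.surj, hr⟩)).2 fun _ g hg => by
    obtain ⟨⟩ := hg
    exact h

theorem smoothLocally_of_atlas {U₀ : Over S}
    {x₀ : FibCat.overCat U₀ ⥤ᵇ 𝒳} (h₀ : AlgSt.RepByAlgSpWith (AlgSp.LocP @Smooth) x₀)
    (h₀s : AlgSt.RepByAlgSpWith AlgSp.IsSurjectiveMor x₀) (h : P U₀.left) :
    AlgSt.SmoothLocally P 𝒳 := by
  intro U x hx
  obtain ⟨W, c, a, hc, hcs, ha⟩ := exists_common_chart h₀ h₀s hx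
  exact prop_of_smooth_surjective hP c.left hc hcs (prop_of_smooth hP a.left ha h)

omit hP in
/-- The scheme chart of an etale chart of an algebraic space mapping to a stack. -/
theorem repWith_chart_of_space {U : AlgSp.Space S} {x : AlgSt.ofSp U.obj ⥤ᵇ 𝒳}
    (hx : AlgSt.RepByAlgSpWith (AlgSp.LocP @Smooth) x) {V : Over S} {q : (AlgSp.yon S).obj V ⟶ U.obj}
    (hq : AlgSp.RepWith @Etale q) :
    AlgSt.RepByAlgSpWith (AlgSp.LocP @Smooth)
        (BasedFunctor.comp (AlgSt.ofOverCat V) (BasedFunctor.comp (AlgSt.ofSpMap q) x)) ∧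
      (AlgSp.RepWith @Surjective q → AlgSt.RepByAlgSpWith AlgSp.IsSurjectiveMor x →
        AlgSt.RepByAlgSpWith AlgSp.IsSurjectiveMor
          (BasedFunctor.comp (AlgSt.ofOverCat V) (BasedFunctor.comp (AlgSt.ofSpMap q) x))) :=
  ⟨(repWith_precomp_equiv (isEquivOver_ofOverCat V) _).2
      (repWith_comp' (isFibGrpd_ofSp _) (isFibGrpd_ofSp _) stableBaseChange_locP stableComp_locP
        descendsAlongAtlas_locP (repByAlgSpWith_locP_of_repWith (Groth.AlgSpBasic.repWith_mono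
          (fun _ _ φ (hφ : Etale φ) => (inferInstance : Smooth φ)) hq)) hx),
    fun hqs hxs => (repWith_precomp_equiv (isEquivOver_ofOverCat V) _).2
      (repWith_comp' (isFibGrpd_ofSp _) (isFibGrpd_ofSp _) stableBaseChange_surjective
        stableComp_surjective descendsAlongAtlas_surjective
        (repByAlgSpWith_surjective_of_repWith hqs) hxs)⟩

theorem prop_of_etaleLocally_yon {U : Over S} (h : AlgSp.EtaleLocally P ((AlgSp.yon S).obj U)) :
    P U.left := by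
  obtain ⟨V, q, hq, hqs, hV⟩ := h
  obtain ⟨r, rfl⟩ := (AlgSp.yon S).map_surjective q
  have : Etale r.left := (AlgSp.repWith_yon_map_iff @Etale r).1 hq
  exact prop_of_smooth_surjective hP r.left inferInstance
    ((AlgSp.repWith_yon_map_iff @Surjective r).1 hqs) hV

end SmoothLocally

end Groth.AlgStBasic
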