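import Groth.Agent.AlgStBasic.SpaceProps

/-!
# Permanence properties of morphisms of algebraic stacks
-/

set_option autoImplicit false
set_option backward.isDefEq.respectTransparency false
set_option backward.isDefEq.respectTransparency.types false

universe u

open CategoryTheory CategoryTheory.Limits AlgebraicGeometry Opposite
open Groth.StkBase Groth.AlgSpBasic

namespace Groth.AlgStBasic

variable {S : Scheme.{u}} {𝒳 𝒴 𝒵 𝒲 : AlgSt.Cat S} {P : MorphismProperty (AlgSp.Sp S)}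

/-- A property descends along a flat, locally finitely presented surjection. -/
theorem repWith_iff_fpFst_of_cover (hb : StableBaseChange P)
    (hP : AlgSp.IsLocalOnBase AlgSp.IsFppfCover P)
    {f : 𝒳 ⥤ᵇ 𝒴} (hf : AlgSt.RepByAlgSp1 f) {w : 𝒲 ⥤ᵇ 𝒴}
    (h₁ : AlgSt.RepByAlgSpWith (AlgSp.LocP @Flat) w)
    (h₂ : AlgSt.RepByAlgSpWith (AlgSp.LocP @LocallyOfFinitePresentation) w)
    (h₃ : AlgSt.RepByAlgSpWith AlgSp.IsSurjectiveMor w) :
    AlgSt.RepByAlgSpWith P f ↔ AlgSt.RepByAlgSpWith P (FibCat.fpFst w f) :=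
  ⟨fun h => repWith_fpFst f w h, fun h =>
    repWith_of_locally hb hP hf (exists_lift_of_fppf_surjective h₁ h₂ h₃) h⟩

/-- The base change to a space, read as a morphism of spaces. -/
theorem exists_map_of_repWith (hX : FibCat.IsFibGrpd 𝒳.p) (hY : FibCat.IsFibGrpd 𝒴.p)
    (hb : StableBaseChange P) (hP : DescendsAlongAtlas P)
    {f : 𝒳 ⥤ᵇ 𝒴} (hf : AlgSt.RepByAlgSpWith P f) (Z : AlgSp.Space S)
    (z : AlgSt.ofSp Z.obj ⥤ᵇ 𝒴) :
    ∃ (V : AlgSp.Space S) (a : V ⟶ Z) (e : AlgSt.ofSp V.obj ⥤ᵇ FibCat.fp z f),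
      FibCat.IsEquivOver e ∧
        Nonempty (BasedFunctor.comp e (FibCat.fpFst z f) ≅ AlgSt.ofSpMap a.hom) ∧ P a.hom := by
  obtain ⟨F, e, he, hp⟩ := exists_space_of_repWith hX hY hb hP hf z
  exact ⟨F, ObjectProperty.homMk
    (ObjectProperty.homMk (pshMapOf (BasedFunctor.comp e (FibCat.fpFst z f)))), e, he,
    nonempty_iso_pshMapOf _, hp⟩

theorem repWith_fpFst_of_map (hb : StableBaseChange P) {f : 𝒳 ⥤ᵇ 𝒴} {W V : AlgSp.Space S}
    {w : AlgSt.ofSp W.obj ⥤ᵇ 𝒴} (a : V ⟶ W) {e : AlgSt.ofSp V.obj ⥤ᵇ FibCat.fp w f}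
    (he : FibCat.IsEquivOver e)
    (β : BasedFunctor.comp e (FibCat.fpFst w f) ≅ AlgSt.ofSpMap a.hom) (ha : P a.hom) :
    AlgSt.RepByAlgSpWith P (FibCat.fpFst w f) :=
  (repWith_precomp_equiv he _).1 (repWith_of_iso β.symm (repWith_ofPshMap_of_stable hb a.hom ha))

theorem repWith_iff_exists_map_of_cover (hX : FibCat.IsFibGrpd 𝒳.p) (hY : FibCat.IsFibGrpd 𝒴.p)
    (hb : StableBaseChange P) (hP : AlgSp.IsLocalOnBase AlgSp.IsFppfCover P)
    {f : 𝒳 ⥤ᵇ 𝒴} (hf : AlgSt.RepByAlgSp1 f) {W : AlgSp.Space S} {w : AlgSt.ofSp W.obj ⥤ᵇ 𝒴}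
    (h₁ : AlgSt.RepByAlgSpWith (AlgSp.LocP @Flat) w)
    (h₂ : AlgSt.RepByAlgSpWith (AlgSp.LocP @LocallyOfFinitePresentation) w)
    (h₃ : AlgSt.RepByAlgSpWith AlgSp.IsSurjectiveMor w) :
    AlgSt.RepByAlgSpWith P f ↔
      ∃ (V : AlgSp.Space S) (a : V ⟶ W) (e : AlgSt.ofSp V.obj ⥤ᵇ FibCat.fp w f),
        FibCat.IsEquivOver e ∧
          Nonempty (BasedFunctor.comp e (FibCat.fpFst w f) ≅ AlgSt.ofSpMap a.hom) ∧ P a.hom := by
  refine ⟨fun h => exists_map_of_repWith hX hY hb (descendsAlongAtlas_of_isLocalOnBase hP) h W w,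
    ?_⟩
  rintro ⟨V, a, e, he, ⟨β⟩, ha⟩
  exact (repWith_iff_fpFst_of_cover hb hP hf h₁ h₂ h₃).2 (repWith_fpFst_of_map hb a he β ha)

theorem repWith_iff_forall_map (hX : FibCat.IsFibGrpd 𝒳.p) (hY : FibCat.IsFibGrpd 𝒴.p)
    (hb : StableBaseChange P) (hP : DescendsAlongAtlas P) {f : 𝒳 ⥤ᵇ 𝒴} :
    AlgSt.RepByAlgSpWith P f ↔
      ∀ (Z : AlgSp.Space S) (z : AlgSt.ofSp Z.obj ⥤ᵇ 𝒴),
        ∃ (V : AlgSp.Space S) (a : V ⟶ Z) (e : AlgSt.ofSp V.obj ⥤ᵇ FibCat.fp z f),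
          FibCat.IsEquivOver e ∧
            Nonempty (BasedFunctor.comp e (FibCat.fpFst z f) ≅ AlgSt.ofSpMap a.hom) ∧ P a.hom := by
  refine ⟨fun h => exists_map_of_repWith hX hY hb hP h, fun h U y => ?_⟩
  obtain ⟨V, a, e, he, ⟨β⟩, ha⟩ :=
    h ⟨(AlgSp.yon S).obj U, AlgSp.IsAlgSpace.yon_obj U⟩ (BasedFunctor.comp (AlgSt.toOverCat U) y)
  let T := AlgSt.toOverCat U
  refine ⟨V, BasedFunctor.comp e (fpPre T (BasedFunctor.id _) y f),
    isEquivOver_comp he (isEquivOver_fpPre (isEquivOver_toOverCat U) (isEquivOver_id _) _ _), ?_⟩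
  convert ha using 1
  apply ObjectProperty.hom_ext
  rw [spMapOfOver_hom_eq]
  refine (pshMapOf_eq_of_iso ?_).trans (pshMapOf_ofPshMap a.hom.hom)
  exact β

/-- An equivalence is representable with any property containing the isomorphisms of spaces. -/
theorem repWith_of_isEquivOver
    (hiso : ∀ ⦃X Y : AlgSp.Sp S⦄ (f : X ⟶ Y), AlgSp.IsAlgSpace X → AlgSp.IsAlgSpace Y → IsIso f → P f)
    {e : 𝒳 ⥤ᵇ 𝒴} (he : FibCat.IsEquivOver e) : AlgSt.RepByAlgSpWith P e := by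
  refine (repWith_precomp_equiv (a := e) he (BasedFunctor.id 𝒴)).2 ?_
  intro U y
  obtain ⟨E', hE', -, ⟨b⟩⟩ := isEquivOver_symm (isEquivOver_fpFst_id y)
  let T := AlgSt.toOverCat U
  refine ⟨⟨(AlgSp.yon S).obj U, AlgSp.IsAlgSpace.yon_obj U⟩, BasedFunctor.comp T E',
    isEquivOver_comp (isEquivOver_toOverCat U) hE', ?_⟩
  apply hiso _ (AlgSp.IsAlgSpace.yon_obj U) (AlgSp.IsAlgSpace.yon_obj U)
  have h : AlgSt.spMapOfOver (BasedFunctor.comp (BasedFunctor.comp T E')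
      (FibCat.fpFst y (BasedFunctor.id 𝒴))) = 𝟙 ((AlgSp.yon S).obj U) := by
    apply ObjectProperty.hom_ext
    rw [spMapOfOver_hom_eq]
    refine (pshMapOf_eq_of_iso ?_).trans (pshMapOf_ofPshMap (𝟙 _))
    exact whiskerRightIso (whiskerLeftIso T b) (AlgSt.ofOverCat U)
  rw [h]
  infer_instance

theorem isProperMor_of_isIso {X Y : AlgSp.Sp S} (f : X ⟶ Y) (hX : AlgSp.IsAlgSpace X)
    (hY : AlgSp.IsAlgSpace Y) [IsIso f] : AlgSp.IsProperMor f := by
  refine ⟨?_, ⟨Groth.AlgSpBasic.locP_of_repWith (repWith_isIso f),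
    isQuasiCompactMor_of_repWith hX hY (repWith_isIso f)⟩,
    isUnivClosedMor_of_repWith_closedImm (repWith_isIso f)⟩
  exact repWith_isIso (pullback.diagonal f)

/-- Monomorphisms of algebraic stacks are separated. -/
theorem isSeparatedMor_of_isMono (hX : FibCat.IsFibGrpd 𝒳.p) (hY : FibCat.IsFibGrpd 𝒴.p)
    {f : 𝒳 ⥤ᵇ 𝒴} (hf : AlgSt.IsMono f) : AlgSt.IsSeparatedMor f := by
  obtain ⟨h₁, h₂⟩ := fullyFaithful_of_isMono hX hY f hf
  exact repWith_of_isEquivOver (fun _ _ g hA hB _ => isProperMor_of_isIso g hA hB)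
    (isEquivOver_diag f)

/-- Composition of functors representable with a property of maps of schemes. -/
theorem repWith_repWith_comp {R : MorphismProperty Scheme.{u}} [R.IsStableUnderComposition]
    [R.IsStableUnderBaseChange]
    {f : 𝒳 ⥤ᵇ 𝒴} {g : 𝒴 ⥤ᵇ 𝒵} (hf : AlgSt.RepByAlgSpWith (AlgSp.RepWith R) f)
    (hg : AlgSt.RepByAlgSpWith (AlgSp.RepWith R) g) :
    AlgSt.RepByAlgSpWith (AlgSp.RepWith R) (BasedFunctor.comp f g) := by
  intro U z
  obtain ⟨G, e, he, hG⟩ := hg U z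
  let q : G.obj ⟶ (AlgSp.yon S).obj U :=
    AlgSt.spMapOfOver (BasedFunctor.comp e (FibCat.fpFst z g))
  obtain ⟨W, i, fst, sq⟩ := hG.rep (𝟙 ((AlgSp.yon S).obj U))
  have : IsIso fst := sq.isIso_fst_of_isIso
  have : IsIso fst.hom := (sheafToPresheaf (AlgSp.J S) (Type (u + 1))).map_isIso fst
  let ρ : FibCat.overCat W ⥤ᵇ FibCat.fp z g :=
    BasedFunctor.comp (BasedFunctor.comp (AlgSt.ofOverCat W) (Stk.ofPshMap fst.hom)) e
  have hρ : FibCat.IsEquivOver ρ :=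
    isEquivOver_comp (isEquivOver_comp (isEquivOver_ofOverCat W) (isEquivOver_ofPshMap fst.hom)) he
  let y := BasedFunctor.comp ρ (FibCat.fpSnd z g)
  obtain ⟨F, e', he', hF⟩ := hf W y
  let E := BasedFunctor.comp (fpPre ρ (BasedFunctor.id _) (FibCat.fpSnd z g) f)
    (BasedFunctor.comp (BasedFunctor.comp (fpSwap _ _) (BasedFunctor.comp
      (fpPre (BasedFunctor.id _) (fpSwap z g) f (FibCat.fpFst g z)) (fpPaste f g z)))
    (fpSwap (BasedFunctor.comp f g) z))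
  have hE : FibCat.IsEquivOver E :=
    isEquivOver_comp (isEquivOver_fpPre hρ (isEquivOver_id _) _ _)
      (isEquivOver_comp (isEquivOver_comp (isEquivOver_fpSwap _ _) (isEquivOver_comp
        (isEquivOver_fpPre (isEquivOver_id _) (isEquivOver_fpSwap z g) _ _) (isEquivOver_fpPaste f g z)))
        (isEquivOver_fpSwap _ _))
  refine ⟨F, BasedFunctor.comp e' E, isEquivOver_comp he' hE, ?_⟩
  have key : AlgSt.spMapOfOver (BasedFunctor.comp (BasedFunctor.comp e' E)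
      (FibCat.fpFst z (BasedFunctor.comp f g))) =
      AlgSt.spMapOfOver (BasedFunctor.comp e' (FibCat.fpFst y f)) ≫ fst ≫ q := by
    apply ObjectProperty.hom_ext
    rw [spMapOfOver_hom_eq]
    refine (pshMapOf_comp
      (BasedFunctor.comp (BasedFunctor.comp e' (FibCat.fpFst y f)) (AlgSt.ofOverCat W))
      (BasedFunctor.comp (Stk.ofPshMap fst.hom)
        (BasedFunctor.comp (BasedFunctor.comp e (FibCat.fpFst z g)) (AlgSt.ofOverCat U)))).trans ?_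
    rw [pshMapOf_comp, pshMapOf_ofPshMap, ← spMapOfOver_hom_eq, ← spMapOfOver_hom_eq]
    rfl
  rw [key]
  refine repWith_comp hF ?_
  rw [sq.w, Category.comp_id]
  exact (AlgSp.repWith_yon_map_iff R i).2 (hG.property _ fst i sq)

theorem repByAlgSp_selfOver : AlgSt.RepByAlgSp (FibCat.selfOver (Over S)) := by
  let A := Over.mk (𝟙 S)
  have hT : ∀ W, Nonempty (Unique (((AlgSp.pyon S).obj A).obj W)) := fun W =>
    ⟨⟨⟨⟨Over.homMk W.unop.hom (by simp [A])⟩⟩, fun x => by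
      apply ULift.ext
      apply Over.OverMorphism.ext
      have := Over.w x.down
      simpa [A] using this⟩⟩
  exact ⟨⟨(AlgSp.yon S).obj A, AlgSp.IsAlgSpace.yon_obj A⟩, FibCat.toSelf (Stk.ofPsh _),
    isEquivOver_toSelf_ofPsh_of_unique _ hT⟩

/-- A property of the diagonal over the base, from a cover by a space with that property. -/
theorem repWith_diag_toSelf_of_cover {Q : MorphismProperty Scheme.{u}} [EtaleLocal Q]
    (hQ : ∀ ⦃A B C : Scheme.{u}⦄ (a : A ⟶ B) (b : B ⟶ C), Q (a ≫ b) → Q a)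
    (hX : AlgSt.IsAlgStack Scheme.fppfPrecoverage 𝒳) (hW : AlgSt.RepByAlgSp 𝒲)
    {x : 𝒲 ⥤ᵇ 𝒳} (h₁ : AlgSt.RepByAlgSpWith (AlgSp.LocP @Flat) x)
    (h₂ : AlgSt.RepByAlgSpWith (AlgSp.LocP @LocallyOfFinitePresentation) x)
    (h₃ : AlgSt.RepByAlgSpWith AlgSp.IsSurjectiveMor x)
    (h₄ : AlgSt.RepByAlgSpWith (AlgSp.LocP Q) x) :
    AlgSt.RepByAlgSpWith (AlgSp.LocP Q) (FibCat.diag (FibCat.toSelf 𝒳)) := by
  have h𝒳 := hX.isStack.1
  have hU : FibCat.IsFibGrpd 𝒲.p := isFibGrpd_of_repByAlgSp hW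
  let t := FibCat.toSelf 𝒳
  let M := fpPre x x t t
  have hM₁ : AlgSt.RepByAlgSpWith (AlgSp.LocP @Flat) M :=
    repWith_fpPre hU h𝒳 hU isFibGrpd_selfOver stableBaseChange_locP stableComp_locP
      descendsAlongAtlas_locP x x t t h₁ h₁
  have hM₂ : AlgSt.RepByAlgSpWith (AlgSp.LocP @LocallyOfFinitePresentation) M :=
    repWith_fpPre hU h𝒳 hU isFibGrpd_selfOver stableBaseChange_locP stableComp_locP
      descendsAlongAtlas_locP x x t t h₂ h₂
  have hM₃ : AlgSt.RepByAlgSpWith AlgSp.IsSurjectiveMor M :=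
    repWith_fpPre hU h𝒳 hU isFibGrpd_selfOver stableBaseChange_surjective stableComp_surjective
      descendsAlongAtlas_surjective x x t t h₃ h₃
  refine repWith_of_locally stableBaseChange_locP (isLocalOnBase_fppf_locP _) hX.diag (g := M)
    (fun V z => exists_lift_of_fppf_surjective hM₁ hM₂ hM₃ V z) ?_
  refine (repWith_precomp_equiv (isEquivOver_diagFp' x x t) _).1 ?_
  have hS : AlgSt.RepByAlgSp (FibCat.selfOver (Over S)) := repByAlgSp_selfOver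
  let T := FibCat.fpFst (BasedFunctor.comp x t) (BasedFunctor.comp x t)
  have hT : AlgSt.RepByAlgSp1 T :=
    repByAlgSp1_fpFst _ _ (repByAlgSp1_of_repByAlgSp hW hS _)
  refine repWith_of_comp_cancel (g := T) (isFibGrpd_fp hU hU h𝒳) (isFibGrpd_fp hU hU isFibGrpd_selfOver)
    stableBaseChange_locP (cancelRight_locP hQ)
    ((repByAlgSp1_precomp_iff (isEquivOver_diagFp' x x t) _).2 (repByAlgSp1_fpFst _ _ hX.diag)) hT ?_
  exact repWith_of_iso (Iso.refl _) (repWith_fpFst x x h₄)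

end Groth.AlgStBasic
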