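import Groth.Prelude.Def_AlgSpCov
import Groth.Agent.AlgStBasic.Permanence
import Groth.Agent.AlgStBasic.StTopology
import Groth.Agent.AlgSp2.Locality

/-!
# Properties local on source and target, read on smooth charts of algebraic stacks

A morphism with the property on one smooth chart square has it on every square whose comparison
with the 2-fibre product is smooth.
-/

set_option autoImplicit false
set_option backward.isDefEq.respectTransparency false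
set_option backward.isDefEq.respectTransparency.types false

universe u

open CategoryTheory CategoryTheory.Limits AlgebraicGeometry Opposite
open Groth.StkBase Groth.AlgSpBasic

noncomputable section

namespace Groth.AlgStBasic

variable {S : Scheme.{u}} {𝒳 𝒴 𝒵 : AlgSt.Cat S} {P : MorphismProperty (AlgSp.Sp S)}

section MapOf

variable {F G H : AlgSp.Sp S}

/-- The map of sheaves of a functor between their categories. -/
def mapOf (Φ : AlgSt.ofSp F ⥤ᵇ AlgSt.ofSp G) : F ⟶ G := ObjectProperty.homMk (pshMapOf Φ)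

theorem nonempty_iso_mapOf (Φ : AlgSt.ofSp F ⥤ᵇ AlgSt.ofSp G) :
    Nonempty (Φ ≅ AlgSt.ofSpMap (mapOf Φ)) :=
  nonempty_iso_pshMapOf Φ

theorem mapOf_ofSpMap (a : F ⟶ G) : mapOf (AlgSt.ofSpMap a) = a :=
  ObjectProperty.hom_ext _ (pshMapOf_ofPshMap a.hom)

theorem mapOf_congr {Φ Ψ : AlgSt.ofSp F ⥤ᵇ AlgSt.ofSp G} (e : Φ ≅ Ψ) : mapOf Φ = mapOf Ψ :=
  ObjectProperty.hom_ext _ (pshMapOf_eq_of_iso e)

theorem mapOf_comp (Φ : AlgSt.ofSp F ⥤ᵇ AlgSt.ofSp G) (Ψ : AlgSt.ofSp G ⥤ᵇ AlgSt.ofSp H) :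
    mapOf (BasedFunctor.comp Φ Ψ) = mapOf Φ ≫ mapOf Ψ :=
  ObjectProperty.hom_ext _ (pshMapOf_comp Φ Ψ)

/-- A representable property read on a map of algebraic spaces. -/
theorem prop_of_repWith_ofSpMap (hb : StableBaseChange P) (hd : DescendsAlongAtlas P)
    (hF : AlgSp.IsAlgSpace F) (hG : AlgSp.IsAlgSpace G) {a : F ⟶ G}
    (h : AlgSt.RepByAlgSpWith P (AlgSt.ofSpMap a)) : P a := by
  have := hb.respectsIso
  have hQ := (AlgSp.repBySpWith_hom_iff _ a).1 (repBySpWith_of_repByAlgSpWith (Q := onSpaces P)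
    (repWith_mono (fun _ _ _ hX hY h => (⟨hX, hY, h⟩ : onSpaces P _)) h))
  obtain ⟨W, q, he, hs⟩ := hG.atlas
  have sq := IsPullback.of_hasPullback a q
  obtain ⟨hA, -, -, hp⟩ := hQ q _ _ sq
  exact hd a q _ _ hF hG he hs hA sq hp

theorem prop_mapOf_of_repWith (hb : StableBaseChange P) (hd : DescendsAlongAtlas P)
    (hF : AlgSp.IsAlgSpace F) (hG : AlgSp.IsAlgSpace G) {Φ : AlgSt.ofSp F ⥤ᵇ AlgSt.ofSp G}
    (h : AlgSt.RepByAlgSpWith P Φ) : P (mapOf Φ) :=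
  prop_of_repWith_ofSpMap hb hd hF hG (repWith_of_iso (nonempty_iso_mapOf Φ).some h)

theorem isFibGrpd_ofSp (F : AlgSp.Sp S) : FibCat.IsFibGrpd (AlgSt.ofSp F).p :=
  (isFibSetoid_ofPsh F.obj).1

theorem locP_smooth_mapOf (hF : AlgSp.IsAlgSpace F) (hG : AlgSp.IsAlgSpace G)
    {Φ : AlgSt.ofSp F ⥤ᵇ AlgSt.ofSp G} (h : AlgSt.RepByAlgSpWith (AlgSp.LocP @Smooth) Φ) :
    AlgSp.LocP @Smooth (mapOf Φ) :=
  prop_mapOf_of_repWith stableBaseChange_locP descendsAlongAtlas_locP hF hG h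

theorem repWith_id {P : MorphismProperty Scheme.{u}} [EtaleLocal P] (F : AlgSp.Space S) :
    AlgSt.RepByAlgSpWith (AlgSp.LocP P) (BasedFunctor.id (AlgSt.ofSp F.obj)) :=
  repWith_ofPshMap_of_stable (F := F) (G := F) stableBaseChange_locP (𝟙 F.obj)
    (Groth.AlgSp2.locP_id F.obj)

end MapOf

/-- `f` has `P` read on a square of smooth charts by algebraic spaces. -/
def LocQSp (P : MorphismProperty (AlgSp.Sp S)) (f : 𝒳 ⥤ᵇ 𝒴) : Prop :=
  ∃ (U V : AlgSp.Space S) (x : AlgSt.ofSp U.obj ⥤ᵇ 𝒳) (y : AlgSt.ofSp V.obj ⥤ᵇ 𝒴) (h : U ⟶ V)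
    (_ : BasedFunctor.comp x f ≅ BasedFunctor.comp (AlgSt.ofSpMap h.hom) y),
    AlgSt.RepByAlgSpWith (AlgSp.LocP @Smooth) x ∧ AlgSt.RepByAlgSpWith AlgSp.IsSurjectiveMor x ∧
      AlgSt.RepByAlgSpWith (AlgSp.LocP @Smooth) y ∧ P h.hom

/-- `f` has `P` on every smooth chart: for a chart `y` of the target and a smooth chart `L` of the
2-fibre product over it, the induced map has `P`. -/
def LocQAll (P : MorphismProperty (AlgSp.Sp S)) (f : 𝒳 ⥤ᵇ 𝒴) : Prop :=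
  ∀ (U V : AlgSp.Space S) (y : AlgSt.ofSp V.obj ⥤ᵇ 𝒴) (L : AlgSt.ofSp U.obj ⥤ᵇ FibCat.fp f y),
    AlgSt.RepByAlgSpWith (AlgSp.LocP @Smooth) y → AlgSt.RepByAlgSpWith (AlgSp.LocP @Smooth) L →
      P (mapOf (BasedFunctor.comp L (FibCat.fpSnd f y)))

section Core

variable {f : 𝒳 ⥤ᵇ 𝒴} {U V : AlgSp.Space S} {x : AlgSt.ofSp U.obj ⥤ᵇ 𝒳}
  {y : AlgSt.ofSp V.obj ⥤ᵇ 𝒴} {h : U ⟶ V}

/-- Two charts compared: the property passes from the first to the second, given its base changes. -/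
theorem prop_snd_of_square (hP : AlgSp.IsSmoothLocalST P) (hX : FibCat.IsFibGrpd 𝒳.p)
    (hY : FibCat.IsFibGrpd 𝒴.p) (α : BasedFunctor.comp x f ≅ BasedFunctor.comp (AlgSt.ofSpMap h.hom) y)
    (hx : AlgSt.RepByAlgSpWith (AlgSp.LocP @Smooth) x)
    (hxs : AlgSt.RepByAlgSpWith AlgSp.IsSurjectiveMor x)
    (hy : AlgSt.RepByAlgSpWith (AlgSp.LocP @Smooth) y)
    {U' V' : AlgSp.Space S} {y' : AlgSt.ofSp V'.obj ⥤ᵇ 𝒴}
    (L : AlgSt.ofSp U'.obj ⥤ᵇ FibCat.fp f y') (hL : AlgSt.RepByAlgSpWith (AlgSp.LocP @Smooth) L)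
    (hbc : ∀ (G : AlgSp.Space S) (eG : AlgSt.ofSp G.obj ⥤ᵇ FibCat.fp y y'), FibCat.IsEquivOver eG →
      ∀ ⦃Q : AlgSp.Sp S⦄ (p₁ : Q ⟶ U.obj) (p₂ : Q ⟶ G.obj), AlgSp.IsAlgSpace Q →
        IsPullback p₁ p₂ h.hom (mapOf (BasedFunctor.comp eG (FibCat.fpFst y y'))) → P p₂) :
    P (mapOf (BasedFunctor.comp L (FibCat.fpSnd f y'))) := by
  let x' := BasedFunctor.comp L (FibCat.fpFst f y')
  let Φ' := BasedFunctor.comp L (FibCat.fpSnd f y')
  -- `G = V ×_𝒴 V'`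
  obtain ⟨G, eG₀, heG₀⟩ := repByAlgSp_fp (isFibGrpd_ofSp V.obj) hY y y' (repWith_repByAlgSp1 hy)
    ⟨V', BasedFunctor.id _, isEquivOver_id _⟩
  let eG : AlgSt.ofSp G.obj ⥤ᵇ FibCat.fp y y' := BasedFunctor.comp eG₀ (fpSwap y' y)
  have heG : FibCat.IsEquivOver eG := isEquivOver_comp heG₀ (isEquivOver_fpSwap _ _)
  let g₁ : G.obj ⟶ V.obj := mapOf (BasedFunctor.comp eG (FibCat.fpFst y y'))
  have hg₂ : AlgSp.LocP @Smooth (mapOf (BasedFunctor.comp eG (FibCat.fpSnd y y'))) :=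
    locP_smooth_mapOf G.property V'.property
      ((repWith_precomp_equiv heG _).2 (repWith_fpSnd y y' hy))
  obtain ⟨β⟩ := nonempty_iso_mapOf (BasedFunctor.comp eG (FibCat.fpFst y y'))
  -- `F = U ×_𝒳 U'`
  obtain ⟨F, eF₀, heF₀⟩ := repByAlgSp_fp (isFibGrpd_ofSp U.obj) hX x x' (repWith_repByAlgSp1 hx)
    ⟨U', BasedFunctor.id _, isEquivOver_id _⟩
  let eF : AlgSt.ofSp F.obj ⥤ᵇ FibCat.fp x x' := BasedFunctor.comp eF₀ (fpSwap x' x)
  have heF : FibCat.IsEquivOver eF := isEquivOver_comp heF₀ (isEquivOver_fpSwap _ _)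
  let s₂ : F.obj ⟶ U'.obj := mapOf (BasedFunctor.comp eF (FibCat.fpSnd x x'))
  have hs₂ : AlgSp.LocP @Smooth s₂ :=
    locP_smooth_mapOf F.property U'.property
      ((repWith_precomp_equiv heF _).2 (repWith_fpSnd x x' hx))
  have hs₂' : AlgSp.IsSurjectiveMor s₂ :=
    prop_mapOf_of_repWith stableBaseChange_surjective descendsAlongAtlas_surjective F.property
      U'.property ((repWith_precomp_equiv heF _).2 (repWith_fpSnd x x' hxs))
  -- `Q = U ×_V G = U ×_𝒴 V'`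
  let Q := pullback h.hom g₁
  let p₁ : Q ⟶ U.obj := pullback.fst h.hom g₁
  let p₂ : Q ⟶ G.obj := pullback.snd h.hom g₁
  have sq : IsPullback p₁ p₂ h.hom g₁ := IsPullback.of_hasPullback h.hom g₁
  have hQ : AlgSp.IsAlgSpace Q := isAlgSpace_of_isPullback sq V.property.diag U.property G.property
  have sq' : IsPullback p₁.hom p₂.hom h.hom.hom g₁.hom :=
    (sq.map (sheafToPresheaf (AlgSp.J S) (Type (u + 1))) :)
  let N : AlgSt.ofSp Q ⥤ᵇ FibCat.fp (BasedFunctor.comp x f) y' :=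
    BasedFunctor.comp (BasedFunctor.comp (BasedFunctor.comp (BasedFunctor.comp (pshFpLift sq'.w)
      (fpCongr (Iso.refl (AlgSt.ofSpMap h.hom)) β.symm))
      (fpPre (BasedFunctor.id (AlgSt.ofSp U.obj)) eG (AlgSt.ofSpMap h.hom) (FibCat.fpFst y y')))
      (fpPaste (AlgSt.ofSpMap h.hom) y y'))
      (fpCongr α.symm (Iso.refl y'))
  have hN : FibCat.IsEquivOver N :=
    isEquivOver_comp (isEquivOver_comp (isEquivOver_comp (isEquivOver_comp
      (isEquivOver_pshFpLift sq') (isEquivOver_fpCongr _ _))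
      (isEquivOver_fpPre (isEquivOver_id _) heG _ _)) (isEquivOver_fpPaste _ _ _))
      (isEquivOver_fpCongr _ _)
  obtain ⟨N', hN', -, ⟨εN⟩⟩ := isEquivOver_symm hN
  let M : FibCat.fp x x' ⥤ᵇ FibCat.fp (BasedFunctor.comp x f) y' :=
    BasedFunctor.comp (fpPre (BasedFunctor.id (AlgSt.ofSp U.obj)) L x (FibCat.fpFst f y'))
      (fpPaste x f y')
  let K : AlgSt.ofSp F.obj ⥤ᵇ AlgSt.ofSp Q := BasedFunctor.comp (BasedFunctor.comp eF M) N'
  have hW := isFibGrpd_fp (F := f) (G := y') hX (isFibGrpd_ofSp V'.obj) hY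
  have hK : AlgSp.LocP @Smooth (mapOf K) := by
    refine locP_smooth_mapOf F.property hQ ((repWith_postcomp_equiv _ hN').2 ?_)
    exact (repWith_precomp_equiv heF _).2 ((repWith_postcomp_equiv _ (isEquivOver_fpPaste x f y')).2
      (repWith_fpPre (isFibGrpd_ofSp U.obj) (isFibGrpd_ofSp U.obj) (isFibGrpd_ofSp U'.obj) hX
        stableBaseChange_locP stableComp_locP descendsAlongAtlas_locP _ _ _ _ (repWith_id U) hL))
  have e : s₂ ≫ mapOf Φ' =
      (mapOf K ≫ p₂) ≫ mapOf (BasedFunctor.comp eG (FibCat.fpSnd y y')) := by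
    rw [Category.assoc, ← mapOf_ofSpMap p₂, ← mapOf_comp, ← mapOf_comp, ← mapOf_comp]
    refine mapOf_congr ?_
    exact (whiskerLeftIso (BasedFunctor.comp eF M) (whiskerRightIso εN (FibCat.fpSnd _ _)).symm :)
  refine (hP.locality U'.property V'.property _).2 fun t => ?_
  obtain ⟨v, hv⟩ := hs₂' t
  exact ⟨F.obj, G.obj, s₂, _, mapOf K ≫ p₂, v, F.property, G.property, hs₂, hg₂, e, hv,
    hP.precomp F.property hQ G.property _ _ hK (hbc G eG heG p₁ p₂ hQ sq)⟩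

/-- One square gives all. -/
theorem locQAll_of_locQSp (hP : AlgSp.IsSmoothLocalST P) (hX : FibCat.IsFibGrpd 𝒳.p)
    (hY : FibCat.IsFibGrpd 𝒴.p) (hf : LocQSp P f) : LocQAll P f := by
  obtain ⟨U, V, x, y, h, α, hx, hxs, hy, hh⟩ := hf
  intro U' V' y' L hy' hL
  refine prop_snd_of_square hP hX hY α hx hxs hy L hL fun G eG heG Q p₁ p₂ hQ sq => ?_
  exact hP.baseChange U.property V.property hQ G.property h.hom _ p₂ p₁ sq
    (locP_smooth_mapOf G.property V.property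
      ((repWith_precomp_equiv heG _).2 (repWith_fpFst y' y hy'))) hh

/-- For a property stable under base change, any chart of the target may be used. -/
theorem prop_snd_of_locQSp (hP : AlgSp.IsSmoothLocalST P) (hb : StableBaseChange P)
    (hX : FibCat.IsFibGrpd 𝒳.p) (hY : FibCat.IsFibGrpd 𝒴.p) (hf : LocQSp P f)
    {U' V' : AlgSp.Space S} {y' : AlgSt.ofSp V'.obj ⥤ᵇ 𝒴}
    (L : AlgSt.ofSp U'.obj ⥤ᵇ FibCat.fp f y') (hL : AlgSt.RepByAlgSpWith (AlgSp.LocP @Smooth) L) :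
    P (mapOf (BasedFunctor.comp L (FibCat.fpSnd f y'))) := by
  obtain ⟨U, V, x, y, h, α, hx, hxs, hy, hh⟩ := hf
  exact prop_snd_of_square hP hX hY α hx hxs hy L hL fun G eG _ Q p₁ p₂ hQ sq =>
    hb U.property V.property hQ G.property h.hom _ p₂ p₁ sq hh

end Core

section Atlas

/-- An atlas indexed by an algebraic space. -/
theorem exists_space_atlas (hX : AlgSt.IsAlgStack Scheme.fppfPrecoverage 𝒳) :
    ∃ (U : Over S) (x : AlgSt.ofSp ((AlgSp.ofScheme S).obj U).obj ⥤ᵇ 𝒳),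
      AlgSt.RepByAlgSpWith (AlgSp.LocP @Smooth) x ∧ AlgSt.RepByAlgSpWith AlgSp.IsSurjectiveMor x := by
  obtain ⟨U, x, hx, hxs⟩ := hX.atlas
  have he := isEquivOver_toOverCat U
  exact ⟨U, BasedFunctor.comp (AlgSt.toOverCat U) x,
    (repWith_precomp_equiv he x).2 hx, (repWith_precomp_equiv he x).2 hxs⟩

/-- Smooth charts of the source over a smooth chart of the target. -/
theorem exists_chart_over (hX : AlgSt.IsAlgStack Scheme.fppfPrecoverage 𝒳)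
    (hY : AlgSt.IsAlgStack Scheme.fppfPrecoverage 𝒴) (f : 𝒳 ⥤ᵇ 𝒴) {V : AlgSp.Space S}
    {y : AlgSt.ofSp V.obj ⥤ᵇ 𝒴} (hy : AlgSt.RepByAlgSpWith (AlgSp.LocP @Smooth) y) :
    ∃ (U : Over S) (L : AlgSt.ofSp ((AlgSp.ofScheme S).obj U).obj ⥤ᵇ FibCat.fp f y),
      AlgSt.RepByAlgSpWith (AlgSp.LocP @Smooth) L ∧ AlgSt.RepByAlgSpWith AlgSp.IsSurjectiveMor L ∧
      AlgSt.RepByAlgSpWith (AlgSp.LocP @Smooth) (BasedFunctor.comp L (FibCat.fpFst f y)) ∧
      (AlgSt.RepByAlgSpWith AlgSp.IsSurjectiveMor y →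
        AlgSt.RepByAlgSpWith AlgSp.IsSurjectiveMor (BasedFunctor.comp L (FibCat.fpFst f y))) := by
  have hW : AlgSt.IsAlgStack Scheme.fppfPrecoverage (FibCat.fp f y) :=
    isAlgStack_fp hY.isStack hY.diag hX
      (isAlgStack_of_repByAlgSp ⟨V, BasedFunctor.id _, isEquivOver_id _⟩) f y
  obtain ⟨U, L, hL, hLs⟩ := exists_space_atlas hW
  exact ⟨U, L, hL, hLs,
    repWith_comp' (isFibGrpd_ofSp _) hW.isStack.1 stableBaseChange_locP stableComp_locP
      descendsAlongAtlas_locP hL (repWith_fpFst y f hy),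
    fun hys => repWith_comp' (isFibGrpd_ofSp _) hW.isStack.1 stableBaseChange_surjective
      stableComp_surjective descendsAlongAtlas_surjective hLs (repWith_fpFst y f hys)⟩

theorem nonempty_lift_iso (f : 𝒳 ⥤ᵇ 𝒴) {U V : AlgSp.Space S} {y : AlgSt.ofSp V.obj ⥤ᵇ 𝒴}
    (L : AlgSt.ofSp U.obj ⥤ᵇ FibCat.fp f y) :
    Nonempty (BasedFunctor.comp (BasedFunctor.comp L (FibCat.fpFst f y)) f ≅
      BasedFunctor.comp (AlgSt.ofSpMap (mapOf (BasedFunctor.comp L (FibCat.fpSnd f y)))) y) :=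
  ⟨(whiskerLeftIso L (FibCat.fpIso f y)).trans
    (whiskerRightIso (nonempty_iso_mapOf (BasedFunctor.comp L (FibCat.fpSnd f y))).some y)⟩

theorem locQ_of_all (hX : AlgSt.IsAlgStack Scheme.fppfPrecoverage 𝒳)
    (hY : AlgSt.IsAlgStack Scheme.fppfPrecoverage 𝒴) {f : 𝒳 ⥤ᵇ 𝒴} (h : LocQAll P f) :
    AlgSt.LocQ P f := by
  obtain ⟨V, y, hy, hys⟩ := exists_space_atlas hY
  obtain ⟨U, L, hL, hLs, hx, hxs⟩ := exists_chart_over hX hY f hy
  obtain ⟨k, hk⟩ := (AlgSp.yon S).map_surjective (mapOf (BasedFunctor.comp L (FibCat.fpSnd f y)))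
  obtain ⟨α⟩ := nonempty_lift_iso f (U := (AlgSp.ofScheme S).obj U) L
  rw [← hk] at α
  refine ⟨U, V, BasedFunctor.comp (AlgSt.ofOverCat U) (BasedFunctor.comp L (FibCat.fpFst f y)),
    BasedFunctor.comp (AlgSt.ofOverCat V) y, k, ?_,
    (repWith_precomp_equiv (isEquivOver_ofOverCat U) _).2 hx,
    (repWith_precomp_equiv (isEquivOver_ofOverCat U) _).2 (hxs hys),
    (repWith_precomp_equiv (isEquivOver_ofOverCat V) _).2 hy, ?_⟩
  · exact (whiskerLeftIso (AlgSt.ofOverCat U) α :)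
  · rw [hk]; exact h _ _ y L hy hL

theorem locQSp_of_locQ {f : 𝒳 ⥤ᵇ 𝒴} (hf : AlgSt.LocQ P f) : LocQSp P f := by
  obtain ⟨U, V, x, y, h, α, hx, hxs, hy, hh⟩ := hf
  exact ⟨(AlgSp.ofScheme S).obj U, (AlgSp.ofScheme S).obj V,
    BasedFunctor.comp (AlgSt.toOverCat U) x, BasedFunctor.comp (AlgSt.toOverCat V) y,
    (AlgSp.ofScheme S).map h, (whiskerLeftIso (AlgSt.toOverCat U) α :),
    (repWith_precomp_equiv (isEquivOver_toOverCat U) x).2 hx,
    (repWith_precomp_equiv (isEquivOver_toOverCat U) x).2 hxs,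
    (repWith_precomp_equiv (isEquivOver_toOverCat V) y).2 hy, hh⟩

variable (hP : AlgSp.IsSmoothLocalST P) (hX : AlgSt.IsAlgStack Scheme.fppfPrecoverage 𝒳)
  (hY : AlgSt.IsAlgStack Scheme.fppfPrecoverage 𝒴) {f : 𝒳 ⥤ᵇ 𝒴}

include hP hX hY

theorem locQ_iff_all : AlgSt.LocQ P f ↔ LocQAll P f :=
  ⟨fun h => locQAll_of_locQSp hP hX.isStack.1 hY.isStack.1 (locQSp_of_locQ h), locQ_of_all hX hY⟩

theorem locQ_iff_locQSp : AlgSt.LocQ P f ↔ LocQSp P f :=
  ⟨locQSp_of_locQ, fun h => locQ_of_all hX hY (locQAll_of_locQSp hP hX.isStack.1 hY.isStack.1 h)⟩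

end Atlas

end Groth.AlgStBasic
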