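import Groth.Agent.AlgStBasic.LocQBase
import Groth.Agent.AlgStBasic.FppfBase
import Groth.Agent.AlgSp2.SmoothRows
import Groth.Agent.DescentBase.SourceLocal

/-!
# Calculus of properties of morphisms of algebraic stacks read on smooth charts
-/

set_option autoImplicit false
set_option backward.isDefEq.respectTransparency false
set_option backward.isDefEq.respectTransparency.types false

universe u

open CategoryTheory CategoryTheory.Limits AlgebraicGeometry Opposite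
open Groth.StkBase Groth.AlgSpBasic

noncomputable section

namespace Groth.AlgStBasic

variable {S : Scheme.{u}} {𝒳 𝒴 𝒵 : AlgSt.Cat S} {P : MorphismProperty (AlgSp.Sp S)}

section Instances

/-- Smooth covers are fppf covers. -/
theorem isFppfCover_of_isSmCover {ι : Type u} {Y : AlgSp.Sp S} {Yi : ι → AlgSp.Sp S}
    {g : ∀ i, Yi i ⟶ Y} (hg : AlgSp.IsSmCover Yi g) : AlgSp.IsFppfCover Yi g := by
  refine ⟨fun i => ⟨fun U V a b h ha hb c => ?_, fun U V a b h ha hb c => ?_⟩, hg.2⟩ <;>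
  · have : Smooth h.left := hg.1 i a b h ha hb c
    infer_instance

/-- A property of schemes local on the target, containing the smooth morphisms and descending along
smooth surjections on the source, gives a property of spaces smooth local on source and target. -/
theorem isSmoothLocalST_locP (P : MorphismProperty Scheme.{u}) [EtaleLocal P]
    [IsZariskiLocalAtSource P]
    (hsm : ∀ ⦃A B : Scheme.{u}⦄ (f : A ⟶ B), Smooth f → P f)
    (hdesc : ∀ ⦃A B C : Scheme.{u}⦄ (χ : A ⟶ B) (h : B ⟶ C), Smooth χ → Surjective χ →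
      P (χ ≫ h) → P h) : AlgSp.IsSmoothLocalST (AlgSp.LocP (S := S) P) := by
  have : P.IsLocalAtSource (Scheme.precoverage @Smooth) :=
    Groth.AlgSp2.isLocalAtSource_precoverage P @Smooth hsm hdesc
  refine Groth.AlgSp2.isSmoothLocalST_of (Groth.AlgSp2.isLocalOnSource_smooth_locP P) ?_ ?_
  · intro ι Y Yi g hY hYi hg
    exact isLocalOnBase_fppf_locP P Yi g hY hYi (isFppfCover_of_isSmCover hg)
  · intro X Y Z f g hf hg
    exact Groth.AlgSpBasic.locP_comp X.property Y.property Z.property hf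
      fun U V a b h ha hb c => hsm _ (hg a b h ha hb c)

theorem isSmoothLocalST_flat : AlgSp.IsSmoothLocalST (AlgSp.LocP (S := S) @Flat) :=
  isSmoothLocalST_locP _ (fun _ _ f (_ : Smooth f) => inferInstance)
    fun _ _ _ χ h (_ : Smooth χ) _ (_ : Flat (χ ≫ h)) => Groth.FlatMor2.flat_of_comp_surjective χ h

theorem isSmoothLocalST_lft : AlgSp.IsSmoothLocalST (AlgSp.LocP (S := S) @LocallyOfFiniteType) :=
  isSmoothLocalST_locP _ (fun _ _ f (_ : Smooth f) => inferInstance)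
    fun _ _ _ χ h (_ : Smooth χ) _ (_ : LocallyOfFiniteType (χ ≫ h)) =>
      SourceDescent.locallyOfFiniteType_of_comp_surjective χ h

theorem isSmoothLocalST_lfp :
    AlgSp.IsSmoothLocalST (AlgSp.LocP (S := S) @LocallyOfFinitePresentation) :=
  isSmoothLocalST_locP _ (fun _ _ f (_ : Smooth f) => inferInstance)
    fun _ _ _ χ h (_ : Smooth χ) _ (_ : LocallyOfFinitePresentation (χ ≫ h)) =>
      SourceDescent.locallyOfFinitePresentation_of_comp_surjective χ h

theorem isSmoothLocalST_smooth : AlgSp.IsSmoothLocalST (AlgSp.LocP (S := S) @Smooth) :=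
  isSmoothLocalST_locP _ (fun _ _ _ h => h)
    fun _ _ _ χ h (_ : Smooth χ) _ (_ : Smooth (χ ≫ h)) => Groth.AlgSp2.smooth_of_comp_surjective_smooth χ h

end Instances

section OfSpMap

theorem repWith_of_isEquivOver_ofSp {F : AlgSp.Space S} {𝒲 : AlgSt.Cat S}
    {e : AlgSt.ofSp F.obj ⥤ᵇ 𝒲} (he : FibCat.IsEquivOver e) {Q : MorphismProperty Scheme.{u}}
    [EtaleLocal Q] : AlgSt.RepByAlgSpWith (AlgSp.LocP Q) e :=
  (repWith_postcomp_equiv (BasedFunctor.id _) he).2 (repWith_id F)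

theorem locQ_ofSpMap_iff (hP : AlgSp.IsSmoothLocalST P) {F G : AlgSp.Space S} (a : F ⟶ G) :
    AlgSt.LocQ P (AlgSt.ofSpMap a.hom) ↔ P a.hom := by
  have hF := isAlgStack_of_repByAlgSp (𝒳 := AlgSt.ofSp F.obj) ⟨F, _, isEquivOver_id _⟩
  have hG := isAlgStack_of_repByAlgSp (𝒳 := AlgSt.ofSp G.obj) ⟨G, _, isEquivOver_id _⟩
  rw [locQ_iff_locQSp hP hF hG]
  constructor
  · intro h
    let f := AlgSt.ofSpMap a.hom
    let L : AlgSt.ofSp F.obj ⥤ᵇ FibCat.fp f (BasedFunctor.id (AlgSt.ofSp G.obj)) :=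
      FibCat.fpLift (BasedFunctor.id _) f (Iso.refl _)
    have hL : FibCat.IsEquivOver L :=
      ⟨FibCat.fpFst f _, ⟨Iso.refl _⟩, ⟨fpIsoMk (Iso.refl _) (FibCat.fpIso f (BasedFunctor.id _))
        fun x => by simp [L]⟩⟩
    have := locQAll_of_locQSp hP hF.isStack.1 hG.isStack.1 h F G (BasedFunctor.id _) L (repWith_id G)
      (repWith_of_isEquivOver_ofSp hL)
    rwa [show BasedFunctor.comp L (FibCat.fpSnd f (BasedFunctor.id _)) = f from rfl,
      mapOf_ofSpMap] at this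
  · intro h
    exact ⟨F, G, BasedFunctor.id _, BasedFunctor.id _, a, Iso.refl _, repWith_id F,
      repWith_ofPshMap_of_stable (F := F) (G := F) stableBaseChange_surjective (𝟙 F.obj)
        (Groth.AlgSp2.isSurjectiveMor_id F.obj), repWith_id G, h⟩

end OfSpMap

section Rep

variable {f : 𝒳 ⥤ᵇ 𝒴}

/-- A representable morphism with the property has it on charts. -/
theorem locQ_of_repWith (hb : StableBaseChange P) (hd : DescendsAlongAtlas P)
    (hP : AlgSp.IsSmoothLocalST P) (hX : AlgSt.IsAlgStack Scheme.fppfPrecoverage 𝒳)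
    (hY : AlgSt.IsAlgStack Scheme.fppfPrecoverage 𝒴) (hf : AlgSt.RepByAlgSpWith P f) :
    AlgSt.LocQ P f := by
  refine locQ_of_all hX hY fun U V y L _ hL => ?_
  obtain ⟨F, e₀, he₀⟩ := repByAlgSp_fp hX.isStack.1 hY.isStack.1 f y (repWith_repByAlgSp1 hf)
    ⟨V, BasedFunctor.id _, isEquivOver_id _⟩
  let e := BasedFunctor.comp e₀ (fpSwap y f)
  have he : FibCat.IsEquivOver e := isEquivOver_comp he₀ (isEquivOver_fpSwap _ _)
  have hq : P (mapOf (BasedFunctor.comp e (FibCat.fpSnd f y))) :=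
    prop_mapOf_of_repWith hb hd F.property V.property
      ((repWith_precomp_equiv he _).2 (repWith_fpSnd f y hf))
  obtain ⟨e', he', -, ⟨ε⟩⟩ := isEquivOver_symm he
  have hk := locP_smooth_mapOf U.property F.property ((repWith_postcomp_equiv L he').2 hL)
  have := hP.precomp U.property F.property V.property _ _ hk hq
  rwa [← mapOf_comp, mapOf_congr (show BasedFunctor.comp (BasedFunctor.comp L e')
    (BasedFunctor.comp e (FibCat.fpSnd f y)) ≅ BasedFunctor.comp L (FibCat.fpSnd f y) from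
      whiskerLeftIso L (whiskerRightIso ε (FibCat.fpSnd f y)))] at this

/-- A representable morphism with the property on charts has it on all base changes. -/
theorem repWith_of_locQ (hb : StableBaseChange P) (hP₂ : AlgSp.IsLocalOnBase AlgSp.IsFppfCover P)
    (hP : AlgSp.IsSmoothLocalST P) (hX : AlgSt.IsAlgStack Scheme.fppfPrecoverage 𝒳)
    (hY : AlgSt.IsAlgStack Scheme.fppfPrecoverage 𝒴) (hf : AlgSt.RepByAlgSp1 f)
    (h : AlgSt.LocQ P f) : AlgSt.RepByAlgSpWith P f := by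
  obtain ⟨V, y, hy, hys⟩ := exists_space_atlas hY
  let V' : AlgSp.Space S := (AlgSp.ofScheme S).obj V
  obtain ⟨F, e₀, he₀⟩ := repByAlgSp_fp hX.isStack.1 hY.isStack.1 f y hf
    ⟨V', BasedFunctor.id _, isEquivOver_id _⟩
  let e := BasedFunctor.comp e₀ (fpSwap y f)
  have he : FibCat.IsEquivOver e := isEquivOver_comp he₀ (isEquivOver_fpSwap _ _)
  have hq := (locQ_iff_all hP hX hY).1 h F V' y e hy (repWith_of_isEquivOver_ofSp he)
  refine (repWith_iff_exists_map_of_cover hX.isStack.1 hY.isStack.1 hb hP₂ hf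
    (W := V') (w := y)
    (repWith_locP_of_smooth (P := @Flat) (fun _ _ f (_ : Smooth f) => inferInstance) hy)
    (repWith_locP_of_smooth (P := @LocallyOfFinitePresentation)
      (fun _ _ f (_ : Smooth f) => inferInstance) hy) hys).2
    ⟨F, ObjectProperty.homMk (mapOf (BasedFunctor.comp e (FibCat.fpSnd f y))), e₀, he₀,
      nonempty_iso_mapOf (BasedFunctor.comp e₀ (FibCat.fpFst y f)), hq⟩

end Rep

section Comp

variable {f : 𝒳 ⥤ᵇ 𝒴} {g : 𝒴 ⥤ᵇ 𝒵} {U W V : AlgSp.Space S} {z : AlgSt.ofSp V.obj ⥤ᵇ 𝒵}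

/-- The chart of a composite from charts of the two morphisms. -/
def liftComp (Lg : AlgSt.ofSp W.obj ⥤ᵇ FibCat.fp g z)
    (L : AlgSt.ofSp U.obj ⥤ᵇ FibCat.fp f (BasedFunctor.comp Lg (FibCat.fpFst g z))) :
    AlgSt.ofSp U.obj ⥤ᵇ FibCat.fp (BasedFunctor.comp f g) z :=
  BasedFunctor.comp L
    (BasedFunctor.comp (fpPre (BasedFunctor.id 𝒳) Lg f (FibCat.fpFst g z)) (fpPaste f g z))

theorem fpPre_paste_snd {𝒲 𝒱 : AlgSt.Cat S} (f : 𝒳 ⥤ᵇ 𝒴) (g : 𝒴 ⥤ᵇ 𝒵) (z : 𝒱 ⥤ᵇ 𝒵)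
    (Lg : 𝒲 ⥤ᵇ FibCat.fp g z) :
    BasedFunctor.comp (BasedFunctor.comp (fpPre (BasedFunctor.id 𝒳) Lg f (FibCat.fpFst g z))
        (fpPaste f g z)) (FibCat.fpSnd (BasedFunctor.comp f g) z) =
      BasedFunctor.comp (FibCat.fpSnd f (BasedFunctor.comp Lg (FibCat.fpFst g z)))
        (BasedFunctor.comp Lg (FibCat.fpSnd g z)) := rfl

theorem mapOf_liftComp_snd (Lg : AlgSt.ofSp W.obj ⥤ᵇ FibCat.fp g z)
    (L : AlgSt.ofSp U.obj ⥤ᵇ FibCat.fp f (BasedFunctor.comp Lg (FibCat.fpFst g z))) :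
    mapOf (BasedFunctor.comp (liftComp Lg L) (FibCat.fpSnd (BasedFunctor.comp f g) z)) =
      mapOf (BasedFunctor.comp L (FibCat.fpSnd f (BasedFunctor.comp Lg (FibCat.fpFst g z)))) ≫
        mapOf (BasedFunctor.comp Lg (FibCat.fpSnd g z)) := by
  have k : ∀ {𝒜 ℬ 𝒞 𝒟 : AlgSt.Cat S} (a : 𝒜 ⥤ᵇ ℬ) (b : ℬ ⥤ᵇ 𝒞) (c : 𝒞 ⥤ᵇ 𝒟),
      BasedFunctor.comp (BasedFunctor.comp a b) c = BasedFunctor.comp a (BasedFunctor.comp b c) :=
    fun _ _ _ => rfl
  unfold liftComp
  rw [k L, fpPre_paste_snd f g z Lg, ← k L, mapOf_comp]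

theorem locQ_comp (hP : AlgSp.IsSmoothLocalST P) (hc : StableComp P)
    (hX : AlgSt.IsAlgStack Scheme.fppfPrecoverage 𝒳) (hY : AlgSt.IsAlgStack Scheme.fppfPrecoverage 𝒴)
    (hZ : AlgSt.IsAlgStack Scheme.fppfPrecoverage 𝒵)
    (hf : AlgSt.LocQ P f) (hg : AlgSt.LocQ P g) : AlgSt.LocQ P (BasedFunctor.comp f g) := by
  obtain ⟨V, z, hz, hzs⟩ := exists_space_atlas hZ
  obtain ⟨W, Lg, hLg, -, hy, hys⟩ := exists_chart_over hY hZ g hz
  obtain ⟨U, L, hL, -, hx, hxs⟩ := exists_chart_over hX hY f hy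
  have h₁ := (locQ_iff_all hP hX hY).1 hf _ _ _ L hy hL
  have h₂ := (locQ_iff_all hP hY hZ).1 hg _ _ _ Lg hz hLg
  refine (locQ_iff_locQSp hP hX hZ).2 ⟨(AlgSp.ofScheme S).obj U, (AlgSp.ofScheme S).obj V,
    BasedFunctor.comp L (FibCat.fpFst f _), z,
    ObjectProperty.homMk (mapOf (BasedFunctor.comp (liftComp Lg L) (FibCat.fpSnd _ _))),
    (nonempty_lift_iso (BasedFunctor.comp f g) (liftComp Lg L)).some, hx, hxs (hys hzs), hz, ?_⟩
  show P (mapOf _)
  rw [mapOf_liftComp_snd]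
  exact hc ((AlgSp.ofScheme S).obj U).property ((AlgSp.ofScheme S).obj W).property
    ((AlgSp.ofScheme S).obj V).property _ _ h₁ h₂

theorem locQ_fpFst (hP : AlgSp.IsSmoothLocalST P) (hb : StableBaseChange P)
    (hX : AlgSt.IsAlgStack Scheme.fppfPrecoverage 𝒳) (hY : AlgSt.IsAlgStack Scheme.fppfPrecoverage 𝒴)
    {𝒴' : AlgSt.Cat S} (hY' : AlgSt.IsAlgStack Scheme.fppfPrecoverage 𝒴') (g : 𝒴' ⥤ᵇ 𝒴)
    (hf : AlgSt.LocQ P f) : AlgSt.LocQ P (FibCat.fpFst g f) := by
  have hQ := isAlgStack_fp hY.isStack hY.diag hY' hX g f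
  refine locQ_of_all hQ hY' fun U V y L _ hL => ?_
  let E : FibCat.fp (FibCat.fpFst g f) y ⥤ᵇ FibCat.fp f (BasedFunctor.comp y g) :=
    BasedFunctor.comp (BasedFunctor.comp (fpSwap (FibCat.fpFst g f) y) (fpPaste y g f)) (fpSwap _ _)
  have hE : FibCat.IsEquivOver E :=
    isEquivOver_comp (isEquivOver_comp (isEquivOver_fpSwap _ _) (isEquivOver_fpPaste _ _ _))
      (isEquivOver_fpSwap _ _)
  exact prop_snd_of_locQSp hP hb hX.isStack.1 hY.isStack.1 (locQSp_of_locQ hf)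
    (BasedFunctor.comp L E) ((repWith_postcomp_equiv L hE).2 hL)

end Comp

end Groth.AlgStBasic
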