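import Groth.Agent.AlgStBasic.LocQApps
import Groth.Agent.GitQuot.FppfSourceScheme

/-!
# Descent of properties of morphisms of algebraic stacks along covers of the source and the target
-/

set_option autoImplicit false
set_option backward.isDefEq.respectTransparency false
set_option backward.isDefEq.respectTransparency.types false

universe u

open CategoryTheory CategoryTheory.Limits AlgebraicGeometry Opposite
open Groth.StkBase Groth.AlgSpBasic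

noncomputable section

namespace Groth.AlgStBasic

variable {S : Scheme.{u}} {𝒳 𝒴 𝒵 : AlgSt.Cat S}

theorem surjective_mapOf {U : AlgSp.Space S} {W : Over S}
    {Φ : AlgSt.ofSp U.obj ⥤ᵇ AlgSt.ofSp ((AlgSp.yon S).obj W)}
    (h : Function.Surjective (AlgSt.Points.map Φ)) : AlgSp.IsSurjectiveMor (mapOf Φ) := by
  intro z
  obtain ⟨w, hw⟩ := h (spPt z)
  obtain ⟨x, rfl⟩ := bijective_spPt.2 w
  refine ⟨x, bijective_spPt.1 ?_⟩
  rw [← map_ofPshMap_spPt, ← congrFun (map_eq_of_iso (nonempty_iso_mapOf Φ).some) (spPt x)]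
  exact hw

theorem surjective_left_of_yon {U V : Over S} {h : U ⟶ V}
    (hs : AlgSp.IsSurjectiveMor ((AlgSp.yon S).map h)) : Surjective h.left := ⟨fun v => by
  obtain ⟨z, hz⟩ := hs (AlgSp.Points.schemeHomeo V v)
  obtain ⟨u, rfl⟩ := (AlgSp.Points.schemeHomeo U).surjective z
  exact ⟨u, (AlgSp.Points.schemeHomeo V).injective ((AlgSp.Points.map_yon_map_apply h u).symm.trans hz)⟩⟩

/-- Scheme charts for composable morphisms, surjective over a surjective first morphism. -/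
theorem exists_scheme_square_comp_surj (hX : AlgSt.IsAlgStack Scheme.fppfPrecoverage 𝒳)
    (hY : AlgSt.IsAlgStack Scheme.fppfPrecoverage 𝒴) (hZ : AlgSt.IsAlgStack Scheme.fppfPrecoverage 𝒵)
    (f : 𝒳 ⥤ᵇ 𝒴) (g : 𝒴 ⥤ᵇ 𝒵) (hfs : AlgSt.IsSurjective f) :
    ∃ (U W V : Over S) (a : U ⟶ W) (b : W ⟶ V), Surjective a.left ∧
      ∀ {P : MorphismProperty (AlgSp.Sp S)}, AlgSp.IsSmoothLocalST P →
        (AlgSt.LocQ P f → P ((AlgSp.yon S).map a)) ∧
        (P ((AlgSp.yon S).map b) → AlgSt.LocQ P g) ∧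
        (AlgSt.LocQ P (BasedFunctor.comp f g) → P ((AlgSp.yon S).map (a ≫ b))) := by
  obtain ⟨V, z, hz, hzs⟩ := exists_space_atlas hZ
  obtain ⟨W, Lg, hLg, -, hy, hys⟩ := exists_chart_over hY hZ g hz
  obtain ⟨U, L, hL, hLs, hx, hxs⟩ := exists_chart_over hX hY f hy
  let U' : AlgSp.Space S := (AlgSp.ofScheme S).obj U
  let V' : AlgSp.Space S := (AlgSp.ofScheme S).obj V
  let W' : AlgSp.Space S := (AlgSp.ofScheme S).obj W
  let y := BasedFunctor.comp Lg (FibCat.fpFst g z)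
  obtain ⟨a, ha⟩ := (AlgSp.yon S).map_surjective (mapOf (BasedFunctor.comp L (FibCat.fpSnd f y)))
  obtain ⟨b, hb⟩ := (AlgSp.yon S).map_surjective (mapOf (BasedFunctor.comp Lg (FibCat.fpSnd g z)))
  have hW := isFibGrpd_fp (F := f) (G := y) hX.isStack.1 (isFibGrpd_ofSp _) hY.isStack.1
  have has : Function.Surjective
      (AlgSt.Points.map (BasedFunctor.comp L (FibCat.fpSnd f y))) := by
    intro v
    obtain ⟨x, hx⟩ := hfs (AlgSt.Points.map y v)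
    obtain ⟨w, -, hw⟩ := exists_points_fp (isFibGrpd_ofSp _) hY.isStack.1 hX.isStack.1 y f x v hx
    obtain ⟨u, rfl⟩ :=
      (isSurjective_iff_repWith (isFibGrpd_ofSp _) hW (repWith_repByAlgSp1 hLs)).2 hLs w
    exact ⟨u, (map_comp _ _ u).trans hw⟩
  refine ⟨U, W, V, a, b, surjective_left_of_yon (ha ▸ surjective_mapOf (U := U') has),
    fun {P} hP => ⟨fun h => ?_, fun h => ?_, fun h => ?_⟩⟩
  · rw [ha]; exact (locQ_iff_all hP hX hY).1 h _ _ _ L hy hL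
  · exact (locQ_iff_locQSp hP hY hZ).2 ⟨W', V', _, _, ObjectProperty.homMk (mapOf _),
      (nonempty_lift_iso g Lg).some, hy, hys hzs, hz, hb ▸ h⟩
  · rw [Functor.map_comp, ha, hb, ← mapOf_liftComp_snd]
    exact (locQ_iff_all hP hX hZ).1 h _ _ _ (liftComp Lg L) hz
      (repWith_comp' (isFibGrpd_ofSp _) hW stableBaseChange_locP stableComp_locP
        descendsAlongAtlas_locP hL ((repWith_postcomp_equiv _ (isEquivOver_fpPaste f g z)).2
          (repWith_fpPre_id_left Lg f (FibCat.fpFst g z) hLg)))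

section Target

variable {f : 𝒳 ⥤ᵇ 𝒴} {U V T : AlgSp.Space S} {y : AlgSt.ofSp V.obj ⥤ᵇ 𝒴}

/-- The reassociation used to move a chart to a base change. -/
def fpBaseChange {𝒯 𝒱 : AlgSt.Cat S} (z : 𝒵 ⥤ᵇ 𝒴) (f : 𝒳 ⥤ᵇ 𝒴) (y : 𝒱 ⥤ᵇ 𝒴) (C : 𝒯 ⥤ᵇ 𝒱)
    (y'' : 𝒯 ⥤ᵇ 𝒵) (ε : BasedFunctor.comp C y ≅ BasedFunctor.comp y'' z) :
    FibCat.fp (FibCat.fpSnd f y) C ⥤ᵇ FibCat.fp (FibCat.fpFst z f) y'' :=
  BasedFunctor.comp (BasedFunctor.comp (BasedFunctor.comp (BasedFunctor.comp (BasedFunctor.comp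
    (fpPre (fpSwap f y) (BasedFunctor.id 𝒯) (FibCat.fpFst y f) C) (fpSwap (FibCat.fpFst y f) C))
    (fpPaste C y f)) (fpCongr ε (Iso.refl f))) (fpUnpaste y'' z f)) (fpSwap y'' (FibCat.fpFst z f))

theorem isEquivOver_fpBaseChange {𝒯 𝒱 : AlgSt.Cat S} (z : 𝒵 ⥤ᵇ 𝒴) (f : 𝒳 ⥤ᵇ 𝒴) (y : 𝒱 ⥤ᵇ 𝒴)
    (C : 𝒯 ⥤ᵇ 𝒱) (y'' : 𝒯 ⥤ᵇ 𝒵) (ε : BasedFunctor.comp C y ≅ BasedFunctor.comp y'' z) :
    FibCat.IsEquivOver (fpBaseChange z f y C y'' ε) :=
  isEquivOver_comp (isEquivOver_comp (isEquivOver_comp (isEquivOver_comp (isEquivOver_comp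
    (isEquivOver_fpPre (isEquivOver_fpSwap f y) (isEquivOver_id _) _ _) (isEquivOver_fpSwap _ _))
    (isEquivOver_fpPaste _ _ _)) (isEquivOver_fpCongr _ _)) (isEquivOver_fpUnpaste _ _ _))
    (isEquivOver_fpSwap _ _)

theorem fpBaseChange_snd {𝒯 𝒱 : AlgSt.Cat S} (z : 𝒵 ⥤ᵇ 𝒴) (f : 𝒳 ⥤ᵇ 𝒴) (y : 𝒱 ⥤ᵇ 𝒴)
    (C : 𝒯 ⥤ᵇ 𝒱) (y'' : 𝒯 ⥤ᵇ 𝒵) (ε : BasedFunctor.comp C y ≅ BasedFunctor.comp y'' z) :
    BasedFunctor.comp (fpBaseChange z f y C y'' ε) (FibCat.fpSnd (FibCat.fpFst z f) y'') =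
      FibCat.fpSnd (FibCat.fpSnd f y) C := rfl

/-- A property on charts descends along a surjection whose smooth charts it descends along. -/
theorem locQ_of_fpFst {P : MorphismProperty (AlgSp.Sp S)} (hP : AlgSp.IsSmoothLocalST P)
    (hX : AlgSt.IsAlgStack Scheme.fppfPrecoverage 𝒳) (hY : AlgSt.IsAlgStack Scheme.fppfPrecoverage 𝒴)
    (hZ : AlgSt.IsAlgStack Scheme.fppfPrecoverage 𝒵) (z : 𝒵 ⥤ᵇ 𝒴) (hzs : AlgSt.IsSurjective z)
    (hdesc : ∀ (U V T : Over S) (a : U ⟶ V) (c : T ⟶ V),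
      (∀ {R : MorphismProperty (AlgSp.Sp S)}, AlgSp.IsSmoothLocalST R → AlgSt.LocQ R z →
        R ((AlgSp.yon S).map c)) → AlgSp.IsSurjectiveMor ((AlgSp.yon S).map c) →
      ∀ (Q : AlgSp.Sp S) (p₁ : Q ⟶ (AlgSp.yon S).obj U) (p₂ : Q ⟶ (AlgSp.yon S).obj T),
        AlgSp.IsAlgSpace Q → IsPullback p₁ p₂ ((AlgSp.yon S).map a) ((AlgSp.yon S).map c) →
        P p₂ → P ((AlgSp.yon S).map a))
    {f : 𝒳 ⥤ᵇ 𝒴} (hf : AlgSt.LocQ P (FibCat.fpFst z f)) : AlgSt.LocQ P f := by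
  obtain ⟨V, y, hy, hys⟩ := exists_space_atlas hY
  obtain ⟨U, L, hL, -, hx, hxs⟩ := exists_chart_over hX hY f hy
  obtain ⟨T, Lz, hLz, hLzs, hy'', -⟩ := exists_chart_over hZ hY z hy
  let U' : AlgSp.Space S := (AlgSp.ofScheme S).obj U
  let V' : AlgSp.Space S := (AlgSp.ofScheme S).obj V
  let T' : AlgSp.Space S := (AlgSp.ofScheme S).obj T
  obtain ⟨a, ha⟩ := (AlgSp.yon S).map_surjective (mapOf (BasedFunctor.comp L (FibCat.fpSnd f y)))
  obtain ⟨c, hc⟩ := (AlgSp.yon S).map_surjective (mapOf (BasedFunctor.comp Lz (FibCat.fpSnd z y)))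
  obtain ⟨βa⟩ := nonempty_iso_mapOf (BasedFunctor.comp L (FibCat.fpSnd f y))
  obtain ⟨βc⟩ := nonempty_iso_mapOf (BasedFunctor.comp Lz (FibCat.fpSnd z y))
  rw [← ha] at βa
  rw [← hc] at βc
  let C : AlgSt.ofSp T'.obj ⥤ᵇ AlgSt.ofSp V'.obj := AlgSt.ofSpMap ((AlgSp.yon S).map c)
  let y'' := BasedFunctor.comp Lz (FibCat.fpFst z y)
  let ε : BasedFunctor.comp C y ≅ BasedFunctor.comp y'' z :=
    (whiskerRightIso βc.symm y).trans (whiskerLeftIso Lz (FibCat.fpIso z y).symm)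
  have hcs : AlgSp.IsSurjectiveMor ((AlgSp.yon S).map c) := by
    rw [hc]
    refine surjective_mapOf (U := T') fun v => ?_
    obtain ⟨x, hx⟩ := hzs (AlgSt.Points.map y v)
    obtain ⟨w, -, hw⟩ := exists_points_fp (isFibGrpd_ofSp _) hY.isStack.1 hZ.isStack.1 y z x v hx
    obtain ⟨t, rfl⟩ := (isSurjective_iff_repWith (isFibGrpd_ofSp _)
      (isFibGrpd_fp hZ.isStack.1 (isFibGrpd_ofSp _) hY.isStack.1) (repWith_repByAlgSp1 hLzs)).2 hLzs w
    exact ⟨t, (map_comp _ _ t).trans hw⟩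
  -- the base change of the chart
  have sq := IsPullback.of_hasPullback ((AlgSp.yon S).map a) ((AlgSp.yon S).map c)
  have hQ := isAlgSpace_of_isPullback sq V'.property.diag U'.property T'.property
  have sq' : IsPullback (pullback.fst ((AlgSp.yon S).map a) ((AlgSp.yon S).map c)).hom
      (pullback.snd ((AlgSp.yon S).map a) ((AlgSp.yon S).map c)).hom
      ((AlgSp.yon S).map a).hom ((AlgSp.yon S).map c).hom :=
    (sq.map (sheafToPresheaf (AlgSp.J S) (Type (u + 1))) :)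
  let e₁ := BasedFunctor.comp (pshFpLift sq'.w) (fpCongr βa.symm (Iso.refl C))
  let M := fpPre L (BasedFunctor.id (AlgSt.ofSp T'.obj)) (FibCat.fpSnd f y) C
  let R := fpBaseChange z f y C y'' ε
  let L'' := BasedFunctor.comp (BasedFunctor.comp e₁ M) R
  have hL'' : AlgSt.RepByAlgSpWith (AlgSp.LocP @Smooth) L'' :=
    (repWith_postcomp_equiv _ (isEquivOver_fpBaseChange z f y C y'' ε)).2
      ((repWith_precomp_equiv (isEquivOver_comp (isEquivOver_pshFpLift sq') (isEquivOver_fpCongr _ _)) _).2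
        (repWith_fpPre_left L (FibCat.fpSnd f y) C hL))
  have hP' : P (pullback.snd ((AlgSp.yon S).map a) ((AlgSp.yon S).map c)) := by
    have h := (locQ_iff_all hP (isAlgStack_fp hY.isStack hY.diag hZ hX z f) hZ).1 hf
      ⟨_, hQ⟩ T' y'' L'' hy'' hL''
    rwa [show BasedFunctor.comp L'' (FibCat.fpSnd (FibCat.fpFst z f) y'') =
      AlgSt.ofSpMap (pullback.snd ((AlgSp.yon S).map a) ((AlgSp.yon S).map c)) from
        congrArg (BasedFunctor.comp (BasedFunctor.comp e₁ M)) (fpBaseChange_snd z f y C y'' ε),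
      mapOf_ofSpMap] at h
  refine (locQ_iff_locQSp hP hX hY).2 ⟨U', V', _, y, ObjectProperty.homMk (mapOf _),
    (nonempty_lift_iso f L).some, hx, hxs hys, hy, ha ▸ hdesc U V T a c (fun {R} hR hzR => ?_) hcs
      _ _ _ hQ sq hP'⟩
  rw [hc]
  exact (locQ_iff_all hR hZ hY).1 hzR _ _ y Lz hy hLz

/-- Descent along a flat, locally finitely presented surjection. -/
theorem locQ_of_fpFst_fppf {P : MorphismProperty (AlgSp.Sp S)} (hP : AlgSp.IsSmoothLocalST P)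
    (hP₂ : AlgSp.IsLocalOnBase AlgSp.IsFppfCover P)
    (hX : AlgSt.IsAlgStack Scheme.fppfPrecoverage 𝒳) (hY : AlgSt.IsAlgStack Scheme.fppfPrecoverage 𝒴)
    (hZ : AlgSt.IsAlgStack Scheme.fppfPrecoverage 𝒵) {z : 𝒵 ⥤ᵇ 𝒴}
    (hz₁ : AlgSt.LocQ (AlgSp.LocP @Flat) z)
    (hz₂ : AlgSt.LocQ (AlgSp.LocP @LocallyOfFinitePresentation) z) (hz₃ : AlgSt.IsSurjective z)
    {f : 𝒳 ⥤ᵇ 𝒴} (hf : AlgSt.LocQ P (FibCat.fpFst z f)) : AlgSt.LocQ P f :=
  locQ_of_fpFst hP hX hY hZ z hz₃ (fun U V T a c hc hcs Q p₁ p₂ hQ sq h =>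
    (hP₂ (fun _ : PUnit.{u + 1} => (AlgSp.yon S).obj T) (fun _ => (AlgSp.yon S).map c)
      (AlgSp.IsAlgSpace.yon_obj V) (fun _ => AlgSp.IsAlgSpace.yon_obj T)
      ⟨fun _ => ⟨hc isSmoothLocalST_flat hz₁, hc isSmoothLocalST_lfp hz₂⟩,
        fun x => ⟨⟨⟩, hcs x⟩⟩
      _ (AlgSp.IsAlgSpace.yon_obj U) (fun _ => Q) (fun _ => p₂) (fun _ => p₁) (fun _ => hQ)
      (fun _ => sq)).2 fun _ => h) hf

/-- Flatness descends along flat surjections of the target. -/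
theorem locQ_flat_of_fpFst (hX : AlgSt.IsAlgStack Scheme.fppfPrecoverage 𝒳)
    (hY : AlgSt.IsAlgStack Scheme.fppfPrecoverage 𝒴) (hZ : AlgSt.IsAlgStack Scheme.fppfPrecoverage 𝒵)
    {z : 𝒵 ⥤ᵇ 𝒴} (hz₁ : AlgSt.LocQ (AlgSp.LocP @Flat) z) (hz₂ : AlgSt.IsSurjective z)
    {f : 𝒳 ⥤ᵇ 𝒴} (hf : AlgSt.LocQ (AlgSp.LocP @Flat) (FibCat.fpFst z f)) :
    AlgSt.LocQ (AlgSp.LocP @Flat) f :=
  locQ_of_fpFst isSmoothLocalST_flat hX hY hZ z hz₂ (fun U V T a c hc hcs Q p₁ p₂ hQ sq h => by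
    have hp₁ : AlgSp.LocP @Flat p₁ := Groth.AlgSpBasic.locP_of_isPullback
      (AlgSp.IsAlgSpace.yon_obj T) (AlgSp.IsAlgSpace.yon_obj V) (AlgSp.IsAlgSpace.yon_obj U)
      sq.flip (hc isSmoothLocalST_flat hz₁)
    obtain ⟨M, r, hr, hrs⟩ := hQ.atlas
    obtain ⟨k, hk⟩ := (AlgSp.yon S).map_surjective (r ≫ p₁)
    obtain ⟨l, hl⟩ := (AlgSp.yon S).map_surjective (r ≫ p₂)
    have : Flat k.left := hp₁ r (𝟙 _) k hr (AlgSp.repWith_id @Etale U) (by rw [Category.comp_id, hk])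
    have : Flat l.left := h r (𝟙 _) l hr (AlgSp.repWith_id @Etale T) (by rw [Category.comp_id, hl])
    have : Flat c.left := left_prop_of_locP_yon (hc isSmoothLocalST_flat hz₁)
    have : Surjective k.left := surjective_left_of_yon fun u => by
      obtain ⟨t, ht⟩ := hcs (AlgSp.Points.map ((AlgSp.yon S).map a) u)
      obtain ⟨q, hq, -⟩ := Groth.AlgSpBasic.exists_point_of_isPullback sq u t ht.symm
      obtain ⟨m, rfl⟩ := surjective_ofPt_of_repWith hrs q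
      refine ⟨AlgSp.Points.ofScheme M m, ?_⟩
      rw [hk, AlgSp.Points.map_comp, ← ofPt_eq_map]
      exact hq
    have e : k ≫ a = l ≫ c := (AlgSp.yon S).map_injective (by
      rw [Functor.map_comp, Functor.map_comp, hk, hl, Category.assoc, Category.assoc, sq.w])
    have : Flat (k.left ≫ a.left) := by
      rw [← Over.comp_left, e, Over.comp_left]; infer_instance
    exact locP_yon_of_left (Groth.FlatMor2.flat_of_comp_surjective k.left a.left)) hf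

end Target

end Groth.AlgStBasic
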