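import Groth.Agent.AlgStBasic.StQc
import Groth.Agent.AlgSp2.FpqcRep

/-!
# Open substacks and open sets of points
-/

set_option autoImplicit false
set_option backward.isDefEq.respectTransparency false
set_option backward.isDefEq.respectTransparency.types false

universe u

open CategoryTheory CategoryTheory.Limits AlgebraicGeometry Opposite Topology
open Groth.StkBase Groth.AlgSpBasic

noncomputable section

namespace Groth.AlgStBasic

variable {S : Scheme.{u}} {𝒳 𝒴 : AlgSt.Cat S}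

/-- The objects all of whose points lie in a given set of points. -/
def inPts (T : Set (AlgSt.Points 𝒳)) (y : 𝒳.obj) : Prop :=
  ∀ p : AlgSt.FPt 𝒳, Nonempty (p.obj ⟶ y) → AlgSt.Points.mk p ∈ T

theorem inPts_of_hom {T : Set (AlgSt.Points 𝒳)} {y y' : 𝒳.obj} (l : y' ⟶ y) (h : inPts T y) :
    inPts T y' := fun p ⟨φ⟩ => h p ⟨φ ≫ l⟩

instance isClosedUnderIsomorphisms_inPts (T : Set (AlgSt.Points 𝒳)) :
    ObjectProperty.IsClosedUnderIsomorphisms (inPts T) :=
  ⟨fun e h => inPts_of_hom e.inv h⟩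

theorem inPts_idObj_iff (hX : FibCat.IsFibGrpd 𝒳.p) {T : Set (AlgSt.Points 𝒳)} {W : Over S}
    (G : FibCat.overCat W ⥤ᵇ 𝒳) :
    inPts T (G.obj (idObj W)) ↔ ∀ a : ↥W.left, AlgSt.Points.ofChart G a ∈ T := by
  constructor
  · intro h a
    exact h _ ⟨G.map (toId _)⟩
  · rintro h p ⟨φ⟩
    let k : Over.mk p.str ⟶ W :=
      eqToHom p.lies.symm ≫ 𝒳.p.map φ ≫ eqToHom (G.w_obj (idObj W))
    let q : AlgSt.FPt (FibCat.overCat W) :=
      { K := p.K, str := p.str, obj := Over.mk k, lies := rfl }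
    obtain ⟨i, hi, -⟩ := exists_vert_iso_of_lifts hX φ (G.map (toId q.obj))
      (p.lies.trans (G.w_obj q.obj).symm) (by
        rw [map_map, overCat_map]
        show 𝒳.p.map φ = _
        simp [q, k])
    have e : AlgSt.Points.mk p = AlgSt.Points.ofChart G (ptToScheme W (AlgSt.Points.mk q)) := by
      rw [mk_eq_of_hom (p := p) (q := AlgSt.FPt.map G q) i.hom, ofChart_eq_map,
        ofChart_id_ptToScheme]
      rfl
    rw [e]
    exact h _

theorem inPts_obj_iff (hX : FibCat.IsFibGrpd 𝒳.p) {T : Set (AlgSt.Points 𝒳)} {V : Over S}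
    (y : FibCat.overCat V ⥤ᵇ 𝒳) (g : (FibCat.overCat V).obj) :
    inPts T (y.obj g) ↔ ∀ a : ↥g.left.left, AlgSt.Points.ofChart y (g.hom.left a) ∈ T := by
  let G := BasedFunctor.comp (AlgSt.overMap g.hom) y
  let l : (AlgSt.overMap g.hom).obj (idObj g.left) ⟶ g :=
    Over.homMk (𝟙 g.left) (by show 𝟙 _ ≫ g.hom = 𝟙 _ ≫ g.hom; rfl)
  let l' : g ⟶ (AlgSt.overMap g.hom).obj (idObj g.left) :=
    Over.homMk (𝟙 g.left) (by show 𝟙 _ ≫ 𝟙 _ ≫ g.hom = g.hom; simp)
  have h := inPts_idObj_iff (T := T) hX G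
  constructor
  · intro hg a
    rw [← ofChart_overMap]
    exact h.1 (inPts_of_hom (y.map l) hg) a
  · intro ha
    refine inPts_of_hom (y.map l') (h.2 fun a => ?_)
    rw [ofChart_overMap]
    exact ha a

theorem inPts_obj_of_range (hX : FibCat.IsFibGrpd 𝒳.p) {𝒵 : AlgSt.Cat S}
    (hZ : FibCat.IsFibGrpd 𝒵.p) (G : 𝒵 ⥤ᵇ 𝒳) {T : Set (AlgSt.Points 𝒳)}
    (h : Set.range (AlgSt.Points.map G) ⊆ T) (v : 𝒵.obj) : inPts T (G.obj v) := by
  rintro p ⟨φ⟩
  obtain ⟨q, l, hq, hl⟩ := exists_lift' hZ (x := v)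
    (eqToHom p.lies.symm ≫ 𝒳.p.map φ ≫ eqToHom (G.w_obj v))
  obtain ⟨i, -, -⟩ := exists_vert_iso_of_lifts hX φ (G.map l)
    (p.lies.trans (hq.symm.trans (G.w_obj q).symm)) (by
      rw [map_map, hl]
      simp)
  let q' : AlgSt.FPt 𝒵 := { K := p.K, str := p.str, obj := q, lies := hq }
  rw [mk_eq_of_hom (p := p) (q := AlgSt.FPt.map G q') i.hom]
  exact h ⟨AlgSt.Points.mk q', rfl⟩

variable (T : Set (AlgSt.Points 𝒳))

theorem isFibGrpd_inPts (hX : FibCat.IsFibGrpd 𝒳.p) :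
    FibCat.IsFibGrpd (AlgSt.fullSub 𝒳 (inPts T)).p := by
  have : (AlgSt.subIncl 𝒳 (inPts T)).toFunctor.Full := inferInstanceAs (ObjectProperty.ι _).Full
  have : (AlgSt.subIncl 𝒳 (inPts T)).toFunctor.Faithful :=
    inferInstanceAs (ObjectProperty.ι _).Faithful
  exact isFibGrpd_of_fullyFaithful hX (AlgSt.subIncl 𝒳 (inPts T)) fun y x l =>
    ⟨⟨y, inPts_of_hom l x.property⟩, Iso.refl _, isVert_id _⟩

theorem range_subIncl_inPts :
    Set.range (AlgSt.Points.map (AlgSt.subIncl 𝒳 (inPts T))) ⊆ T := by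
  rintro _ ⟨z, rfl⟩
  obtain ⟨p, rfl⟩ := AlgSt.Points.mk_surjective z
  exact p.obj.property _ ⟨𝟙 _⟩

theorem range_subIncl_inPts_eq :
    Set.range (AlgSt.Points.map (AlgSt.subIncl 𝒳 (inPts T))) = T := by
  refine (range_subIncl_inPts T).antisymm fun z hz => ?_
  obtain ⟨p, rfl⟩ := AlgSt.Points.mk_surjective z
  have h : inPts T p.obj := fun q ⟨φ⟩ => by rwa [mk_eq_of_hom φ]
  exact ⟨AlgSt.Points.mk
    ({ K := p.K, str := p.str, obj := ⟨p.obj, h⟩, lies := p.lies } : AlgSt.FPt (AlgSt.fullSub 𝒳 (inPts T))), rfl⟩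

theorem repWith_overMap_openImm {U V : Over S} (g : U ⟶ V) (hg : IsOpenImmersion g.left) :
    AlgSt.RepByAlgSpWith (AlgSp.RepWith @IsOpenImmersion) (AlgSt.overMap g) := by
  have h : AlgSt.RepByAlgSpWith (AlgSp.RepWith @IsOpenImmersion)
      (BasedFunctor.comp (AlgSt.ofOverCat U)
        (BasedFunctor.comp (AlgSt.ofSpMap ((AlgSp.yon S).map g)) (AlgSt.toOverCat V))) :=
    (repWith_precomp_equiv (isEquivOver_ofOverCat U) _).2
      ((repWith_postcomp_equiv _ (isEquivOver_toOverCat V)).2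
        (repWith_ofPshMap_of_stable (F := ⟨_, AlgSp.IsAlgSpace.yon_obj U⟩)
          (G := ⟨_, AlgSp.IsAlgSpace.yon_obj V⟩) (stableBaseChange_repWith _) _
          ((AlgSp.repWith_yon_map_iff _ g).2 hg)))
  exact h

theorem repFst_overMap {P : MorphismProperty (AlgSp.Sp S)} {U V : Over S} {g : U ⟶ V}
    (h : AlgSt.RepByAlgSpWith P (AlgSt.overMap g)) : RepFst P (AlgSt.overMap g) :=
  RepFst.of_equiv (isEquivOver_fpSnd_id (AlgSt.overMap g))
    (FibCat.fpIso (BasedFunctor.id _) (AlgSt.overMap g)).symm (h V (BasedFunctor.id _))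

variable {T}

theorem isOpenImm_subIncl_inPts (hX : AlgSt.IsAlgStack Scheme.fppfPrecoverage 𝒳) (hT : IsOpen T) :
    AlgSt.IsOpenImm (AlgSt.subIncl 𝒳 (inPts T)) := by
  intro V y
  let i := AlgSt.subIncl 𝒳 (inPts T)
  let O : V.left.Opens := ⟨AlgSt.Points.ofChart y ⁻¹' T, hT.preimage (continuous_ofChart hX y)⟩
  let OV : Over S := Over.mk (O.ι ≫ V.hom)
  let j : OV ⟶ V := Over.homMk O.ι
  have hmem : ∀ g : (FibCat.overCat OV).obj, inPts T (y.obj ((AlgSt.overMap j).obj g)) := fun g => by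
    refine (inPts_obj_iff hX.isStack.1 y _).2 fun a => ?_
    exact (g.hom.left a).2
  let B : FibCat.overCat OV ⥤ᵇ AlgSt.fullSub 𝒳 (inPts T) :=
    { toFunctor := ObjectProperty.lift _ (BasedFunctor.comp (AlgSt.overMap j) y).toFunctor hmem
      w := (BasedFunctor.comp (AlgSt.overMap j) y).w }
  let γ : BasedFunctor.comp (AlgSt.overMap j) y ≅ BasedFunctor.comp B i := Iso.refl _
  let Λ := FibCat.fpLift (F := y) (G := i) (AlgSt.overMap j) B γ
  have hΛ : FibCat.IsEquivOver Λ := by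
    have hj : Mono j.left := inferInstanceAs (Mono O.ι)
    refine isEquivOver_of_fullyFaithful _ ⟨fun {g g'} h => ?_⟩ ⟨fun {g g'} a b e => ?_⟩ (fun p => ?_)
    · have hw : h.hom.fst.left ≫ g'.hom ≫ j = g.hom ≫ j := Over.w h.hom.fst
      have hm : Mono j := (Over.forget S).mono_of_mono_map hj
      let a : g ⟶ g' := Over.homMk h.hom.fst.left ((cancel_mono j).1 (by rw [Category.assoc, hw]))
      refine ⟨a, fp_hom_ext (Over.OverMorphism.ext rfl) ?_⟩
      have w := h.hom.w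
      simp [Λ, i, γ, FibCat.fpLift, AlgSt.subIncl] at w
      have w' : y.map h.hom.fst = h.hom.snd.hom :=
        ((Category.comp_id _).symm.trans w).trans (Category.id_comp _)
      apply ObjectProperty.hom_ext
      exact (congrArg y.map (Over.OverMorphism.ext rfl)).trans w'
    · exact Over.OverMorphism.ext (congrArg (fun t => t.hom.fst.left) e)
    · have hg := (inPts_obj_iff hX.isStack.1 y p.obj.fst).1
        (inPts_of_hom p.obj.iso.hom p.obj.snd.property)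
      have hr : Set.range p.obj.fst.hom.left ⊆ Set.range O.ι := by
        rintro _ ⟨a, rfl⟩
        rw [Scheme.Opens.range_ι]
        exact hg a
      let l : p.obj.fst.left ⟶ OV := Over.homMk (IsOpenImmersion.lift O.ι p.obj.fst.hom.left hr) (by
        show IsOpenImmersion.lift O.ι p.obj.fst.hom.left hr ≫ O.ι ≫ V.hom = _
        rw [← Category.assoc, IsOpenImmersion.lift_fac, Over.w])
      have hl : l ≫ j = p.obj.fst.hom := Over.OverMorphism.ext (IsOpenImmersion.lift_fac _ _ _)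
      let φ : (AlgSt.overMap j).obj (Over.mk l) ≅ p.obj.fst :=
        Over.isoMk (Iso.refl _) (by show 𝟙 _ ≫ p.obj.fst.hom = l ≫ j; rw [hl, Category.id_comp])
      let ψ : B.obj (Over.mk l) ≅ p.obj.snd :=
        (ObjectProperty.fullyFaithfulι _).preimageIso (y.toFunctor.mapIso φ ≪≫ p.obj.iso)
      refine ⟨Over.mk l, fpObjIso φ ψ ?_, ?_⟩
      · simp [Λ, i, γ, ψ, FibCat.fpLift, AlgSt.subIncl]
        exact (Category.id_comp _).symm
      · exact ⟨rfl, rfl⟩
  exact RepFst.of_equiv (E := Λ) hΛ (Iso.refl _) (repFst_overMap (repWith_overMap_openImm j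
    (inferInstanceAs (IsOpenImmersion O.ι))))

theorem isOpenSubstack_inPts (hX : AlgSt.IsAlgStack Scheme.fppfPrecoverage 𝒳) (hT : IsOpen T) :
    AlgSt.IsOpenSubstack 𝒳 (inPts T) Scheme.fppfPrecoverage :=
  ⟨inferInstance, isAlgStack_of_repByAlgSp1 (isFibGrpd_inPts T hX.isStack.1) hX _
    (repWith_repByAlgSp1 (isOpenImm_subIncl_inPts hX hT)), isOpenImm_subIncl_inPts hX hT⟩

theorem isOpenMap_map_of_isOpenImm (hX : AlgSt.IsAlgStack Scheme.fppfPrecoverage 𝒳)
    (hY : FibCat.IsFibGrpd 𝒴.p) {f : 𝒳 ⥤ᵇ 𝒴} (hf : AlgSt.IsOpenImm f) :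
    IsOpenMap (AlgSt.Points.map f) :=
  isOpenMap_map_of_repWith hX hY
    (repWith_mono (fun _ _ _ _ _ h => Groth.AlgSpBasic.locP_of_repWith
      (Groth.AlgSpBasic.repWith_mono (fun _ _ g (_ : IsOpenImmersion g) =>
        (inferInstance : Flat g)) h)) hf)
    (repWith_mono (fun _ _ _ _ _ h => Groth.AlgSpBasic.locP_of_repWith
      (Groth.AlgSpBasic.repWith_mono (fun _ _ g (_ : IsOpenImmersion g) =>
        (inferInstance : LocallyOfFinitePresentation g)) h)) hf)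

/-- An open substack consists of the objects with all their points in its set of points. -/
theorem isOpenSubstack_eq (hX : AlgSt.IsAlgStack Scheme.fppfPrecoverage 𝒳) {Q : 𝒳.obj → Prop}
    (hQ : AlgSt.IsOpenSubstack 𝒳 Q Scheme.fppfPrecoverage) (y : 𝒳.obj) :
    Q y ↔ inPts (Set.range (AlgSt.Points.map (AlgSt.subIncl 𝒳 Q))) y := by
  obtain ⟨hiso, hA, hi⟩ := hQ
  have hQiso : ∀ {a b : 𝒳.obj}, (a ≅ b) → Q a → Q b := fun e h => hiso.of_iso e h
  constructor
  · rintro hy p ⟨φ⟩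
    obtain ⟨q, l, hq, hl⟩ := exists_lift' hA.isStack.1 (x := (⟨y, hy⟩ : (AlgSt.fullSub 𝒳 Q).obj))
      (eqToHom p.lies.symm ≫ 𝒳.p.map φ)
    obtain ⟨i, -, -⟩ := exists_vert_iso_of_lifts hX.isStack.1 φ ((AlgSt.subIncl 𝒳 Q).map l)
      (p.lies.trans hq.symm) (by
        show 𝒳.p.map φ = eqToHom _ ≫ (AlgSt.fullSub 𝒳 Q).p.map l
        rw [hl]
        simp)
    exact ⟨AlgSt.Points.mk
      ({ K := p.K, str := p.str, obj := ⟨p.obj, hQiso i.symm q.property⟩, lies := p.lies } :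
        AlgSt.FPt (AlgSt.fullSub 𝒳 Q)), rfl⟩
  · intro hy
    let U := 𝒳.p.obj y
    obtain ⟨i, -⟩ := overFunctor_eval hX.isStack.1 y (rfl : 𝒳.p.obj y = U)
    let G := overFunctor hX.isStack.1 y (rfl : 𝒳.p.obj y = U)
    have hG := (inPts_idObj_iff hX.isStack.1 G).1 (inPts_of_hom i.hom hy)
    obtain ⟨F, e, he, ho⟩ := hi U G
    have hs : AlgSp.RepWith @Surjective
        (AlgSt.spMapOfOver (BasedFunctor.comp e (FibCat.fpFst G (AlgSt.subIncl 𝒳 Q)))) := by
      refine repWith_surjective_of_points ho.rep fun z => ?_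
      have := (Set.ext_iff.1 (preimage_image_chart hA.isStack.1 hX.isStack.1 (AlgSt.subIncl 𝒳 Q) G
        e he Set.univ) (AlgSp.Points.toScheme U z)).1 (by
          rw [Set.mem_preimage, Set.image_univ]; exact hG _)
      obtain ⟨_, ⟨x, -, rfl⟩, e₂⟩ := this
      exact ⟨x, by rw [← AlgSp.Points.ofScheme_toScheme U z, ← e₂, AlgSp.Points.ofScheme_toScheme]⟩
    have : IsIso (AlgSt.spMapOfOver (BasedFunctor.comp e (FibCat.fpFst G (AlgSt.subIncl 𝒳 Q)))) := by
      refine Groth.AlgSp2.isIso_of_repWith ⟨ho.rep, fun a b g fst snd sq => ?_⟩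
      have : IsOpenImmersion snd.left := ho.property g fst snd sq
      have : Surjective snd.left := hs.property g fst snd sq
      show IsIso snd.left
      have : Epi snd.left.base := (TopCat.epi_iff_surjective _).2 snd.left.surjective
      exact IsOpenImmersion.isIso snd.left
    obtain ⟨z, ⟨α⟩⟩ := exists_lift_of_section G e
      (inv (AlgSt.spMapOfOver (BasedFunctor.comp e (FibCat.fpFst G (AlgSt.subIncl 𝒳 Q))))) (𝟙 U)
      (by rw [IsIso.inv_hom_id, CategoryTheory.Functor.map_id])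
    let l : (AlgSt.overMap (𝟙 U)).obj (idObj U) ≅ idObj U :=
      Over.isoMk (Iso.refl _) (by show 𝟙 _ ≫ 𝟙 U = 𝟙 U ≫ 𝟙 U; rfl)
    exact hQiso (((isoApp α (idObj U)) ≪≫ G.toFunctor.mapIso l) ≪≫ i) (z.obj (idObj U)).property

theorem bijOn_isOpenSubstack (hX : AlgSt.IsAlgStack Scheme.fppfPrecoverage 𝒳) :
    Set.BijOn (fun Q : 𝒳.obj → Prop => Set.range (AlgSt.Points.map (AlgSt.subIncl 𝒳 Q)))
      {Q | AlgSt.IsOpenSubstack 𝒳 Q Scheme.fppfPrecoverage} {T | IsOpen T} := by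
  refine ⟨fun Q hQ => (isOpenMap_map_of_isOpenImm hQ.2.1 hX.isStack.1 hQ.2.2).isOpen_range,
    fun Q hQ Q' hQ' e => funext fun y => propext ?_,
    fun T hT => ⟨inPts T, isOpenSubstack_inPts hX hT, range_subIncl_inPts_eq T⟩⟩
  rw [isOpenSubstack_eq hX hQ y, isOpenSubstack_eq hX hQ' y, show Set.range _ = Set.range _ from e]

theorem isOpenSubstack_le_iff (hX : AlgSt.IsAlgStack Scheme.fppfPrecoverage 𝒳) {Q Q' : 𝒳.obj → Prop}
    (hQ : AlgSt.IsOpenSubstack 𝒳 Q Scheme.fppfPrecoverage)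
    (hQ' : AlgSt.IsOpenSubstack 𝒳 Q' Scheme.fppfPrecoverage) :
    (∀ y, Q y → Q' y) ↔ Set.range (AlgSt.Points.map (AlgSt.subIncl 𝒳 Q)) ⊆
      Set.range (AlgSt.Points.map (AlgSt.subIncl 𝒳 Q')) := by
  refine ⟨?_, fun h y hy => ?_⟩
  · rintro h _ ⟨z, rfl⟩
    obtain ⟨p, rfl⟩ := AlgSt.Points.mk_surjective z
    let q : AlgSt.FPt (AlgSt.fullSub 𝒳 Q') :=
      { K := p.K, str := p.str, obj := ⟨p.obj.obj, h _ p.obj.property⟩, lies := p.lies }
    exact ⟨AlgSt.Points.mk q, rfl⟩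
  · exact (isOpenSubstack_eq hX hQ' y).2 fun p hp => h ((isOpenSubstack_eq hX hQ y).1 hy p hp)

theorem repWith_of_comp_fullyFaithful {𝒵 : AlgSt.Cat S} {P : MorphismProperty (AlgSp.Sp S)}
    {g : 𝒵 ⥤ᵇ 𝒳} (i : 𝒳 ⥤ᵇ 𝒴) [i.toFunctor.Full] [i.toFunctor.Faithful]
    (h : AlgSt.RepByAlgSpWith P (BasedFunctor.comp g i)) : AlgSt.RepByAlgSpWith P g := fun U y => by
  obtain ⟨E, hE, -, ⟨b⟩⟩ := isEquivOver_symm (isEquivOver_fpPost y g i)
  exact RepFst.of_equiv (π := FibCat.fpFst (BasedFunctor.comp y i) (BasedFunctor.comp g i)) hE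
    (whiskerRightIso b (FibCat.fpFst (BasedFunctor.comp y i) (BasedFunctor.comp g i))) (h U _)

end Groth.AlgStBasic
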