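import Groth.Agent.AlgStBasic.PropCalc

/-!
# Products and descent for properties of functors representable by algebraic spaces
-/

set_option autoImplicit false
set_option backward.isDefEq.respectTransparency false
set_option backward.isDefEq.respectTransparency.types false

universe u

open CategoryTheory CategoryTheory.Limits AlgebraicGeometry Opposite
open Groth.StkBase Groth.AlgSpBasic

namespace Groth.AlgStBasic

variable {S : Scheme.{u}} {P : MorphismProperty (AlgSp.Sp S)}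
variable {𝒳 𝒴 𝒵 𝒳' 𝒴' : AlgSt.Cat S}

theorem repWith_fpPre_left (a : 𝒳' ⥤ᵇ 𝒳) (f : 𝒳 ⥤ᵇ 𝒵) (g : 𝒴 ⥤ᵇ 𝒵)
    (ha : AlgSt.RepByAlgSpWith P a) :
    AlgSt.RepByAlgSpWith P (fpPre a (BasedFunctor.id 𝒴) f g) :=
  repWith_of_iso (nonempty_fpPre_left_iso a f g).some
    ((repWith_precomp_equiv (isEquivOver_fpUnpaste a f g) _).2
      (repWith_fpSnd a (FibCat.fpFst f g) ha))

theorem repWith_fpPre (hX' : FibCat.IsFibGrpd 𝒳'.p) (hX : FibCat.IsFibGrpd 𝒳.p)
    (hY' : FibCat.IsFibGrpd 𝒴'.p) (hZ : FibCat.IsFibGrpd 𝒵.p)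
    (hb : StableBaseChange P) (hc : StableComp P) (hP : DescendsAlongAtlas P)
    (a : 𝒳' ⥤ᵇ 𝒳) (b : 𝒴' ⥤ᵇ 𝒴) (f : 𝒳 ⥤ᵇ 𝒵) (g : 𝒴 ⥤ᵇ 𝒵)
    (ha : AlgSt.RepByAlgSpWith P a) (hb' : AlgSt.RepByAlgSpWith P b) :
    AlgSt.RepByAlgSpWith P (fpPre a b f g) := by
  have h2 : AlgSt.RepByAlgSpWith P (fpPre (BasedFunctor.id 𝒳) b f g) :=
    repWith_of_iso (nonempty_fpPre_swap_iso b f g).some
      ((repWith_postcomp_equiv _ (isEquivOver_fpSwap g f)).2
        ((repWith_precomp_equiv (isEquivOver_fpSwap f (BasedFunctor.comp b g)) _).2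
          (repWith_fpPre_left b g f hb')))
  exact repWith_of_iso
    (fpIsoMk (Iso.refl _) (Iso.refl _) fun z => by simp [fpPre])
    (repWith_comp' (isFibGrpd_fp hX' hY' hZ) (isFibGrpd_fp hX hY' hZ) hb hc hP
      (repWith_fpPre_left a f (BasedFunctor.comp b g) ha) h2)

/-- An fppf covering sieve contains a small fppf covering of the scheme as an algebraic space. -/
theorem exists_fppfCover_of_mem {U : Over S} {R : Sieve U} (hR : R ∈ AlgSp.J S U) :
    ∃ (V : ↥U.left → Over S) (i : ∀ x, V x ⟶ U), (∀ x, R (i x)) ∧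
      AlgSp.IsFppfCover (fun x => (AlgSp.yon S).obj (V x)) (fun x => (AlgSp.yon S).map (i x)) := by
  obtain ⟨C, hC, hR'⟩ := exists_cover_of_mem hR
  obtain ⟨ι, Z, g, rfl⟩ := C.exists_eq_ofArrows
  obtain ⟨hsurj, hfl⟩ := (Scheme.ofArrows_mem_precoverage_iff _).1 hC
  choose j y hy using hsurj
  let f : ∀ x, Z (j x) ⟶ U.left := fun x => g (j x)
  have hf : ∀ x, Presieve.ofArrows Z g (f x) := fun x => ⟨j x⟩
  refine ⟨fun x => Over.mk (f x ≫ U.hom), fun x => Over.homMk (f x), fun x => hR' _ (hf x),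
    fun x => ?_, fun p => ?_⟩
  · obtain ⟨hl, hp⟩ := hfl (j x)
    exact ⟨locP_of_repWith (fun _ _ φ (h : Etale φ) => by infer_instance)
        ((AlgSp.repWith_yon_map_iff _ _).2 hl),
      locP_of_repWith (fun _ _ φ (h : Etale φ) => by infer_instance)
        ((AlgSp.repWith_yon_map_iff _ _).2 hp)⟩
  · obtain ⟨x, rfl⟩ := (AlgSp.Points.schemeHomeo U).surjective p
    refine ⟨x, AlgSp.Points.schemeHomeo _ (y x), ?_⟩
    rw [AlgSp.Points.map_yon_map_apply]
    exact congrArg _ (hy x)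

theorem nonempty_overMapOf_iso {U V : Over S} (i : V ⟶ U) :
    Nonempty (BasedFunctor.comp (overMapOf ((AlgSp.pyon S).map i)) (AlgSt.toOverCat U)
      ≅ AlgSt.overMap i) :=
  (nonempty_overIso_iff (isFibGrpd_overCat U) _ _).2
    ⟨eqToHom (by rfl), isVert_eqToHom _⟩

theorem repWith_of_locally
    (hb : StableBaseChange P) (hP : AlgSp.IsLocalOnBase AlgSp.IsFppfCover P)
    {f : 𝒳 ⥤ᵇ 𝒴} (hf : AlgSt.RepByAlgSp1 f) {g : 𝒵 ⥤ᵇ 𝒴}
    (hg : ∀ (U : Over S) (y : FibCat.overCat U ⥤ᵇ 𝒴), ∃ R ∈ AlgSp.J S U,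
      ∀ ⦃V : Over S⦄ (h : V ⟶ U), R.arrows h →
        ∃ z : FibCat.overCat V ⥤ᵇ 𝒵,
          Nonempty (BasedFunctor.comp z g ≅ BasedFunctor.comp (AlgSt.overMap h) y))
    (h' : AlgSt.RepByAlgSpWith P (FibCat.fpFst g f)) : AlgSt.RepByAlgSpWith P f := by
  intro U y
  obtain ⟨F, e, he⟩ := hf U y
  refine ⟨F, e, he, ?_⟩
  let π := AlgSt.spMapOfOver (BasedFunctor.comp e (FibCat.fpFst y f))
  obtain ⟨R, hR, hR'⟩ := hg U y
  obtain ⟨V, i, hi, hcov⟩ := exists_fppfCover_of_mem hR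
  have := hb.respectsIso
  have key : ∀ x, RepFst (onSpaces P)
      (FibCat.fpFst (overMapOf ((AlgSp.pyon S).map (i x))) (Stk.ofPshMap π.hom)) := by
    intro x
    obtain ⟨z, ⟨α⟩⟩ := hR' (i x) (hi x)
    let M := AlgSt.overMap (i x)
    let T := AlgSt.toOverCat U
    let ξ := overMapOf ((AlgSp.pyon S).map (i x))
    have hy : RepFst (onSpaces P) (FibCat.fpFst (BasedFunctor.comp M y) f) := by
      refine RepFst.mono (fun _ _ _ hA hB hp => ⟨hA, hB, hp⟩) (P := P) ?_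
      exact RepFst.of_equiv (isEquivOver_comp (isEquivOver_fpPaste z g f)
        (isEquivOver_fpCongr α (Iso.refl f))) (Iso.refl _) (h' (V x) z)
    have hT := isEquivOver_toOverCat U
    have := full_of_isEquivOver hT
    have := faithful_of_isEquivOver hT
    obtain ⟨β⟩ := nonempty_iso_pshMapOf
      (BasedFunctor.comp (BasedFunctor.comp e (FibCat.fpFst y f)) (AlgSt.ofOverCat U))
    have γ : BasedFunctor.comp (Stk.ofPshMap π.hom) T
        ≅ BasedFunctor.comp e (FibCat.fpFst y f) := by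
      have γ' : Stk.ofPshMap π.hom
          ≅ BasedFunctor.comp (BasedFunctor.comp e (FibCat.fpFst y f)) (AlgSt.ofOverCat U) :=
        (eqToIso (congrArg Stk.ofPshMap (spMapOfOver_hom_eq _))).trans β.symm
      exact whiskerRightIso γ' T
    obtain ⟨δ⟩ := nonempty_overMapOf_iso (i x)
    have hE : FibCat.IsEquivOver (BasedFunctor.comp (fpPost ξ (Stk.ofPshMap π.hom) T)
        (BasedFunctor.comp (fpCongr δ γ)
          (BasedFunctor.comp (fpPre (BasedFunctor.id _) e M (FibCat.fpFst y f)) (fpPaste M y f)))) :=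
      isEquivOver_comp (isEquivOver_fpPost ξ _ T) (isEquivOver_comp (isEquivOver_fpCongr δ γ)
        (isEquivOver_comp (isEquivOver_fpPre (isEquivOver_id _) he _ _) (isEquivOver_fpPaste M y f)))
    obtain ⟨E', hE', -, ⟨b⟩⟩ := isEquivOver_symm hE
    exact RepFst.of_equiv hE' (whiskerRightIso b (FibCat.fpFst _ _)) hy
  have hsh : ∀ x, AlgSp.IsAlgSpace (pullback π ((AlgSp.yon S).map (i x))) := fun x =>
    isAlgSpace_of_isPullback (IsPullback.of_hasPullback _ _) (AlgSp.IsAlgSpace.yon_obj U).diag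
      F.property (AlgSp.IsAlgSpace.yon_obj (V x))
  refine (hP (fun x => (AlgSp.yon S).obj (V x)) (fun x => (AlgSp.yon S).map (i x))
    (AlgSp.IsAlgSpace.yon_obj U) (fun x => AlgSp.IsAlgSpace.yon_obj _) hcov π F.property
    (fun x => pullback π ((AlgSp.yon S).map (i x))) (fun x => pullback.snd _ _)
    (fun x => pullback.fst _ _) hsh (fun x => IsPullback.of_hasPullback _ _)).2 fun x => ?_
  exact (prop_snd_of_repFst
    ((IsPullback.of_hasPullback π ((AlgSp.yon S).map (i x))).map (sheafToPresheaf (AlgSp.J S) (Type (u + 1))))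
    (pullback π ((AlgSp.yon S).map (i x))).property (key x)).2.2

end Groth.AlgStBasic
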