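import Groth.Agent.StkBase.StackMisc
import Groth.Agent.StkBase.Psh
import Groth.Prelude.Def_AlgSt3

/-!
# Representability by algebraic spaces: first properties
-/

set_option autoImplicit false
set_option backward.isDefEq.respectTransparency false
set_option backward.isDefEq.respectTransparency.types false

universe w₁ v₁ w₂ v₂ w₃ v₃ w₄ v₄ u

open CategoryTheory CategoryTheory.Limits AlgebraicGeometry Opposite
open Groth.StkBase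

namespace Groth.AlgStBasic

variable {S : Scheme.{u}}

theorem toOverCat_ofOverCat (U : Over S) :
    BasedFunctor.comp (AlgSt.toOverCat U) (AlgSt.ofOverCat U) = BasedFunctor.id _ := rfl

theorem ofOverCat_toOverCat (U : Over S) :
    BasedFunctor.comp (AlgSt.ofOverCat U) (AlgSt.toOverCat U) = BasedFunctor.id _ := rfl

theorem isEquivOver_toOverCat (U : Over S) : FibCat.IsEquivOver (AlgSt.toOverCat U) :=
  ⟨AlgSt.ofOverCat U, ⟨eqToIso (toOverCat_ofOverCat U)⟩, ⟨eqToIso (ofOverCat_toOverCat U)⟩⟩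

theorem isEquivOver_ofOverCat (U : Over S) : FibCat.IsEquivOver (AlgSt.ofOverCat U) :=
  ⟨AlgSt.toOverCat U, ⟨eqToIso (ofOverCat_toOverCat U)⟩, ⟨eqToIso (toOverCat_ofOverCat U)⟩⟩

theorem spMapOfOver_hom_eq {F : AlgSp.Sp S} {U : Over S} (Φ : AlgSt.ofSp F ⥤ᵇ FibCat.overCat U) :
    (AlgSt.spMapOfOver Φ).hom = pshMapOf (BasedFunctor.comp Φ (AlgSt.ofOverCat U)) := by
  ext T x
  rfl

theorem spMapOfOver_congr {F : AlgSp.Sp S} {U : Over S} {Φ Ψ : AlgSt.ofSp F ⥤ᵇ FibCat.overCat U}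
    (e : Φ ≅ Ψ) : AlgSt.spMapOfOver Φ = AlgSt.spMapOfOver Ψ := by
  apply ObjectProperty.hom_ext
  rw [spMapOfOver_hom_eq, spMapOfOver_hom_eq]
  exact pshMapOf_eq_of_iso (whiskerRightIso e _)

theorem spMapOfOver_toOverCat {U V : Over S} (g : U ⟶ V) :
    AlgSt.spMapOfOver (BasedFunctor.comp (AlgSt.toOverCat U) (AlgSt.overMap g))
      = (AlgSp.yon S).map g := by
  apply ObjectProperty.hom_ext
  ext T x
  obtain ⟨x⟩ := x
  apply ULift.ext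
  exact Category.id_comp _

section RepByAlgSp

variable {𝒳 : BasedCategory.{v₁, w₁} (Over S)} {𝒴 : BasedCategory.{v₂, w₂} (Over S)}

theorem repByAlgSp_of_equiv {e : 𝒳 ⥤ᵇ 𝒴} (he : FibCat.IsEquivOver e) (h : AlgSt.RepByAlgSp 𝒳) :
    AlgSt.RepByAlgSp 𝒴 := by
  obtain ⟨F, a, ha⟩ := h
  exact ⟨F, BasedFunctor.comp a e, isEquivOver_comp ha he⟩

theorem repByAlgSp_iff_of_equiv {e : 𝒳 ⥤ᵇ 𝒴} (he : FibCat.IsEquivOver e) :
    AlgSt.RepByAlgSp 𝒳 ↔ AlgSt.RepByAlgSp 𝒴 := by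
  refine ⟨repByAlgSp_of_equiv he, ?_⟩
  obtain ⟨G, hG, -⟩ := isEquivOver_symm he
  exact repByAlgSp_of_equiv hG

theorem isFibSetoid_of_repByAlgSp (h : AlgSt.RepByAlgSp 𝒳) : FibCat.IsFibSetoid 𝒳.p := by
  obtain ⟨F, a, ha⟩ := h
  exact (isFibSetoid_iff_of_isEquivOver ha).1 (isFibSetoid_ofPsh F.obj.obj)

theorem repByAlgSp_overCat (U : Over S) : AlgSt.RepByAlgSp (FibCat.overCat U) :=
  ⟨(AlgSp.ofScheme S).obj U, AlgSt.toOverCat U, isEquivOver_toOverCat U⟩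

end RepByAlgSp

section RepFst

/-- The base change of a functor to a scheme is an algebraic space with property `P` over it. -/
def RepFst (P : MorphismProperty (AlgSp.Sp S)) {U : Over S} {𝒵 : BasedCategory.{v₁, w₁} (Over S)}
    (π : 𝒵 ⥤ᵇ FibCat.overCat U) : Prop :=
  ∃ (F : AlgSp.Space S) (e : AlgSt.ofSp F.obj ⥤ᵇ 𝒵),
    FibCat.IsEquivOver e ∧ P (AlgSt.spMapOfOver (BasedFunctor.comp e π))

variable {P : MorphismProperty (AlgSp.Sp S)} {U : Over S}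
  {𝒵 : BasedCategory.{v₁, w₁} (Over S)} {𝒵' : BasedCategory.{v₂, w₂} (Over S)}

theorem RepFst.of_equiv {π : 𝒵 ⥤ᵇ FibCat.overCat U} {π' : 𝒵' ⥤ᵇ FibCat.overCat U} {E : 𝒵 ⥤ᵇ 𝒵'}
    (hE : FibCat.IsEquivOver E) (α : BasedFunctor.comp E π' ≅ π) (h : RepFst P π) : RepFst P π' := by
  obtain ⟨F, e, he, hP⟩ := h
  refine ⟨F, BasedFunctor.comp e E, isEquivOver_comp he hE, ?_⟩
  have h := spMapOfOver_congr (Φ := BasedFunctor.comp (BasedFunctor.comp e E) π')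
    (Ψ := BasedFunctor.comp e π) (whiskerLeftIso e α)
  rw [h]
  exact hP

theorem RepFst.repByAlgSp {π : 𝒵 ⥤ᵇ FibCat.overCat U} (h : RepFst P π) : AlgSt.RepByAlgSp 𝒵 := by
  obtain ⟨F, e, he, -⟩ := h
  exact ⟨F, e, he⟩

theorem RepFst.mono {Q : MorphismProperty (AlgSp.Sp S)}
    (hPQ : ∀ ⦃X Y : AlgSp.Sp S⦄ (f : X ⟶ Y), AlgSp.IsAlgSpace X → AlgSp.IsAlgSpace Y → P f → Q f)
    {π : 𝒵 ⥤ᵇ FibCat.overCat U} (h : RepFst P π) : RepFst Q π := by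
  obtain ⟨F, e, he, hP⟩ := h
  exact ⟨F, e, he, hPQ _ F.property (AlgSp.IsAlgSpace.yon_obj U) hP⟩

end RepFst

section RepWith

variable {P : MorphismProperty (AlgSp.Sp S)} {𝒳 : BasedCategory.{v₁, w₁} (Over S)}
  {𝒴 : BasedCategory.{v₂, w₂} (Over S)} {𝒵 : BasedCategory.{v₃, w₃} (Over S)}

theorem repWith_iff (f : 𝒳 ⥤ᵇ 𝒴) :
    AlgSt.RepByAlgSpWith P f ↔
      ∀ (U : Over S) (y : FibCat.overCat U ⥤ᵇ 𝒴), RepFst P (FibCat.fpFst y f) := Iff.rfl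

theorem repWith_repByAlgSp1 {f : 𝒳 ⥤ᵇ 𝒴} (h : AlgSt.RepByAlgSpWith P f) : AlgSt.RepByAlgSp1 f :=
  fun U y => RepFst.repByAlgSp (h U y)

theorem repWith_top_iff (f : 𝒳 ⥤ᵇ 𝒴) :
    AlgSt.RepByAlgSpWith (⊤ : MorphismProperty (AlgSp.Sp S)) f ↔ AlgSt.RepByAlgSp1 f :=
  ⟨repWith_repByAlgSp1, fun h U y => by
    obtain ⟨F, e, he⟩ := h U y
    exact ⟨F, e, he, trivial⟩⟩

theorem repWith_mono {Q : MorphismProperty (AlgSp.Sp S)}
    (hPQ : ∀ ⦃X Y : AlgSp.Sp S⦄ (f : X ⟶ Y), AlgSp.IsAlgSpace X → AlgSp.IsAlgSpace Y → P f → Q f)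
    {f : 𝒳 ⥤ᵇ 𝒴} (h : AlgSt.RepByAlgSpWith P f) : AlgSt.RepByAlgSpWith Q f :=
  fun U y => RepFst.mono hPQ (h U y)

theorem repWith_of_iso {f f' : 𝒳 ⥤ᵇ 𝒴} (α : f ≅ f') (h : AlgSt.RepByAlgSpWith P f) :
    AlgSt.RepByAlgSpWith P f' :=
  fun U y => (h U y).elim fun F hF => hF.elim fun e he =>
    RepFst.of_equiv (isEquivOver_fpCongr (Iso.refl y) α) (Iso.refl _) ⟨F, e, he.1, he.2⟩

theorem repWith_fpFst (f : 𝒳 ⥤ᵇ 𝒴) (g : 𝒵 ⥤ᵇ 𝒴) (h : AlgSt.RepByAlgSpWith P f) :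
    AlgSt.RepByAlgSpWith P (FibCat.fpFst g f) :=
  fun U y => RepFst.of_equiv (isEquivOver_fpUnpaste y g f) (Iso.refl _) (h U (BasedFunctor.comp y g))

theorem repWith_fpSnd (f : 𝒳 ⥤ᵇ 𝒴) (g : 𝒵 ⥤ᵇ 𝒴) (h : AlgSt.RepByAlgSpWith P f) :
    AlgSt.RepByAlgSpWith P (FibCat.fpSnd f g) := by
  intro U y
  refine RepFst.of_equiv (π := FibCat.fpFst y (FibCat.fpFst g f))
    (E := BasedFunctor.comp (fpPre (BasedFunctor.id _) (fpSwap g f) y (FibCat.fpSnd f g)) (BasedFunctor.id _))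
    ?_ (Iso.refl _) (repWith_fpFst f g h U y)
  exact isEquivOver_fpPre (isEquivOver_id _) (isEquivOver_fpSwap g f) _ _

theorem repByAlgSp1_fpFst (f : 𝒳 ⥤ᵇ 𝒴) (g : 𝒵 ⥤ᵇ 𝒴) (h : AlgSt.RepByAlgSp1 f) :
    AlgSt.RepByAlgSp1 (FibCat.fpFst g f) :=
  repWith_repByAlgSp1 (repWith_fpFst f g ((repWith_top_iff f).2 h))

theorem repByAlgSp1_of_iso {f f' : 𝒳 ⥤ᵇ 𝒴} (α : f ≅ f') (h : AlgSt.RepByAlgSp1 f) :
    AlgSt.RepByAlgSp1 f' :=
  repWith_repByAlgSp1 (repWith_of_iso α ((repWith_top_iff f).2 h))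

/-- Pre-composition with an equivalence. -/
theorem repWith_precomp_equiv {a : 𝒳 ⥤ᵇ 𝒴} (ha : FibCat.IsEquivOver a) (f : 𝒴 ⥤ᵇ 𝒵) :
    AlgSt.RepByAlgSpWith P (BasedFunctor.comp a f) ↔ AlgSt.RepByAlgSpWith P f := by
  have key : ∀ (U : Over S) (y : FibCat.overCat U ⥤ᵇ 𝒵),
      FibCat.IsEquivOver (fpPre (BasedFunctor.id _) a y f) :=
    fun U y => isEquivOver_fpPre (isEquivOver_id _) ha y f
  constructor
  · exact fun h U y => RepFst.of_equiv (key U y) (Iso.refl _) (h U y)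
  · intro h U y
    obtain ⟨G, hG, -, ⟨b⟩⟩ := isEquivOver_symm (key U y)
    exact RepFst.of_equiv hG (whiskerRightIso b (FibCat.fpFst y f)) (h U y)

/-- Post-composition with an equivalence. -/
theorem repWith_postcomp_equiv (f : 𝒳 ⥤ᵇ 𝒴) {b : 𝒴 ⥤ᵇ 𝒵} (hb : FibCat.IsEquivOver b) :
    AlgSt.RepByAlgSpWith P (BasedFunctor.comp f b) ↔ AlgSt.RepByAlgSpWith P f := by
  have := full_of_isEquivOver hb
  have := faithful_of_isEquivOver hb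
  have key : ∀ (U : Over S) (y : FibCat.overCat U ⥤ᵇ 𝒴),
      FibCat.IsEquivOver (fpPost y f b) := fun U y => isEquivOver_fpPost y f b
  obtain ⟨b', -, ⟨β'⟩, ⟨β⟩⟩ := isEquivOver_symm hb
  constructor
  · intro h U y
    obtain ⟨G, hG, -, ⟨c⟩⟩ := isEquivOver_symm (key U y)
    exact RepFst.of_equiv hG (whiskerRightIso c (FibCat.fpFst _ _)) (h U (BasedFunctor.comp y b))
  · intro h U z
    refine RepFst.of_equiv (E := BasedFunctor.comp (fpPost (BasedFunctor.comp z b') f b)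
      (fpCongr (whiskerLeftIso z β) (Iso.refl (BasedFunctor.comp f b)))) ?_ (Iso.refl _)
      (h U (BasedFunctor.comp z b'))
    exact isEquivOver_comp (key U _) (isEquivOver_fpCongr _ _)

end RepWith

section Transfer

variable {P : MorphismProperty (AlgSp.Sp S)} {𝒳 : BasedCategory.{v₁, w₁} (Over S)}
  {𝒴 : BasedCategory.{v₂, w₂} (Over S)} {𝒳' : BasedCategory.{v₃, w₃} (Over S)}
  {𝒴' : BasedCategory.{v₄, w₄} (Over S)}

/-- Invariance under equivalence of arrows. -/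
theorem repWith_iff_of_square {f : 𝒳 ⥤ᵇ 𝒴} {f' : 𝒳' ⥤ᵇ 𝒴'} {a : 𝒳' ⥤ᵇ 𝒳} {b : 𝒴' ⥤ᵇ 𝒴}
    (ha : FibCat.IsEquivOver a) (hb : FibCat.IsEquivOver b)
    (e : BasedFunctor.comp f' b ≅ BasedFunctor.comp a f) :
    AlgSt.RepByAlgSpWith P f ↔ AlgSt.RepByAlgSpWith P f' := by
  rw [← repWith_precomp_equiv ha f, ← repWith_postcomp_equiv f' hb]
  exact ⟨repWith_of_iso e.symm, repWith_of_iso e⟩

theorem repByAlgSp1_iff_of_square {f : 𝒳 ⥤ᵇ 𝒴} {f' : 𝒳' ⥤ᵇ 𝒴'} {a : 𝒳' ⥤ᵇ 𝒳} {b : 𝒴' ⥤ᵇ 𝒴}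
    (ha : FibCat.IsEquivOver a) (hb : FibCat.IsEquivOver b)
    (e : BasedFunctor.comp f' b ≅ BasedFunctor.comp a f) :
    AlgSt.RepByAlgSp1 f ↔ AlgSt.RepByAlgSp1 f' := by
  rw [← repWith_top_iff, ← repWith_top_iff]
  exact repWith_iff_of_square ha hb e

end Transfer

end Groth.AlgStBasic
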