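import Groth.Agent.AlgStBasic.SpaceCalc

/-!
# Calculus of functors representable by algebraic spaces
-/

set_option autoImplicit false
set_option backward.isDefEq.respectTransparency false
set_option backward.isDefEq.respectTransparency.types false

universe v₆ u₆ v₅ u₅ v₄ u₄ v₃ u₃ v₂ u₂ v' u' u

open CategoryTheory CategoryTheory.Limits AlgebraicGeometry Opposite
open Groth.StkBase

namespace Groth.StkBase

variable {C : Type u'} [Category.{v'} C]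
variable {𝒜 : BasedCategory.{v₄, u₄} C} {ℬ : BasedCategory.{v₅, u₅} C}
variable {𝒳 : BasedCategory.{v₃, u₃} C} {𝒵 : BasedCategory.{v₆, u₆} C}

theorem fp_iso_eq_of_iso_diag (g : 𝒳 ⥤ᵇ 𝒵) {p : (FibCat.fp g g).obj} {c : 𝒳.obj}
    (e : p ≅ (FibCat.diag g).obj c) :
    p.obj.iso.hom = g.map e.hom.hom.fst ≫ g.map e.inv.hom.snd := by
  have w : g.map e.hom.hom.fst ≫ 𝟙 _ = p.obj.iso.hom ≫ g.map e.hom.hom.snd := e.hom.hom.w
  have h : e.hom.hom.snd ≫ e.inv.hom.snd = 𝟙 _ := congrArg (fun t => t.hom.snd) e.hom_inv_id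
  rw [Category.comp_id] at w
  have h' : g.map e.hom.hom.snd ≫ g.map e.inv.hom.snd = 𝟙 _ :=
    (g.toFunctor.map_comp _ _).symm.trans ((congrArg g.map h).trans (g.toFunctor.map_id _))
  rw [w, Category.assoc, h', Category.comp_id]

/-- The magic square over a base: `𝒜 ×_𝒳 ℬ` as base change of the diagonal of `g : 𝒳 ⟶ 𝒵`. -/
def diagFp' (x : 𝒜 ⥤ᵇ 𝒳) (y : ℬ ⥤ᵇ 𝒳) (g : 𝒳 ⥤ᵇ 𝒵) :
    FibCat.fp x y ⥤ᵇ FibCat.fp (fpPre x y g g) (FibCat.diag g) :=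
  FibCat.fpLift
    (FibCat.fpLift (FibCat.fpFst x y) (FibCat.fpSnd x y) (whiskerRightIso (FibCat.fpIso x y) g))
    (BasedFunctor.comp (FibCat.fpFst x y) x)
    (fpIsoMk (Iso.refl _) (FibCat.fpIso x y).symm fun a => by
      show g.map (𝟙 _) ≫ 𝟙 _ = g.map a.obj.iso.hom ≫ g.map a.obj.iso.inv
      rw [← g.toFunctor.map_comp, Iso.hom_inv_id]
      simp)

theorem isEquivOver_diagFp' (x : 𝒜 ⥤ᵇ 𝒳) (y : ℬ ⥤ᵇ 𝒳) (g : 𝒳 ⥤ᵇ 𝒵) :
    FibCat.IsEquivOver (diagFp' x y g) := by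
  let P := fpPre x y g g
  let D := FibCat.diag g
  refine ⟨FibCat.fpLift (BasedFunctor.comp (FibCat.fpFst P D) (FibCat.fpFst _ _))
    (BasedFunctor.comp (FibCat.fpFst P D) (FibCat.fpSnd _ _))
    ((whiskerRightIso (FibCat.fpIso P D) (FibCat.fpFst _ _)).trans
      (whiskerRightIso (FibCat.fpIso P D) (FibCat.fpSnd _ _)).symm),
    ⟨fpIsoMk (Iso.refl _) (Iso.refl _) fun a => ?_⟩,
    ⟨fpIsoMk
      (fpIsoMk (isoMk (fun a => Iso.refl _) ?_ fun a => isVert_id _)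
        (isoMk (fun a => Iso.refl _) ?_ fun a => isVert_id _) fun a => ?_)
      (isoMk (fun a => isoApp (whiskerRightIso (FibCat.fpIso P D) (FibCat.fpFst _ _)) a) ?_
        fun a => isVert_isoApp _ a) fun a => ?_⟩⟩
  · simp [diagFp', P, D]; exact (Category.id_comp _).symm
  · intro a b φ; simp; rfl
  · intro a b φ; simp; rfl
  · have := fp_iso_eq_of_iso_diag g a.obj.iso
    simp [diagFp', P, D]
    exact this
  · intro a b φ; exact isoApp_naturality _ φ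
  · simp [diagFp', P, D]
    apply fp_hom_ext
    · show x.map (𝟙 _) ≫ a.obj.iso.hom.hom.fst = 𝟙 _ ≫ a.obj.iso.hom.hom.fst
      simp
    · show y.map (𝟙 _) ≫ a.obj.iso.hom.hom.snd = _
      simp
      show _ = (a.obj.iso.hom.hom.snd ≫ a.obj.iso.inv.hom.fst) ≫ a.obj.iso.hom.hom.fst
      have h : a.obj.iso.inv.hom.fst ≫ a.obj.iso.hom.hom.fst = 𝟙 _ :=
        congrArg (fun t => t.hom.fst) a.obj.iso.inv_hom_id
      simp only [Category.assoc]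
      erw [h, Category.comp_id]

/-- `fpPre a id` is a base change of `a`. -/
theorem nonempty_fpPre_left_iso (a : 𝒜 ⥤ᵇ 𝒳) (f : 𝒳 ⥤ᵇ 𝒵) (g : ℬ ⥤ᵇ 𝒵) :
    Nonempty (BasedFunctor.comp (fpUnpaste a f g) (FibCat.fpSnd a (FibCat.fpFst f g))
      ≅ fpPre a (BasedFunctor.id ℬ) f g) :=
  ⟨fpIsoMk (Iso.refl _) (Iso.refl _) fun z => by simp [fpPre, fpUnpaste]⟩

/-- A graph is a base change of the diagonal. -/
theorem nonempty_fpPre_swap_iso (b : ℬ ⥤ᵇ 𝒳) (f : 𝒜 ⥤ᵇ 𝒵) (g : 𝒳 ⥤ᵇ 𝒵) :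
    Nonempty (BasedFunctor.comp (BasedFunctor.comp (fpSwap f (BasedFunctor.comp b g))
      (fpPre b (BasedFunctor.id 𝒜) g f)) (fpSwap g f) ≅ fpPre (BasedFunctor.id 𝒜) b f g) :=
  ⟨fpIsoMk (Iso.refl _) (Iso.refl _) fun z => by simp [fpPre, fpSwap]⟩

end Groth.StkBase

namespace Groth.AlgStBasic

variable {S : Scheme.{u}} {𝒳 𝒴 𝒵 𝒳' 𝒴' : AlgSt.Cat S}

theorem repByAlgSp1_comp (hX : FibCat.IsFibGrpd 𝒳.p) (hY : FibCat.IsFibGrpd 𝒴.p)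
    {f : 𝒳 ⥤ᵇ 𝒴} {g : 𝒴 ⥤ᵇ 𝒵} (hf : AlgSt.RepByAlgSp1 f) (hg : AlgSt.RepByAlgSp1 g) :
    AlgSt.RepByAlgSp1 (BasedFunctor.comp f g) := by
  intro U z
  have h1 := repByAlgSp_fp hX hY f (FibCat.fpSnd z g) hf (hg U z)
  refine repByAlgSp_of_equiv ?_ h1 (e := BasedFunctor.comp
    (BasedFunctor.comp (fpSwap _ _) (BasedFunctor.comp
      (fpPre (BasedFunctor.id _) (fpSwap z g) f (FibCat.fpFst g z)) (fpPaste f g z)))
    (fpSwap (BasedFunctor.comp f g) z))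
  exact isEquivOver_comp (isEquivOver_comp (isEquivOver_fpSwap _ _) (isEquivOver_comp
    (isEquivOver_fpPre (isEquivOver_id _) (isEquivOver_fpSwap z g) _ _) (isEquivOver_fpPaste f g z)))
    (isEquivOver_fpSwap _ _)

theorem repByAlgSp1_of_comp (hY : FibCat.IsFibGrpd 𝒴.p) (hZ : FibCat.IsFibGrpd 𝒵.p)
    {f : 𝒳 ⥤ᵇ 𝒴} {g : 𝒴 ⥤ᵇ 𝒵} (hgf : AlgSt.RepByAlgSp1 (BasedFunctor.comp f g))
    (hΔ : AlgSt.RepByAlgSp1 (FibCat.diag g)) : AlgSt.RepByAlgSp1 f := by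
  intro U y
  obtain ⟨E, hE, -⟩ := isEquivOver_symm (isEquivOver_diagFp' y f g)
  exact repByAlgSp_of_equiv hE (repByAlgSp_fp hY (isFibGrpd_fp hY hY hZ) _ (fpPre y f g g) hΔ
    (hgf U (BasedFunctor.comp y g)))

/-- The diagonal of a functor representable by algebraic spaces is representable by algebraic spaces. -/
theorem repByAlgSp1_diag {f : 𝒳 ⥤ᵇ 𝒴} (hf : AlgSt.RepByAlgSp1 f) : AlgSt.RepByAlgSp1 (FibCat.diag f) := by
  intro U y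
  let x₁ := BasedFunctor.comp y (FibCat.fpFst f f)
  let x₂ := BasedFunctor.comp y (FibCat.fpSnd f f)
  let Q := FibCat.fp (BasedFunctor.comp x₁ f) f
  let s₁ : FibCat.overCat U ⥤ᵇ Q := FibCat.fpLift (BasedFunctor.id _) x₁ (Iso.refl _)
  let s₂ : FibCat.overCat U ⥤ᵇ Q :=
    FibCat.fpLift (BasedFunctor.id _) x₂ (whiskerLeftIso y (FibCat.fpIso f f))
  have hQ : AlgSt.RepByAlgSp Q := hf U (BasedFunctor.comp x₁ f)
  have h := repByAlgSp1_of_repByAlgSp (repByAlgSp_overCat U) hQ s₂ U s₁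
  let F := FibCat.fpFst s₁ s₂
  let G := FibCat.fpSnd s₁ s₂
  let E : FibCat.fp s₁ s₂ ⥤ᵇ FibCat.fp y (FibCat.diag f) :=
    FibCat.fpLift F (BasedFunctor.comp F x₁) (fpIsoMk (Iso.refl _)
      ((whiskerRightIso (whiskerRightIso (FibCat.fpIso s₁ s₂) (FibCat.fpFst _ _)) x₂).trans
        (whiskerRightIso (FibCat.fpIso s₁ s₂) (FibCat.fpSnd _ _)).symm) fun a => ?_)
  · refine repByAlgSp_of_equiv (e := E) ?_ h
    refine ⟨FibCat.fpLift (FibCat.fpFst _ _) (FibCat.fpFst _ _) (fpIsoMk (Iso.refl _)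
        ((whiskerRightIso (FibCat.fpIso y (FibCat.diag f)) (FibCat.fpFst f f)).trans
          (whiskerRightIso (FibCat.fpIso y (FibCat.diag f)) (FibCat.fpSnd f f)).symm) fun a => ?_),
      ⟨fpIsoMk (Iso.refl _) (whiskerRightIso (FibCat.fpIso s₁ s₂) (FibCat.fpFst _ _)) fun a => ?_⟩,
      ⟨fpIsoMk (Iso.refl _)
        (whiskerRightIso (FibCat.fpIso y (FibCat.diag f)) (FibCat.fpFst f f)) fun a => ?_⟩⟩
    · simp [s₁, s₂, x₁, x₂]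
      exact fp_iso_eq_of_iso_diag f a.obj.iso
    · simp [s₁, s₂, x₁, x₂]
      apply fp_hom_ext
      · exact (Category.id_comp _).symm
      · show a.obj.iso.hom.hom.snd = (𝟙 _ ≫ a.obj.iso.hom.hom.snd ≫ x₂.map a.obj.iso.inv.hom.fst) ≫
          x₂.map a.obj.iso.hom.hom.fst
        have h : a.obj.iso.inv.hom.fst ≫ a.obj.iso.hom.hom.fst = 𝟙 _ :=
          congrArg (fun t => t.hom.fst) a.obj.iso.inv_hom_id
        have h' : x₂.map a.obj.iso.inv.hom.fst ≫ x₂.map a.obj.iso.hom.hom.fst = 𝟙 _ :=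
          (x₂.toFunctor.map_comp _ _).symm.trans ((congrArg x₂.map h).trans (x₂.toFunctor.map_id _))
        rw [Category.id_comp, Category.assoc]
        erw [h', Category.comp_id]
    · simp [s₁, s₂, x₁, x₂]
      apply fp_hom_ext
      · exact (Category.id_comp _).symm
      · show a.obj.iso.hom.hom.snd = (x₂.map (𝟙 _) ≫ a.obj.iso.hom.hom.snd ≫ a.obj.iso.inv.hom.fst) ≫
          a.obj.iso.hom.hom.fst
        have h : a.obj.iso.inv.hom.fst ≫ a.obj.iso.hom.hom.fst = 𝟙 _ :=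
          congrArg (fun t => t.hom.fst) a.obj.iso.inv_hom_id
        rw [x₂.toFunctor.map_id, Category.id_comp, Category.assoc]
        erw [h, Category.comp_id]
  · simp [F, s₁, s₂, x₁, x₂]
    have w : f.map (x₁.map a.obj.iso.hom.hom.fst) ≫ (y.obj a.obj.snd).obj.iso.hom
        = 𝟙 _ ≫ f.map a.obj.iso.hom.hom.snd := a.obj.iso.hom.hom.w
    have wy : f.map (x₁.map a.obj.iso.hom.hom.fst) ≫ (y.obj a.obj.snd).obj.iso.hom
        = (y.obj a.obj.fst).obj.iso.hom ≫ f.map (x₂.map a.obj.iso.hom.hom.fst) :=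
      (y.map a.obj.iso.hom.hom.fst).hom.w
    have h : a.obj.iso.hom.hom.snd ≫ a.obj.iso.inv.hom.snd = 𝟙 _ :=
      congrArg (fun t => t.hom.snd) a.obj.iso.hom_inv_id
    show 𝟙 _ = (y.obj a.obj.fst).obj.iso.hom ≫ f.map (x₂.map a.obj.iso.hom.hom.fst) ≫
      f.map a.obj.iso.inv.hom.snd
    rw [← Category.assoc, ← wy, w, Category.id_comp]
    exact (f.toFunctor.map_id _).symm.trans ((congrArg f.map h.symm).trans (f.toFunctor.map_comp _ _))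

theorem repByAlgSp1_fpSnd (f : 𝒳 ⥤ᵇ 𝒴) (g : 𝒵 ⥤ᵇ 𝒴) (h : AlgSt.RepByAlgSp1 f) :
    AlgSt.RepByAlgSp1 (FibCat.fpSnd f g) :=
  repWith_repByAlgSp1 (repWith_fpSnd f g ((repWith_top_iff f).2 h))

theorem repByAlgSp1_diag_of_repByAlgSp1 (hX : FibCat.IsFibGrpd 𝒳.p) (hY : FibCat.IsFibGrpd 𝒴.p)
    {j : 𝒳 ⥤ᵇ 𝒴} (hj : AlgSt.RepByAlgSp1 j)
    (h : AlgSt.RepByAlgSp1 (FibCat.diag (FibCat.toSelf 𝒴))) :
    AlgSt.RepByAlgSp1 (FibCat.diag (FibCat.toSelf 𝒳)) :=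
  (repByAlgSp1_diag_iff hX).2 fun U x => repByAlgSp1_of_comp hX hY
    ((repByAlgSp1_diag_iff hY).1 h U (BasedFunctor.comp x j)) (repByAlgSp1_diag hj)

theorem repByAlgSp1_fpPre_left (a : 𝒳' ⥤ᵇ 𝒳) (f : 𝒳 ⥤ᵇ 𝒵) (g : 𝒴 ⥤ᵇ 𝒵) (ha : AlgSt.RepByAlgSp1 a) :
    AlgSt.RepByAlgSp1 (fpPre a (BasedFunctor.id 𝒴) f g) :=
  repByAlgSp1_of_iso (nonempty_fpPre_left_iso a f g).some
    ((repByAlgSp1_precomp_iff (isEquivOver_fpUnpaste a f g) _).2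
      (repByAlgSp1_fpSnd a (FibCat.fpFst f g) ha))

theorem repByAlgSp1_fpPre (hX' : FibCat.IsFibGrpd 𝒳'.p) (hX : FibCat.IsFibGrpd 𝒳.p)
    (hY' : FibCat.IsFibGrpd 𝒴'.p) (hZ : FibCat.IsFibGrpd 𝒵.p)
    (a : 𝒳' ⥤ᵇ 𝒳) (b : 𝒴' ⥤ᵇ 𝒴) (f : 𝒳 ⥤ᵇ 𝒵) (g : 𝒴 ⥤ᵇ 𝒵)
    (ha : AlgSt.RepByAlgSp1 a) (hb : AlgSt.RepByAlgSp1 b) : AlgSt.RepByAlgSp1 (fpPre a b f g) := by
  have h2 : AlgSt.RepByAlgSp1 (fpPre (BasedFunctor.id 𝒳) b f g) :=
    repByAlgSp1_of_iso (nonempty_fpPre_swap_iso b f g).some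
      ((repByAlgSp1_postcomp_iff _ (isEquivOver_fpSwap g f)).2
        ((repByAlgSp1_precomp_iff (isEquivOver_fpSwap f (BasedFunctor.comp b g)) _).2
          (repByAlgSp1_fpPre_left b g f hb)))
  exact repByAlgSp1_of_iso
    (fpIsoMk (Iso.refl _) (Iso.refl _) fun z => by simp [fpPre])
    (repByAlgSp1_comp (isFibGrpd_fp hX' hY' hZ) (isFibGrpd_fp hX hY' hZ)
      (repByAlgSp1_fpPre_left a f (BasedFunctor.comp b g) ha) h2)

theorem repByAlgSp1_diag_prod (hX : FibCat.IsFibGrpd 𝒳.p) (hY : FibCat.IsFibGrpd 𝒴.p)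
    (dX : AlgSt.RepByAlgSp1 (FibCat.diag (FibCat.toSelf 𝒳)))
    (dY : AlgSt.RepByAlgSp1 (FibCat.diag (FibCat.toSelf 𝒴))) :
    AlgSt.RepByAlgSp1 (FibCat.diag (FibCat.toSelf (FibCat.fp (FibCat.toSelf 𝒳) (FibCat.toSelf 𝒴)))) := by
  refine (repByAlgSp1_diag_iff (isFibGrpd_fp hX hY isFibGrpd_selfOver)).2 fun U x => ?_
  let a := BasedFunctor.comp x (FibCat.fpFst _ _)
  let b := BasedFunctor.comp x (FibCat.fpSnd _ _)
  let Δ := FibCat.diag (FibCat.toSelf (FibCat.overCat U))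
  have hΔ : AlgSt.RepByAlgSp1 Δ :=
    repByAlgSp1_of_repByAlgSp (repByAlgSp_overCat U) (repByAlgSp_prod_overCat U U) _
  let γ := fpCongr (selfIso (FibCat.toSelf (FibCat.overCat U)) (BasedFunctor.comp a (FibCat.toSelf 𝒳)))
    (selfIso (FibCat.toSelf (FibCat.overCat U)) (BasedFunctor.comp b (FibCat.toSelf 𝒴)))
  have hP : AlgSt.RepByAlgSp1 (BasedFunctor.comp γ
      (fpPre a b (FibCat.toSelf 𝒳) (FibCat.toSelf 𝒴))) :=
    (repByAlgSp1_precomp_iff (isEquivOver_fpCongr _ _) _).2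
      (repByAlgSp1_fpPre (isFibGrpd_overCat U) hX (isFibGrpd_overCat U) isFibGrpd_selfOver a b _ _
        ((repByAlgSp1_diag_iff hX).1 dX U a) ((repByAlgSp1_diag_iff hY).1 dY U b))
  have α : BasedFunctor.comp Δ (BasedFunctor.comp γ
      (fpPre a b (FibCat.toSelf 𝒳) (FibCat.toSelf 𝒴))) ≅ x :=
    fpIsoMk (Iso.refl _) (Iso.refl _) fun _ => self_ext ((isVert_map (isVert_id _)).comp (fp_isVert _))
      ((fp_isVert _).comp (isVert_map (isVert_id _)))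
  exact repByAlgSp1_of_iso α
    (repByAlgSp1_comp (isFibGrpd_overCat U) (isFibGrpd_selfProd (isFibGrpd_overCat U)) hΔ hP)

/-- The canonical functor from a 2-fibre product to the product. -/
def fpToProd (f : 𝒳 ⥤ᵇ 𝒵) (g : 𝒴 ⥤ᵇ 𝒵) :
    FibCat.fp f g ⥤ᵇ FibCat.fp (FibCat.toSelf 𝒳) (FibCat.toSelf 𝒴) :=
  FibCat.fpLift (FibCat.fpFst f g) (FibCat.fpSnd f g) (selfIso _ _)

theorem repByAlgSp1_fpToProd (f : 𝒳 ⥤ᵇ 𝒵) (g : 𝒴 ⥤ᵇ 𝒵)
    (h : AlgSt.RepByAlgSp1 (FibCat.diag (FibCat.toSelf 𝒵))) : AlgSt.RepByAlgSp1 (fpToProd f g) :=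
  (repByAlgSp1_precomp_iff (isEquivOver_diagFp f g) _).2 (repByAlgSp1_fpFst _ _ h)

theorem repByAlgSp1_diag_of_diag (hY : FibCat.IsFibGrpd 𝒴.p) (hZ : FibCat.IsFibGrpd 𝒵.p)
    (dY : AlgSt.RepByAlgSp1 (FibCat.diag (FibCat.toSelf 𝒴)))
    (dZ : AlgSt.RepByAlgSp1 (FibCat.diag (FibCat.toSelf 𝒵))) (g : 𝒴 ⥤ᵇ 𝒵) :
    AlgSt.RepByAlgSp1 (FibCat.diag g) :=
  repByAlgSp1_of_comp (isFibGrpd_fp hY hY hZ) (isFibGrpd_selfProd hY) (g := fpToProd g g)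
    (repByAlgSp1_of_iso (fpIsoMk (Iso.refl _) (Iso.refl _) fun _ =>
      self_ext ((isVert_map (isVert_id _)).comp (fp_isVert _))
        ((fp_isVert _).comp (isVert_map (isVert_id _)))) dY)
    (repByAlgSp1_diag (repByAlgSp1_fpToProd g g dZ))

theorem repByAlgSp1_diag_fp (hX : FibCat.IsFibGrpd 𝒳.p) (hY : FibCat.IsFibGrpd 𝒴.p)
    (hZ : FibCat.IsFibGrpd 𝒵.p)
    (dX : AlgSt.RepByAlgSp1 (FibCat.diag (FibCat.toSelf 𝒳)))
    (dY : AlgSt.RepByAlgSp1 (FibCat.diag (FibCat.toSelf 𝒴)))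
    (dZ : AlgSt.RepByAlgSp1 (FibCat.diag (FibCat.toSelf 𝒵))) (f : 𝒳 ⥤ᵇ 𝒵) (g : 𝒴 ⥤ᵇ 𝒵) :
    AlgSt.RepByAlgSp1 (FibCat.diag (FibCat.toSelf (FibCat.fp f g))) :=
  repByAlgSp1_diag_of_repByAlgSp1 (isFibGrpd_fp hX hY hZ) (isFibGrpd_fp hX hY isFibGrpd_selfOver)
    (repByAlgSp1_fpToProd f g dZ) (repByAlgSp1_diag_prod hX hY dX dY)

end Groth.AlgStBasic
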