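import Groth.Agent.AlgStBasic.SetoidSpace
import Groth.Agent.AlgStBasic.MonoCalc
import Groth.Agent.AlgStBasic.LocalLift
import Groth.Agent.AlgStBasic.Inertia
import Groth.Agent.AlgSpBasic.SepMono

/-!
# Criteria for representability by algebraic spaces
-/

set_option autoImplicit false
set_option backward.isDefEq.respectTransparency false
set_option backward.isDefEq.respectTransparency.types false

universe v₃ u₃ v₂ u₂ v u' u

open CategoryTheory CategoryTheory.Limits AlgebraicGeometry Opposite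

namespace Groth.StkBase

variable {C : Type u'} [Category.{v} C] {𝒳 : BasedCategory.{v₂, u₂} C}
  {𝒴 : BasedCategory.{v₃, u₃} C}

/-- Faithfulness is triviality of the automorphisms killed by the functor. -/
theorem faithful_iff_kernel (hX : FibCat.IsFibGrpd 𝒳.p) (hY : FibCat.IsFibGrpd 𝒴.p) (f : 𝒳 ⥤ᵇ 𝒴) :
    f.toFunctor.Faithful ↔ ∀ (a : 𝒳.obj) (φ : a ⟶ a),
      𝒳.p.map φ = 𝟙 (𝒳.p.obj a) → f.map φ = 𝟙 (f.obj a) → φ = 𝟙 a := by
  refine ⟨fun h a φ _ h₂ => h.map_injective (h₂.trans (f.toFunctor.map_id a).symm), fun h => ?_⟩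
  refine faithful_of_vert hX hY f fun a b χ χ' hχ hχ' e => ?_
  have := hχ'.isIso hX
  have hv : IsVert 𝒳.p (χ ≫ inv χ') := hχ.comp (IsVert.inv (φ := asIso χ') hχ')
  have h1 := h a (χ ≫ inv χ') (hv.map_eq.trans (eqToHom_refl _ _)) (by
    rw [Functor.map_comp, e, ← Functor.map_comp, IsIso.hom_inv_id]
    exact f.toFunctor.map_id a)
  calc χ = (χ ≫ inv χ') ≫ χ' := by simp
    _ = χ' := by rw [h1, Category.id_comp]

theorem faithful_of_diag_full (hX : FibCat.IsFibGrpd 𝒳.p) (hY : FibCat.IsFibGrpd 𝒴.p) (f : 𝒳 ⥤ᵇ 𝒴)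
    [(FibCat.diag f).toFunctor.Full] : f.toFunctor.Faithful := by
  rw [faithful_iff_kernel hX hY]
  intro a φ _ h₂
  obtain ⟨g, hg⟩ := (FibCat.diag f).toFunctor.map_surjective
    (fpHom φ (𝟙 a) (by rw [h₂]; simp [FibCat.diag]) : (FibCat.diag f).obj a ⟶ (FibCat.diag f).obj a)
  have h₃ : g = φ := congrArg (fun t => t.hom.fst) hg
  have h₄ : g = 𝟙 a := congrArg (fun t => t.hom.snd) hg
  exact h₃.symm.trans h₄

/-- The projection of the inertia is an equivalence exactly when the kernel is trivial. -/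
theorem isEquivOver_inertiaToBase_iff (hX : FibCat.IsFibGrpd 𝒳.p) (f : 𝒳 ⥤ᵇ 𝒴) :
    FibCat.IsEquivOver (FibCat.inertiaToBase f) ↔ ∀ (a : 𝒳.obj) (φ : a ⟶ a),
      𝒳.p.map φ = 𝟙 (𝒳.p.obj a) → f.map φ = 𝟙 (f.obj a) → φ = 𝟙 a := by
  constructor
  · intro h a φ h₁ h₂
    have : IsIso φ := (show IsVert 𝒳.p φ from ⟨rfl, h₁.trans (eqToHom_refl _ _).symm⟩).isIso hX
    have := full_of_isEquivOver h
    let x : (FibCat.inertia f).obj := ⟨a, asIso φ, h₂⟩
    let y : (FibCat.inertia f).obj := ⟨a, Iso.refl a, f.toFunctor.map_id a⟩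
    obtain ⟨g, hg⟩ := (FibCat.inertiaToBase f).toFunctor.map_surjective (X := x) (Y := y) (𝟙 a)
    have hg' : g.hom = 𝟙 a := hg
    have := g.comm
    rw [hg'] at this
    simpa [x, y] using this
  · intro h
    refine isEquivOver_of_fullyFaithful _ ⟨fun {x y} g => ?_⟩ ⟨fun {x y} g g' e =>
      FibCat.InertiaObj.hom_ext e⟩ (fun y => ⟨⟨y, Iso.refl y, f.toFunctor.map_id y⟩, Iso.refl y, isVert_id _⟩)
    refine ⟨⟨g, ?_⟩, rfl⟩
    have hx : ∀ z : (FibCat.inertia f).obj, z.aut.hom = 𝟙 z.pt := fun z =>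
      h _ _ ((isVert_of_map (F := f) (by rw [z.map_aut]; exact isVert_id _)).map_eq.trans (eqToHom_refl _ _))
        z.map_aut
    rw [hx, hx, Category.id_comp, Category.comp_id]

theorem isEquivOver_inertiaToBase_iff_faithful (hX : FibCat.IsFibGrpd 𝒳.p)
    (hY : FibCat.IsFibGrpd 𝒴.p) (f : 𝒳 ⥤ᵇ 𝒴) :
    FibCat.IsEquivOver (FibCat.inertiaToBase f) ↔ f.toFunctor.Faithful :=
  (isEquivOver_inertiaToBase_iff hX f).trans (faithful_iff_kernel hX hY f).symm

/-- The second diagonal is an equivalence exactly when the functor is faithful. -/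
theorem isEquivOver_diag_diag_iff (hX : FibCat.IsFibGrpd 𝒳.p) (hY : FibCat.IsFibGrpd 𝒴.p)
    (f : 𝒳 ⥤ᵇ 𝒴) :
    FibCat.IsEquivOver (FibCat.diag (FibCat.diag f)) ↔ f.toFunctor.Faithful := by
  constructor
  · intro h
    rw [faithful_iff_kernel hX hY]
    intro a φ h₁ h₂
    have hv : IsVert 𝒳.p φ := ⟨rfl, h₁.trans (eqToHom_refl _ _).symm⟩
    have := hv.isIso hX
    let α : (FibCat.diag f).obj a ≅ (FibCat.diag f).obj a :=
      fpObjIso (asIso φ) (Iso.refl a) (by simp [FibCat.diag, h₂])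
    let y : (FibCat.fp (FibCat.diag f) (FibCat.diag f)).obj := fpMk a a α ((isVert_fp_iff α.hom).2 hv)
    have := isEquivalence_of_isEquivOver h
    obtain ⟨c, ⟨i⟩⟩ := (inferInstance : (FibCat.diag (FibCat.diag f)).toFunctor.EssSurj).mem_essImage y
    have w := i.hom.hom.w
    have w₁ := congrArg (fun t => t.hom.fst) w
    have w₂ := congrArg (fun t => t.hom.snd) w
    simp [y, α, FibCat.diag, fpMk, fpObjIso, fpHom] at w₁ w₂
    have : i.hom.hom.fst ≫ φ = i.hom.hom.fst ≫ 𝟙 a := by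
      rw [w₁, ← w₂]
      exact (Category.comp_id _).symm
    have : IsIso i.hom.hom.fst :=
      inferInstanceAs (IsIso ((FibCat.fpFst (FibCat.diag f) (FibCat.diag f)).toFunctor.map i.hom))
    exact (cancel_epi i.hom.hom.fst).1 (by assumption)
  · intro hf
    refine isEquivOver_of_fullyFaithful _ ⟨fun {a b} φ => ⟨φ.hom.fst, ?_⟩⟩
      ⟨fun {a b} φ ψ h => congrArg (fun t => t.hom.fst) h⟩ (fun y => ?_)
    · have w := congrArg (fun t => t.hom.fst) φ.hom.w
      simp [FibCat.diag] at w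
      exact fp_hom_ext rfl w
    · let β := (FibCat.fpFst f f).toFunctor.mapIso y.obj.iso
      let β' := (FibCat.fpSnd f f).toFunctor.mapIso y.obj.iso
      have hβ : β.hom = β'.hom := by
        apply f.toFunctor.map_injective
        have := y.obj.iso.hom.hom.w
        exact ((Category.comp_id _).symm.trans this).trans (Category.id_comp _)
      refine ⟨y.obj.fst, fpObjIso (Iso.refl _) β ?_, isVert_id _⟩
      apply fp_hom_ext
      · simp [FibCat.diag, β]
      · simp [FibCat.diag, hβ, β']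

theorem isFibSetoid_iff_faithful_toSelf (hX : FibCat.IsFibGrpd 𝒳.p) :
    FibCat.IsFibSetoid 𝒳.p ↔ (FibCat.toSelf 𝒳).toFunctor.Faithful := by
  refine ⟨fun h => ?_, fun h => ⟨hX, fun U a b => ⟨fun u v => Subtype.ext (h.map_injective ?_)⟩⟩⟩
  · refine (faithful_iff_kernel hX isFibGrpd_selfOver _).2 fun a φ h₁ _ => ?_
    have hv : IsVert 𝒳.p φ := ⟨rfl, h₁.trans (eqToHom_refl _ _).symm⟩
    exact congrArg Subtype.val ((h.2 (𝒳.p.obj a) ⟨a, rfl⟩ ⟨a, rfl⟩).elim ⟨φ, hv.isHomLift rfl⟩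
      ⟨𝟙 a, (isVert_id a).isHomLift rfl⟩)
  · have := u.2
    have := v.2
    exact (IsHomLift.fac' 𝒳.p (𝟙 U) u.1).trans (IsHomLift.fac' 𝒳.p (𝟙 U) v.1).symm

end Groth.StkBase

namespace Groth.AlgStBasic

open Groth.StkBase Groth.AlgSpBasic

variable {S : Scheme.{u}} {𝒳 𝒴 : AlgSt.Cat S}

theorem isMono_of_fullyFaithful (hX : AlgSt.IsAlgStack Scheme.fppfPrecoverage 𝒳)
    (hY : AlgSt.IsAlgStack Scheme.fppfPrecoverage 𝒴) (f : 𝒳 ⥤ᵇ 𝒴) [f.toFunctor.Full]
    [f.toFunctor.Faithful] : AlgSt.IsMono f :=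
  isMono_of_full_faithful f ((faithful_iff_repByAlgSp1 hX hY f).1 inferInstance)

theorem repByAlgSp1_of_isMono_diag (hX : AlgSt.IsAlgStack Scheme.fppfPrecoverage 𝒳)
    (hY : AlgSt.IsAlgStack Scheme.fppfPrecoverage 𝒴) (f : 𝒳 ⥤ᵇ 𝒴)
    (h : AlgSt.IsMono (FibCat.diag f)) : AlgSt.RepByAlgSp1 f := by
  have := (fullyFaithful_of_isMono hX.isStack.1 (isFibGrpd_fp hX.isStack.1 hX.isStack.1 hY.isStack.1)
    (FibCat.diag f) h).1
  exact (faithful_iff_repByAlgSp1 hX hY f).1 (faithful_of_diag_full hX.isStack.1 hY.isStack.1 f)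

/-- The diagonal of a functor representable by spaces is representable by schemes. -/
theorem isRepresentable1_diag (hX : AlgSt.IsAlgStack Scheme.fppfPrecoverage 𝒳)
    (hY : AlgSt.IsAlgStack Scheme.fppfPrecoverage 𝒴) {f : 𝒳 ⥤ᵇ 𝒴} (hf : AlgSt.RepByAlgSp1 f) :
    FibCat.IsRepresentable1 (FibCat.diag f) := by
  intro U z
  obtain ⟨F, e, he, hm⟩ := isMono_diag hX.isStack.1 hY.isStack.1 hf U z
  let m := AlgSt.spMapOfOver (BasedFunctor.comp e (FibCat.fpFst z (FibCat.diag f)))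
  have : Mono m := hm
  have hft : AlgSp.LocP (@LocallyOfFiniteType ⊓ @FormallyUnramified) m :=
    locP_unramified_of_mono F.property (AlgSp.IsAlgSpace.yon_obj U)
      (prop_of_repWith_fp stableBaseChange_locP (repWith_lft_diag hX hY f) z F e he)
  have hqf : AlgSp.LocP (@LocallyQuasiFinite ⊓ @LocallyOfFiniteType) m := by
    intro W X v w h hv hw comm
    obtain ⟨h₁, h₂⟩ := hft v w h hv hw comm
    have := h₁
    have := h₂
    exact ⟨Groth.AlgSpBasic.locallyQuasiFinite_of_formallyUnramified _, h₁⟩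
  obtain ⟨G, ⟨i⟩⟩ := exists_iso_of_lqf_of_mono F.property m m (fun a b h _ => (cancel_mono m).1 h) hqf
  let i' := (sheafToPresheaf (AlgSp.J S) (Type (u + 1))).mapIso i
  obtain ⟨E, hE, -⟩ := isEquivOver_symm (isEquivOver_comp (isEquivOver_ofOverCat G)
    (isEquivOver_comp (isEquivOver_ofPshMap i'.hom) he))
  exact ⟨G, E, hE⟩

end Groth.AlgStBasic
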