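import Groth.Agent.AlgStBasic.RepCriteria
import Groth.Agent.AlgStBasic.LocalLift
import Groth.Agent.AlgStBasic.Permanence
import Groth.Agent.StkBase.Descent2

/-!
# Descending representability along fppf covers of the target
-/

set_option autoImplicit false
set_option backward.isDefEq.respectTransparency false
set_option backward.isDefEq.respectTransparency.types false

universe v₃ u₃ v₂ u₂ v u' u

open CategoryTheory CategoryTheory.Limits AlgebraicGeometry Opposite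

namespace Groth.StkBase

variable {C : Type u'} [Category.{v} C] {𝒳 : BasedCategory.{v₂, u₂} C}
  {𝒴 : BasedCategory.{v₃, u₃} C}

theorem faithful_of_isFibSetoid (hX : FibCat.IsFibSetoid 𝒳.p) (hY : FibCat.IsFibGrpd 𝒴.p)
    (F : 𝒳 ⥤ᵇ 𝒴) : F.toFunctor.Faithful := by
  refine faithful_of_vert hX.1 hY F fun a b χ χ' hχ hχ' _ => ?_
  have := hχ.isHomLift (R := 𝒳.p.obj a) rfl
  have := hχ'.isHomLift (R := 𝒳.p.obj a) rfl
  let A : 𝒳.p.Fiber (𝒳.p.obj a) := ⟨a, rfl⟩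
  let B : 𝒳.p.Fiber (𝒳.p.obj a) := ⟨b, hχ.obj_eq.symm⟩
  exact congrArg Subtype.val ((hX.2 _ A B).allEq ⟨χ, inferInstanceAs (𝒳.p.IsHomLift (𝟙 _) χ)⟩ ⟨χ', inferInstanceAs (𝒳.p.IsHomLift (𝟙 _) χ')⟩)

end Groth.StkBase

namespace Groth.AlgStBasic

open Groth.StkBase

variable {S : Scheme.{u}} {𝒳 𝒴 𝒲 : AlgSt.Cat S}

/-- Objects lift fppf locally along a flat, locally finitely presented surjection, in terms of objects. -/
theorem exists_cover_homLift {w : 𝒲 ⥤ᵇ 𝒴} (hY : FibCat.IsFibGrpd 𝒴.p)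
    (h₁ : AlgSt.RepByAlgSpWith (AlgSp.LocP @Flat) w)
    (h₂ : AlgSt.RepByAlgSpWith (AlgSp.LocP @LocallyOfFinitePresentation) w)
    (h₃ : AlgSt.RepByAlgSpWith AlgSp.IsSurjectiveMor w) (y : 𝒴.obj) :
    ∃ R ∈ AlgSp.J S (𝒴.p.obj y), ∀ ⦃V : Over S⦄ (g : V ⟶ 𝒴.p.obj y), R g →
      ∃ (x : 𝒲.obj) (φ : w.obj x ⟶ y), 𝒴.p.IsHomLift g φ := by
  obtain ⟨R, hR, hR'⟩ := exists_lift_of_fppf_surjective h₁ h₂ h₃ _
    (overFunctor hY y (rfl : 𝒴.p.obj y = 𝒴.p.obj y))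
  refine ⟨R, hR, fun V g hg => ?_⟩
  obtain ⟨z, ⟨α⟩⟩ := hR' g hg
  obtain ⟨i, hi⟩ := overFunctor_eval hY y (rfl : 𝒴.p.obj y = 𝒴.p.obj y)
  let Y' := overFunctor hY y (rfl : 𝒴.p.obj y = 𝒴.p.obj y)
  let A := (BasedFunctor.comp (AlgSt.overMap g) Y').obj (idObj V)
  let ψ : A ⟶ y := Y'.map (toId _) ≫ i.hom
  have h0 : IsVert 𝒴.p (α.hom.toNatTrans.app (idObj V)) := isVert_app α.hom _
  refine ⟨z.obj (idObj V), α.hom.toNatTrans.app (idObj V) ≫ ψ, ?_⟩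
  refine IsHomLift.of_fac' 𝒴.p g _ ((w.w_obj _).trans (z.w_obj _)) rfl ?_
  rw [Functor.map_comp, h0.map_eq]
  simp only [ψ, Functor.map_comp, hi.map_eq]
  have := Functor.congr_hom Y'.w (toId ((AlgSt.overMap g).obj (idObj V)))
  simp only [Functor.comp_map] at this
  rw [this]
  simp [AlgSt.overMap]
  exact congrArg (eqToHom _ ≫ ·) (Category.id_comp g)

/-- Representability by algebraic spaces descends along fppf covers of the target. -/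
theorem repByAlgSp1_of_fp_cover (h𝒳 : AlgSt.IsAlgStack Scheme.fppfPrecoverage 𝒳)
    (h𝒴 : AlgSt.IsAlgStack Scheme.fppfPrecoverage 𝒴) (f : 𝒳 ⥤ᵇ 𝒴) (w : 𝒲 ⥤ᵇ 𝒴)
    (h𝒲 : FibCat.IsFibGrpd 𝒲.p)
    (hw₁ : AlgSt.RepByAlgSpWith (AlgSp.LocP @Flat) w)
    (hw₂ : AlgSt.RepByAlgSpWith (AlgSp.LocP @LocallyOfFinitePresentation) w)
    (hw₃ : AlgSt.RepByAlgSpWith AlgSp.IsSurjectiveMor w)
    (h : AlgSt.RepByAlgSp (FibCat.fp w f)) : AlgSt.RepByAlgSp1 f := by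
  have := faithful_of_isFibSetoid (isFibSetoid_of_repByAlgSp h) h𝒲 (FibCat.fpFst w f)
  have := faithful_of_faithful_fpFst (AlgSp.J S) w f (isPrestack_of_isStack h𝒳.isStack) h𝒴.isStack.1
    (exists_cover_homLift h𝒴.isStack.1 hw₁ hw₂ hw₃)
  exact (faithful_iff_repByAlgSp1 h𝒳 h𝒴 f).1 this

end Groth.AlgStBasic

namespace Groth.AlgStBasic

open Groth.StkBase

/-- A property local for fppf covers is detected on the base change to a covering space, without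
assuming representability. -/
theorem repWith_iff_exists_map_of_cover' {S : Scheme.{u}} {𝒳 𝒴 : AlgSt.Cat S}
    {P : MorphismProperty (AlgSp.Sp S)} (hb : StableBaseChange P)
    (hP : AlgSp.IsLocalOnBase AlgSp.IsFppfCover P)
    (h𝒳 : AlgSt.IsAlgStack Scheme.fppfPrecoverage 𝒳) (h𝒴 : AlgSt.IsAlgStack Scheme.fppfPrecoverage 𝒴)
    (f : 𝒳 ⥤ᵇ 𝒴) {W : AlgSp.Space S} {w : AlgSt.ofSp W.obj ⥤ᵇ 𝒴}
    (h₁ : AlgSt.RepByAlgSpWith (AlgSp.LocP @Flat) w)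
    (h₂ : AlgSt.RepByAlgSpWith (AlgSp.LocP @LocallyOfFinitePresentation) w)
    (h₃ : AlgSt.RepByAlgSpWith AlgSp.IsSurjectiveMor w) :
    AlgSt.RepByAlgSpWith P f ↔
      ∃ (V : AlgSp.Space S) (a : V ⟶ W) (e : AlgSt.ofSp V.obj ⥤ᵇ FibCat.fp w f),
        FibCat.IsEquivOver e ∧
          Nonempty (BasedFunctor.comp e (FibCat.fpFst w f) ≅ AlgSt.ofSpMap a.hom) ∧ P a.hom := by
  refine ⟨fun h => exists_map_of_repWith h𝒳.isStack.1 h𝒴.isStack.1 hb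
    (descendsAlongAtlas_of_isLocalOnBase hP) h W w, ?_⟩
  rintro ⟨V, a, e, he, ⟨β⟩, ha⟩
  exact (repWith_iff_exists_map_of_cover h𝒳.isStack.1 h𝒴.isStack.1 hb hP
    (repByAlgSp1_of_fp_cover h𝒳 h𝒴 f w (isFibSetoid_ofPsh _).1 h₁ h₂ h₃ ⟨V, e, he⟩) h₁ h₂ h₃).2
    ⟨V, a, e, he, ⟨β⟩, ha⟩

end Groth.AlgStBasic
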