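import Groth.Agent.AlgStBasic.Rep
import Groth.Agent.StkBase.Setoid
import Groth.Prelude.Def_AlgSpRep

/-!
# Representability by algebraic spaces: presheaves versus categories fibred in sets
-/

set_option autoImplicit false
set_option backward.isDefEq.respectTransparency false
set_option backward.isDefEq.respectTransparency.types false

universe w₁ v₁ w₂ v₂ u

open CategoryTheory CategoryTheory.Limits AlgebraicGeometry Opposite
open Groth.StkBase

namespace Groth.AlgStBasic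

variable {S : Scheme.{u}} {F G : AlgSp.PSp S}

/-- The functor from the slice over `U` determined by a map of presheaves out of `h_U`. -/
def overMapOf {U : Over S} (ξ : (AlgSp.pyon S).obj U ⟶ G) : FibCat.overCat U ⥤ᵇ Stk.ofPsh G :=
  BasedFunctor.comp (AlgSt.ofOverCat U) (Stk.ofPshMap ξ)

theorem exists_overMapOf {U : Over S} (y : FibCat.overCat U ⥤ᵇ Stk.ofPsh G) :
    ∃ ξ : (AlgSp.pyon S).obj U ⟶ G, Nonempty (overMapOf ξ ≅ y) := by
  obtain ⟨β⟩ := nonempty_iso_pshMapOf (P := (AlgSp.pyon S).obj U) (Q := G)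
    (BasedFunctor.comp (AlgSt.toOverCat U) y)
  exact ⟨_, ⟨whiskerLeftIso (AlgSt.ofOverCat U) β.symm⟩⟩

variable {a : F ⟶ G} {U : Over S} {ξ : (AlgSp.pyon S).obj U ⟶ G} {P : AlgSp.PSp S}
  {fst : P ⟶ (AlgSp.pyon S).obj U} {snd : P ⟶ F}

/-- The comparison functor from a pullback presheaf to the 2-fibre product over a scheme. -/
def fpOfMap (w : fst ≫ ξ = snd ≫ a) :
    Stk.ofPsh P ⥤ᵇ FibCat.fp (overMapOf ξ) (Stk.ofPshMap a) :=
  BasedFunctor.comp (pshFpLift w)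
    (fpPre (AlgSt.toOverCat U) (BasedFunctor.id _) (overMapOf ξ) (Stk.ofPshMap a))

theorem isEquivOver_fpOfMap (h : IsPullback fst snd ξ a) :
    FibCat.IsEquivOver (fpOfMap h.w) :=
  isEquivOver_comp (isEquivOver_pshFpLift h)
    (isEquivOver_fpPre (isEquivOver_toOverCat U) (isEquivOver_id _) _ _)

theorem fpOfMap_fst (w : fst ≫ ξ = snd ≫ a) :
    BasedFunctor.comp (fpOfMap w) (FibCat.fpFst (overMapOf ξ) (Stk.ofPshMap a))
      = BasedFunctor.comp (Stk.ofPshMap fst) (AlgSt.toOverCat U) := rfl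

theorem repFst_overMapOf {Q : MorphismProperty (AlgSp.Sp S)} (h : IsPullback fst snd ξ a)
    (hs : Presheaf.IsSheaf (AlgSp.J S) P) (hA : AlgSp.IsAlgSpace (⟨P, hs⟩ : AlgSp.Sp S))
    (hQ : Q (ObjectProperty.homMk fst : (⟨P, hs⟩ : AlgSp.Sp S) ⟶ (AlgSp.yon S).obj U)) :
    RepFst Q (FibCat.fpFst (overMapOf ξ) (Stk.ofPshMap a)) := by
  refine ⟨⟨⟨P, hs⟩, hA⟩, fpOfMap h.w, isEquivOver_fpOfMap h, ?_⟩
  convert hQ using 1
  apply ObjectProperty.hom_ext
  rw [spMapOfOver_hom_eq]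
  exact pshMapOf_ofPshMap fst

theorem repByAlgSpWith_ofPshMap {Q : MorphismProperty (AlgSp.Sp S)}
    (h : AlgSp.RepBySpWith Q a) : AlgSt.RepByAlgSpWith Q (Stk.ofPshMap a) := by
  intro U y
  obtain ⟨ξ, ⟨β⟩⟩ := exists_overMapOf y
  have sq := IsPullback.of_hasPullback a ξ
  obtain ⟨hs, hA, hQ⟩ := h ξ _ _ sq
  exact RepFst.of_equiv (isEquivOver_fpCongr β (Iso.refl _)) (Iso.refl _)
    (repFst_overMapOf sq.flip hs hA hQ)

theorem repByAlgSp1_ofPshMap (h : AlgSp.RepBySp a) : AlgSt.RepByAlgSp1 (Stk.ofPshMap a) :=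
  repWith_repByAlgSp1 (P := ⊤) (repByAlgSpWith_ofPshMap (Q := ⊤) fun _ ξ _ fst snd sq =>
    ⟨(h ξ fst snd sq).1, (h ξ fst snd sq).2, trivial⟩)

theorem repBySp_of_repByAlgSp1 (h : AlgSt.RepByAlgSp1 (Stk.ofPshMap a)) : AlgSp.RepBySp a := by
  intro U ξ P fst snd sq
  obtain ⟨X, e, he⟩ := h U (overMapOf ξ)
  obtain ⟨E', hE', -⟩ := isEquivOver_symm (isEquivOver_fpOfMap sq.flip)
  have := isIso_pshMapOf (isEquivOver_comp he hE')
  exact ((AlgSp.isAlgSpaceP_obj_iff X.obj).2 X.property).of_iso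
    (asIso (pshMapOf (BasedFunctor.comp e E')))

theorem repBySpWith_of_repByAlgSpWith {Q : MorphismProperty (AlgSp.Sp S)} [Q.RespectsIso]
    (h : AlgSt.RepByAlgSpWith Q (Stk.ofPshMap a)) : AlgSp.RepBySpWith Q a := by
  intro U ξ P fst snd sq
  obtain ⟨hs, hA⟩ := repBySp_of_repByAlgSp1 (repWith_repByAlgSp1 h) ξ fst snd sq
  refine ⟨hs, hA, ?_⟩
  obtain ⟨X, e, he, hQ⟩ := h U (overMapOf ξ)
  obtain ⟨E', hE', -, ⟨b⟩⟩ := isEquivOver_symm (isEquivOver_fpOfMap sq.flip)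
  have := isIso_pshMapOf (isEquivOver_comp he hE')
  let φ : X.obj ⟶ (⟨P, hs⟩ : AlgSp.Sp S) := ObjectProperty.homMk (pshMapOf (BasedFunctor.comp e E'))
  have : IsIso ((sheafToPresheaf (AlgSp.J S) (Type (u + 1))).map φ) := this
  have : IsIso φ := isIso_of_fully_faithful (sheafToPresheaf (AlgSp.J S) (Type (u + 1))) φ
  have key : AlgSt.spMapOfOver (BasedFunctor.comp e (FibCat.fpFst (overMapOf ξ) (Stk.ofPshMap a)))
      = φ ≫ ObjectProperty.homMk (snd : P ⟶ ((AlgSp.yon S).obj U).obj) := by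
    apply ObjectProperty.hom_ext
    rw [spMapOfOver_hom_eq]
    refine (pshMapOf_eq_of_iso (whiskerRightIso (whiskerLeftIso e
      (whiskerRightIso b (FibCat.fpFst (overMapOf ξ) (Stk.ofPshMap a)))) (AlgSt.ofOverCat U))).symm.trans ?_
    refine (pshMapOf_comp (BasedFunctor.comp e E') (Stk.ofPshMap snd)).trans ?_
    rw [pshMapOf_ofPshMap]
    rfl
  rw [key] at hQ
  exact (Q.cancel_left_of_respectsIso φ _).1 hQ

end Groth.AlgStBasic
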