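import Groth.Agent.AlgStBasic.LocQBase
import Groth.Agent.AlgStBasic.StUniv

/-!
# Properties local on the source descend along representable surjective covers of stacks
-/

set_option autoImplicit false
set_option backward.isDefEq.respectTransparency false
set_option backward.isDefEq.respectTransparency.types false

universe u

open CategoryTheory CategoryTheory.Limits AlgebraicGeometry Opposite
open Groth.StkBase Groth.AlgSpBasic

noncomputable section

namespace Groth.AlgStBasic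

variable {S : Scheme.{u}} {𝒳 𝒴 𝒵 : AlgSt.Cat S}

theorem spMapOfOver_comp {F G : AlgSp.Sp S} {U : Over S} (Φ : AlgSt.ofSp F ⥤ᵇ AlgSt.ofSp G)
    (Ψ : AlgSt.ofSp G ⥤ᵇ FibCat.overCat U) :
    AlgSt.spMapOfOver (BasedFunctor.comp Φ Ψ) = mapOf Φ ≫ AlgSt.spMapOfOver Ψ := by
  apply ObjectProperty.hom_ext
  show (AlgSt.spMapOfOver (BasedFunctor.comp Φ Ψ)).hom =
    pshMapOf Φ ≫ (AlgSt.spMapOfOver Ψ).hom
  rw [spMapOfOver_hom_eq, spMapOfOver_hom_eq, ← pshMapOf_comp]
  rfl

/-- A property local on the source for covers containing the base changes of `x` descends along `x`. -/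
theorem repWith_of_comp_cover (hX : FibCat.IsFibGrpd 𝒳.p) (hY : FibCat.IsFibGrpd 𝒴.p)
    {P : MorphismProperty (AlgSp.Sp S)} (hb : StableBaseChange P) {τ : AlgSp.CovNotion S}
    (hP' : AlgSp.IsLocalOnSource τ P) {x : 𝒳 ⥤ᵇ 𝒴} {y : 𝒴 ⥤ᵇ 𝒵} (hy : AlgSt.RepByAlgSp1 y)
    (hx : AlgSt.RepByAlgSp1 x)
    (hτ : ∀ (F G : AlgSp.Space S) (a : G.obj ⟶ F.obj),
      (∀ ⦃Q : MorphismProperty (AlgSp.Sp S)⦄, StableBaseChange Q → DescendsAlongAtlas Q →
        AlgSt.RepByAlgSpWith Q x → Q a) →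
      τ (fun _ : PUnit.{u + 1} => G.obj) (fun _ => a))
    (h : AlgSt.RepByAlgSpWith P (BasedFunctor.comp x y)) : AlgSt.RepByAlgSpWith P y := by
  intro U z
  obtain ⟨F, e, he⟩ := hy U z
  let σ := BasedFunctor.comp e (FibCat.fpSnd z y)
  obtain ⟨G, e', he'⟩ := repByAlgSp_fp hX hY x σ hx ⟨F, BasedFunctor.id _, isEquivOver_id _⟩
  let Ψ := BasedFunctor.comp e' (FibCat.fpFst σ x)
  let E : AlgSt.ofSp G.obj ⥤ᵇ FibCat.fp z (BasedFunctor.comp x y) :=
    BasedFunctor.comp (BasedFunctor.comp e'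
      (fpPre e (BasedFunctor.id 𝒳) (FibCat.fpSnd z y) x)) (fpCompFun z x y)
  have hE : FibCat.IsEquivOver E :=
    isEquivOver_comp (isEquivOver_comp he' (isEquivOver_fpPre he (isEquivOver_id 𝒳) _ _))
      (isEquivOver_fpCompFun z x y)
  refine ⟨F, e, he, ?_⟩
  have hp := prop_of_repWith_fp hb h z G E hE
  have key : AlgSt.spMapOfOver (BasedFunctor.comp E (FibCat.fpFst z (BasedFunctor.comp x y))) =
      mapOf Ψ ≫ AlgSt.spMapOfOver (BasedFunctor.comp e (FibCat.fpFst z y)) :=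
    (spMapOfOver_congr (Φ := BasedFunctor.comp E (FibCat.fpFst z (BasedFunctor.comp x y)))
      (Ψ := BasedFunctor.comp Ψ (BasedFunctor.comp e (FibCat.fpFst z y))) (Iso.refl _)).trans
      (spMapOfOver_comp _ _)
  rw [key] at hp
  refine (hP' (fun _ : PUnit.{u + 1} => G.obj) (fun _ => mapOf Ψ) F.property (fun _ => G.property)
    (hτ F G (mapOf Ψ) fun Q hQb hQd hQ => prop_mapOf_of_repWith hQb hQd G.property F.property
      ((repWith_precomp_equiv he' _).2 (repWith_fpFst x σ hQ))) _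
    (AlgSp.IsAlgSpace.yon_obj U)).2 fun _ => hp

end Groth.AlgStBasic
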