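import Groth.Agent.AlgStBasic.StQc
import Groth.Agent.AlgStBasic.LocQApps

/-!
# Scheme charts of the base change of a morphism to a scheme
-/

set_option autoImplicit false
set_option backward.isDefEq.respectTransparency false
set_option backward.isDefEq.respectTransparency.types false

universe u

open CategoryTheory CategoryTheory.Limits AlgebraicGeometry Opposite Topology
open Groth.StkBase Groth.AlgSpBasic

noncomputable section

namespace Groth.AlgStBasic

variable {S : Scheme.{u}} {𝒳 𝒴 : AlgSt.Cat S}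

theorem left_prop_of_repWith_overMap {P : MorphismProperty Scheme.{u}} [EtaleLocal P] {U V : Over S}
    {g : U ⟶ V} (h : AlgSt.RepByAlgSpWith (AlgSp.LocP (S := S) P) (AlgSt.overMap g)) : P g.left :=
  left_prop_of_locP_yon (prop_of_repWith_ofSpMap stableBaseChange_locP descendsAlongAtlas_locP
    (AlgSp.IsAlgSpace.yon_obj U) (AlgSp.IsAlgSpace.yon_obj V)
    ((repWith_postcomp_equiv _ (isEquivOver_toOverCat V)).1
      ((repWith_precomp_equiv (isEquivOver_ofOverCat U)
        (BasedFunctor.comp (AlgSt.ofSpMap ((AlgSp.yon S).map g)) (AlgSt.toOverCat V))).1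
        (repWith_of_iso (Iso.refl _) h))))

theorem left_prop_of_locQ_overMap {P : MorphismProperty Scheme.{u}} [EtaleLocal P]
    (hP : AlgSp.IsSmoothLocalST (AlgSp.LocP (S := S) P)) {U V : Over S} {g : U ⟶ V}
    (h : AlgSt.LocQ (AlgSp.LocP P) (AlgSt.overMap g)) : P g.left :=
  left_prop_of_repWith_overMap (repWith_of_locQ stableBaseChange_locP (isLocalOnBase_fppf_locP _) hP
    (isAlgStack_overCat U) (isAlgStack_overCat V)
    (repByAlgSp1_of_repByAlgSp (repByAlgSp_overCat U) (repByAlgSp_overCat V) _) h)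

theorem locQ_of_iso {P : MorphismProperty (AlgSp.Sp S)} {f g : 𝒳 ⥤ᵇ 𝒴} (e : f ≅ g)
    (h : AlgSt.LocQ P f) : AlgSt.LocQ P g := by
  obtain ⟨U, V, x, y, k, α, h₁, h₂, h₃, h₄⟩ := h
  exact ⟨U, V, x, y, k, (whiskerLeftIso x e).symm.trans α, h₁, h₂, h₃, h₄⟩

/-- A surjective scheme chart of the base change of a morphism to a scheme. -/
theorem exists_scheme_lift (hX : AlgSt.IsAlgStack Scheme.fppfPrecoverage 𝒳)
    (hY : AlgSt.IsAlgStack Scheme.fppfPrecoverage 𝒴) (f : 𝒳 ⥤ᵇ 𝒴) {U : Over S}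
    (x : FibCat.overCat U ⥤ᵇ 𝒴) :
    ∃ (W : Over S) (a : W ⟶ U) (x' : FibCat.overCat W ⥤ᵇ 𝒳),
      Nonempty (BasedFunctor.comp x' f ≅ BasedFunctor.comp (AlgSt.overMap a) x) ∧
      (∀ u : ↥U.left, AlgSt.Points.ofChart x u ∈ Set.range (AlgSt.Points.map f) →
        u ∈ Set.range a.left) ∧
      ∀ {P : MorphismProperty Scheme.{u}} [EtaleLocal P],
        (∀ ⦃A B : Scheme.{u}⦄ (g : A ⟶ B), Smooth g → P g) →
        AlgSp.IsSmoothLocalST (AlgSp.LocP (S := S) P) → AlgSt.LocQ (AlgSp.LocP P) f → P a.left := by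
  have hU : AlgSt.IsAlgStack Scheme.fppfPrecoverage (FibCat.overCat U : AlgSt.Cat S) :=
    isAlgStack_overCat U
  have hP := isAlgStack_fp hY.isStack hY.diag hU hX x f
  obtain ⟨W, w, hw, hws⟩ := hP.atlas
  obtain ⟨a, ⟨φ⟩⟩ := exists_iso_overMap (BasedFunctor.comp w (FibCat.fpFst x f))
  refine ⟨W, a, BasedFunctor.comp w (FibCat.fpSnd x f),
    ⟨(whiskerLeftIso w (FibCat.fpIso x f).symm).trans (whiskerRightIso φ x)⟩, ?_, ?_⟩
  · rintro u ⟨p, hp⟩
    obtain ⟨z, hz, -⟩ := exists_points_fp hX.isStack.1 hY.isStack.1 hU.isStack.1 f x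
      (AlgSt.Points.ofChart (BasedFunctor.id _) u) p (by rw [← ofChart_eq_map, hp])
    obtain ⟨v, rfl⟩ := surjective_ofChart hP.isStack.1 hws z
    refine ⟨v, (bijective_ofChart_id (T := U)).1 ?_⟩
    rw [← ofChart_overMap, ← hz,
      ofChart_eq_map w v, ← map_comp, map_eq_of_iso φ, ← ofChart_eq_map]
    rfl
  · intro P _ hsm hP' hf
    refine left_prop_of_locQ_overMap hP' ?_
    have hw' : AlgSt.RepByAlgSpWith (AlgSp.LocP P) w :=
      repWith_mono (fun _ _ _ _ _ k => fun _ _ a b h ha hb c => hsm _ (k a b h ha hb c)) hw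
    have h := locQ_comp hP' stableComp_locP (isAlgStack_overCat W) hP hU
      (locQ_of_repWith stableBaseChange_locP descendsAlongAtlas_locP hP' (isAlgStack_overCat W) hP hw')
      (locQ_fpFst hP' stableBaseChange_locP hX hY hU x hf)
    exact locQ_of_iso φ h

end Groth.AlgStBasic
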