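import Groth.Agent.AlgStBasic.StQc
import Groth.Agent.AlgStBasic.LocQApps
import Groth.Agent.AlgSp2.ImmersionLocality
import Mathlib.AlgebraicGeometry.Noetherian
import Mathlib.AlgebraicGeometry.Morphisms.Immersion

/-!
# Locally Noetherian algebraic stacks
-/

set_option autoImplicit false
set_option backward.isDefEq.respectTransparency false
set_option backward.isDefEq.respectTransparency.types false

universe u

open CategoryTheory CategoryTheory.Limits AlgebraicGeometry Opposite Topology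
open Groth.StkBase Groth.AlgSpBasic

noncomputable section

namespace Groth.AlgStBasic

variable {S : Scheme.{u}} {𝒳 𝒴 : AlgSt.Cat S}

theorem quasiCompact_of_isImmersion {A B : Scheme.{u}} [IsLocallyNoetherian B] (f : A ⟶ B)
    [IsImmersion f] : QuasiCompact f := by
  rw [← f.liftCoborder_ι]
  infer_instance

theorem isQuasiCompactMor_of_isImm (hX : AlgSt.IsAlgStack Scheme.fppfPrecoverage 𝒳)
    (hY : AlgSt.IsAlgStack Scheme.fppfPrecoverage 𝒴) {j : 𝒳 ⥤ᵇ 𝒴} (hj : AlgSt.IsImm j)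
    (hN : AlgSt.SmoothLocally (fun T ↦ IsLocallyNoetherian T) 𝒴) :
    AlgSt.IsQuasiCompactMor Scheme.fppfPrecoverage j := by
  obtain ⟨U, x, hx, hxs⟩ := hY.atlas
  have : IsLocallyNoetherian U.left := hN U x hx
  let W : AlgSp.Space S := (AlgSp.ofScheme S).obj U
  let w : AlgSt.ofSp W.obj ⥤ᵇ 𝒴 := BasedFunctor.comp (AlgSt.toOverCat U) x
  have hw : AlgSt.RepByAlgSpWith (AlgSp.LocP @Smooth) w :=
    (repWith_precomp_equiv (isEquivOver_toOverCat U) x).2 hx
  obtain ⟨V, a, e, he, β, ha⟩ := exists_map_of_repWith hX.isStack.1 hY.isStack.1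
    (stableBaseChange_repWith _)
    (descendsAlongAtlas_of_isLocalOnBase Groth.AlgSp2.isLocalOnBase_fppf_repWith_isImmersion) hj W w
  have hq : AlgSp.RepWith @QuasiCompact a.hom := by
    obtain ⟨Z, snd, fst, sq⟩ := ha.rep (𝟙 ((AlgSp.yon S).obj U))
    have hi : IsImmersion snd.left := ha.property _ fst snd sq
    have : IsIso fst := sq.isIso_fst_of_isIso
    have sq' : IsPullback (inv fst) a.hom ((AlgSp.yon S).map snd) (𝟙 _) :=
      IsPullback.of_horiz_isIso ⟨by
        simpa using sq.w.symm⟩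
    exact Groth.AlgSpBasic.repWith_of_isPullback sq' ((AlgSp.repWith_yon_map_iff _ snd).2
      (quasiCompact_of_isImmersion snd.left))
  refine (repWith_qc_iff_isQuasiCompactMor hX hY (repWith_repByAlgSp1 hj)).1 ?_
  refine (repWith_iff_exists_map_of_cover hX.isStack.1 hY.isStack.1 stableBaseChange_qc
    isLocalOnBase_fppf_qc (repWith_repByAlgSp1 hj) (w := w) ?_ ?_
    ((repWith_precomp_equiv (isEquivOver_toOverCat U) x).2 hxs)).2
    ⟨V, a, e, he, β, isQuasiCompactMor_of_repWith V.property W.property hq⟩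
  · refine repWith_mono (fun _ _ _ _ _ k => ?_) hw
    intro U' V' a b m ha hb c
    have : Smooth m.left := k a b m ha hb c
    infer_instance
  · refine repWith_mono (fun _ _ _ _ _ k => ?_) hw
    intro U' V' a b m ha hb c
    have : Smooth m.left := k a b m ha hb c
    infer_instance

theorem locQ_lft_of_isImm (hX : AlgSt.IsAlgStack Scheme.fppfPrecoverage 𝒳)
    (hY : AlgSt.IsAlgStack Scheme.fppfPrecoverage 𝒴) {j : 𝒳 ⥤ᵇ 𝒴} (hj : AlgSt.IsImm j) :
    AlgSt.LocQ (AlgSp.LocP @LocallyOfFiniteType) j :=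
  locQ_of_repWith stableBaseChange_locP descendsAlongAtlas_locP isSmoothLocalST_lft hX hY
    (repWith_mono (fun _ _ _ _ _ k => Groth.AlgSpBasic.locP_of_repWith
      (Groth.AlgSpBasic.repWith_mono (fun _ _ g (_ : IsImmersion g) =>
        (inferInstance : LocallyOfFiniteType g)) k)) hj)

theorem isQuasiSeparatedOver_of_isImm (hX : AlgSt.IsAlgStack Scheme.fppfPrecoverage 𝒳)
    (hY : AlgSt.IsAlgStack Scheme.fppfPrecoverage 𝒴) {j : 𝒳 ⥤ᵇ 𝒴} (hj : AlgSt.IsImm j)
    (h : AlgSt.IsQuasiSeparatedOver 𝒴) : AlgSt.IsQuasiSeparatedOver 𝒳 := by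
  have hd : AlgSt.RepByAlgSpWith (AlgSp.IsQuasiCompactMor ⊓ AlgSp.IsQuasiSeparatedMor)
      (FibCat.diag j) :=
    repWith_diag_of_repWith (stableBaseChange_inf stableBaseChange_qc stableBaseChange_qs)
      (fun X Y hX hY q hq => by
        have : Mono q := Groth.AlgSpBasic.mono_of_repWith
          (fun _ _ g (_ : IsImmersion g) => inferInstance) hq
        exact ⟨isQuasiCompactMor_of_repWith hX (isAlgSpace_pullback_self hX hY q)
          (Groth.AlgSpBasic.repWith_isIso _),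
          qs_of_sep (Groth.AlgSpBasic.repWith_isIso _)⟩) hj
  exact repWith_diag_of_iso (selfIso _ _)
    (repWith_diag_comp (f := j) (g := FibCat.toSelf 𝒴) hX.isStack.1 hY.isStack.1
      (stableBaseChange_inf stableBaseChange_qc stableBaseChange_qs)
      (stableComp_inf stableComp_qc stableComp_qs)
      (descendsAlongAtlas_of_isLocalOnBase
        (isLocalOnBase_inf isLocalOnBase_fppf_qc isLocalOnBase_fppf_qs)) hd h)

theorem isQuasiCompact_of_isQuasiCompactMor (hX : AlgSt.IsAlgStack Scheme.fppfPrecoverage 𝒳)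
    (hY : AlgSt.IsAlgStack Scheme.fppfPrecoverage 𝒴) {f : 𝒳 ⥤ᵇ 𝒴}
    (hf : AlgSt.IsQuasiCompactMor Scheme.fppfPrecoverage f) (h : AlgSt.IsQuasiCompact 𝒴) :
    AlgSt.IsQuasiCompact 𝒳 :=
  isQuasiCompact_of_isEquivOver (isAlgStack_fp hY.isStack hY.diag hY hX (BasedFunctor.id 𝒴) f) hX
    (isEquivOver_fpSnd_id f) (hf 𝒴 hY h (BasedFunctor.id 𝒴))

theorem noetherianSpace_points (hX : AlgSt.IsAlgStack Scheme.fppfPrecoverage 𝒳)
    (h : AlgSt.IsQuasiCompact 𝒳) (hN : AlgSt.SmoothLocally (fun T ↦ IsLocallyNoetherian T) 𝒳) :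
    TopologicalSpace.NoetherianSpace (AlgSt.Points 𝒳) := by
  obtain ⟨U, x, hU, hx, hxs⟩ := h
  have : IsLocallyNoetherian U.left := hN U x hx
  have : IsNoetherianRing Γ(U.left, ⊤) :=
    IsLocallyNoetherian.component_noetherian ⟨⊤, isAffineOpen_top U.left⟩
  have := noetherianSpace_of_isAffine (X := U.left)
  exact TopologicalSpace.noetherianSpace_of_surjective _ (continuous_ofChart hX x)
    (surjective_ofChart hX.isStack.1 hxs)

theorem exists_noetherianSpace_chart (hX : AlgSt.IsAlgStack Scheme.fppfPrecoverage 𝒳)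
    (hN : AlgSt.SmoothLocally (fun T ↦ IsLocallyNoetherian T) 𝒳) (z : AlgSt.Points 𝒳) :
    ∃ (W : Type u) (_ : TopologicalSpace W) (_ : TopologicalSpace.NoetherianSpace W)
      (_ : QuasiSober W) (f : W → AlgSt.Points 𝒳),
      Continuous f ∧ IsOpen (Set.range f) ∧ z ∈ Set.range f := by
  obtain ⟨U, x, hx, hxs⟩ := hX.atlas
  have : IsLocallyNoetherian U.left := hN U x hx
  obtain ⟨u, rfl⟩ := surjective_ofChart hX.isStack.1 hxs z
  obtain ⟨_, ⟨O, hO, rfl⟩, hu, -⟩ :=
    U.left.isBasis_affineOpens.exists_subset_of_mem_open (Set.mem_univ u) isOpen_univ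
  have : IsNoetherianRing Γ(U.left, O) := IsLocallyNoetherian.component_noetherian ⟨O, hO⟩
  refine ⟨↥O, inferInstance, noetherianSpace_of_isAffineOpen O hO,
    inferInstanceAs (QuasiSober ↥(Scheme.Opens.toScheme O)),
    fun w => AlgSt.Points.ofChart x w.1, (continuous_ofChart hX x).comp continuous_subtype_val,
    ?_, ⟨⟨u, hu⟩, rfl⟩⟩
  rw [show Set.range (fun w : ↥O => AlgSt.Points.ofChart x w.1) =
      AlgSt.Points.ofChart x '' (O : Set ↥U.left) from by
    rw [Set.image_eq_range]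
    rfl]
  exact isOpenMap_ofChart_of_smooth hX.isStack.1 hx _ O.isOpen

theorem quasiSober_points (hX : AlgSt.IsAlgStack Scheme.fppfPrecoverage 𝒳)
    (hN : AlgSt.SmoothLocally (fun T ↦ IsLocallyNoetherian T) 𝒳) :
    QuasiSober (AlgSt.Points 𝒳) := by
  refine ⟨fun {Z} hZ hZc => ?_⟩
  obtain ⟨z, hz⟩ := hZ.nonempty
  obtain ⟨W, _, _, _, f, hf, hfo, hzf⟩ := exists_noetherianSpace_chart hX hN z
  have hK : IsClosed (f ⁻¹' Z) := hZc.preimage hf
  obtain ⟨T, hT, hTc, hTi, hTe⟩ := TopologicalSpace.NoetherianSpace.exists_finite_set_isClosed_irreducible hK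
  choose ξ hξ using fun t : T => QuasiSober.sober (hTi t t.2) (hTc t t.2)
  have : Finite T := hT.to_subtype
  have hsub : Z ∩ Set.range f ⊆ ⋃ t : T, closure {f (ξ t)} := by
    rintro _ ⟨hw, w, rfl⟩
    have : w ∈ ⋃₀ T := hTe ▸ hw
    obtain ⟨t, ht, hwt⟩ := this
    refine Set.mem_iUnion.2 ⟨⟨t, ht⟩, ?_⟩
    have hw' : w ∈ closure {ξ ⟨t, ht⟩} := (hξ ⟨t, ht⟩).def.symm ▸ hwt
    have := image_closure_subset_closure_image hf ⟨w, hw', rfl⟩
    rwa [Set.image_singleton] at this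
  have hcl : IsClosed (⋃ t : T, closure ({f (ξ t)} : Set (AlgSt.Points 𝒳))) :=
    isClosed_iUnion_of_finite fun t => isClosed_closure
  have hZsub : Z ⊆ ⋃ t : T, closure {f (ξ t)} :=
    (subset_closure_inter_of_isPreirreducible_of_isOpen hZ.isPreirreducible hfo ⟨z, hz, hzf⟩).trans
      (closure_minimal hsub hcl)
  classical
  obtain ⟨_, ht, hle⟩ := (isIrreducible_iff_sUnion_isClosed.1 hZ)
    (Set.Finite.toFinset (Set.finite_range fun t : T => closure ({f (ξ t)} : Set (AlgSt.Points 𝒳))))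
    (fun s hs => by
      obtain ⟨t, rfl⟩ := (Set.Finite.mem_toFinset _).1 hs
      exact isClosed_closure)
    (fun w hw => by
      obtain ⟨t, ht⟩ := Set.mem_iUnion.1 (hZsub hw)
      exact ⟨_, (Set.Finite.mem_toFinset _).2 ⟨t, rfl⟩, ht⟩)
  obtain ⟨t, rfl⟩ := (Set.Finite.mem_toFinset _).1 ht
  refine ⟨f (ξ t), le_antisymm ?_ hle⟩
  refine closure_minimal (Set.singleton_subset_iff.2 ?_) hZc
  have : ξ t ∈ ⋃₀ T := ⟨t, t.2, (hξ t).mem⟩
  show ξ t ∈ f ⁻¹' Z
  rwa [hTe]

end Groth.AlgStBasic
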