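import Groth.Prelude.Def_AlgSt4
import Groth.Agent.AlgStBasic.DiagCalc

/-!
# Points of categories fibred in groupoids over schemes

The relation defining the points is an equivalence relation, points lift to 2-fibre products,
and the points of a slice are those of the scheme.
-/

set_option autoImplicit false
set_option backward.isDefEq.respectTransparency false
set_option backward.isDefEq.respectTransparency.types false

universe u

open CategoryTheory CategoryTheory.Limits AlgebraicGeometry Opposite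
open Groth.StkBase

noncomputable section

namespace Groth.AlgStBasic

variable {S : Scheme.{u}} {𝒳 𝒴 𝒵 : AlgSt.Cat S}

/-- Amalgamation of two field extensions of a field-valued base point. -/
theorem exists_amalg_over {K Ω₁ Ω₂ : Type u} [Field K] [Field Ω₁] [Field Ω₂]
    {str : Spec (CommRingCat.of K) ⟶ S} {w₁ : Spec (CommRingCat.of Ω₁) ⟶ S}
    {w₂ : Spec (CommRingCat.of Ω₂) ⟶ S} (a : Over.mk w₁ ⟶ Over.mk str)
    (b : Over.mk w₂ ⟶ Over.mk str) :
    ∃ (Ω : Type u) (_ : Field Ω) (w : Spec (CommRingCat.of Ω) ⟶ S)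
      (d₁ : Over.mk w ⟶ Over.mk w₁) (d₂ : Over.mk w ⟶ Over.mk w₂), d₁ ≫ a = d₂ ≫ b := by
  obtain ⟨Ω, _, i₁, i₂, hi⟩ :=
    AlgSp.FieldPt.exists_amalgamation (Spec.preimage a.left).hom (Spec.preimage b.left).hom
  have hL : Spec.map (CommRingCat.ofHom i₁) ≫ a.left = Spec.map (CommRingCat.ofHom i₂) ≫ b.left := by
    conv_lhs => rw [← Spec.map_preimage a.left]
    conv_rhs => rw [← Spec.map_preimage b.left]
    rw [← Spec.map_comp, ← Spec.map_comp]
    congr 1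
    exact CommRingCat.hom_ext hi
  have e₁ : a.left ≫ str = w₁ := Over.w a
  have e₂ : b.left ≫ str = w₂ := Over.w b
  refine ⟨Ω, inferInstance, Spec.map (CommRingCat.ofHom i₁) ≫ w₁,
    Over.homMk (Spec.map (CommRingCat.ofHom i₁)) rfl,
    Over.homMk (Spec.map (CommRingCat.ofHom i₂)) ?_, Over.OverMorphism.ext ?_⟩
  · change _ = Spec.map (CommRingCat.ofHom i₁) ≫ w₁
    rw [← e₁, ← e₂]
    erw [← Category.assoc, ← Category.assoc, hL]
  · simpa using hL

section Rel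

/-- The map of spectra under a morphism of field-valued points. -/
def baseHom {p q : AlgSt.FPt 𝒳} (a : p.obj ⟶ q.obj) : Over.mk p.str ⟶ Over.mk q.str :=
  eqToHom p.lies.symm ≫ 𝒳.p.map a ≫ eqToHom q.lies

theorem exists_pullback_pt (hX : FibCat.IsFibGrpd 𝒳.p) (p : AlgSt.FPt 𝒳) {Ω : Type u} [Field Ω]
    {w : Spec (CommRingCat.of Ω) ⟶ S} (d : Over.mk w ⟶ Over.mk p.str) :
    ∃ (x : 𝒳.obj) (h : 𝒳.p.obj x = Over.mk w) (φ : x ⟶ p.obj),
      𝒳.p.map φ = eqToHom h ≫ d ≫ eqToHom p.lies.symm := by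
  obtain ⟨y, φ, h, hφ⟩ := exists_lift' hX (x := p.obj) (d ≫ eqToHom p.lies.symm)
  exact ⟨y, h, φ, hφ⟩

theorem fptRel_refl (p : AlgSt.FPt 𝒳) : AlgSt.FPt.Rel p p := ⟨p, 𝟙 _, 𝟙 _, trivial⟩

theorem fptRel_symm {p q : AlgSt.FPt 𝒳} : AlgSt.FPt.Rel p q → AlgSt.FPt.Rel q p :=
  fun ⟨r, a, b, _⟩ => ⟨r, b, a, trivial⟩

/-- Two morphisms into the same field-valued point can be completed to a square. -/
theorem exists_square (hX : FibCat.IsFibGrpd 𝒳.p) {r r' q : AlgSt.FPt 𝒳} (a : r.obj ⟶ q.obj)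
    (b : r'.obj ⟶ q.obj) :
    ∃ (t : AlgSt.FPt 𝒳) (c : t.obj ⟶ r.obj) (d : t.obj ⟶ r'.obj), c ≫ a = d ≫ b := by
  obtain ⟨Ω, hΩ, w, d₁, d₂, e⟩ := exists_amalg_over (baseHom a) (baseHom b)
  obtain ⟨y, h, φ, hφ⟩ := exists_pullback_pt hX r d₁
  have hg : (eqToHom h ≫ d₂ ≫ eqToHom r'.lies.symm) ≫ 𝒳.p.map b = 𝒳.p.map (φ ≫ a) := by
    have e' := (e =≫ eqToHom q.lies.symm)
    simp [baseHom] at e'
    simp [hφ, e']
  exact ⟨⟨Ω, w, y, h⟩, φ, factor hX b (φ ≫ a) _ hg, (factor_comp hX _ _ _ hg).symm⟩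

theorem fptRel_trans (hX : FibCat.IsFibGrpd 𝒳.p) {p q s : AlgSt.FPt 𝒳} :
    AlgSt.FPt.Rel p q → AlgSt.FPt.Rel q s → AlgSt.FPt.Rel p s := by
  rintro ⟨r, a, b, -⟩ ⟨r', a', b', -⟩
  obtain ⟨t, c, d, -⟩ := exists_square hX b a'
  exact ⟨t, c ≫ a, d ≫ b', trivial⟩

theorem fptRel_equivalence' (hX : FibCat.IsFibGrpd 𝒳.p) :
    Equivalence (AlgSt.FPt.Rel (𝒳 := 𝒳)) :=
  ⟨fptRel_refl, fptRel_symm, fptRel_trans hX⟩

theorem mk_eq_mk_iff (hX : FibCat.IsFibGrpd 𝒳.p) {p q : AlgSt.FPt 𝒳} :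
    AlgSt.Points.mk p = AlgSt.Points.mk q ↔ AlgSt.FPt.Rel p q :=
  Quot.eq.trans (fptRel_equivalence' hX).eqvGen_iff

/-- Isomorphic field-valued points define the same point. -/
theorem mk_eq_of_hom {p q : AlgSt.FPt 𝒳} (a : p.obj ⟶ q.obj) :
    AlgSt.Points.mk p = AlgSt.Points.mk q :=
  AlgSt.Points.sound ⟨p, 𝟙 _, a, trivial⟩

end Rel

section Map

theorem map_comp (f : 𝒳 ⥤ᵇ 𝒴) (g : 𝒴 ⥤ᵇ 𝒵) (x : AlgSt.Points 𝒳) :
    AlgSt.Points.map (BasedFunctor.comp f g) x = AlgSt.Points.map g (AlgSt.Points.map f x) := by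
  obtain ⟨p, rfl⟩ := AlgSt.Points.mk_surjective x
  rfl

theorem map_id (x : AlgSt.Points 𝒳) : AlgSt.Points.map (BasedFunctor.id 𝒳) x = x := by
  obtain ⟨p, rfl⟩ := AlgSt.Points.mk_surjective x
  rfl

theorem map_eq_of_iso {f g : 𝒳 ⥤ᵇ 𝒴} (α : f ≅ g) :
    AlgSt.Points.map f = AlgSt.Points.map g := by
  funext x
  obtain ⟨p, rfl⟩ := AlgSt.Points.mk_surjective x
  exact mk_eq_of_hom (p := p.map f) (q := p.map g) (isoApp α p.obj).hom

theorem bijective_map_of_isEquivOver {e : 𝒳 ⥤ᵇ 𝒴} (he : FibCat.IsEquivOver e) :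
    Function.Bijective (AlgSt.Points.map e) := by
  obtain ⟨e', ⟨α⟩, ⟨β⟩⟩ := he
  refine Function.bijective_iff_has_inverse.2 ⟨AlgSt.Points.map e', fun x => ?_, fun x => ?_⟩
  · rw [← map_comp, map_eq_of_iso α, map_id]
  · rw [← map_comp, map_eq_of_iso β, map_id]

/-- Points lift to the 2-fibre product. -/
theorem exists_points_fp (hX : FibCat.IsFibGrpd 𝒳.p) (hY : FibCat.IsFibGrpd 𝒴.p)
    (hZ : FibCat.IsFibGrpd 𝒵.p) (f : 𝒳 ⥤ᵇ 𝒴) (g : 𝒵 ⥤ᵇ 𝒴)
    (z : AlgSt.Points 𝒵) (x : AlgSt.Points 𝒳)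
    (h : AlgSt.Points.map g z = AlgSt.Points.map f x) :
    ∃ w : AlgSt.Points (FibCat.fp g f),
      AlgSt.Points.map (FibCat.fpFst g f) w = z ∧ AlgSt.Points.map (FibCat.fpSnd g f) w = x := by
  obtain ⟨p, rfl⟩ := AlgSt.Points.mk_surjective z
  obtain ⟨q, rfl⟩ := AlgSt.Points.mk_surjective x
  obtain ⟨r, a, b, -⟩ := (mk_eq_mk_iff hY).1 h
  obtain ⟨z', hz', φ, hφ⟩ := exists_pullback_pt hZ p (baseHom (p := r) (q := p.map g) a)
  obtain ⟨x', hx', ψ, hψ⟩ := exists_pullback_pt hX q (baseHom (p := r) (q := q.map f) b)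
  have hgz : 𝒴.p.obj (g.obj z') = 𝒴.p.obj r.obj :=
    (g.w_obj z').trans (hz'.trans r.lies.symm)
  have hfx : 𝒴.p.obj (f.obj x') = 𝒴.p.obj r.obj :=
    (f.w_obj x').trans (hx'.trans r.lies.symm)
  have e₁ : 𝒴.p.map (g.map φ) = eqToHom hgz ≫ 𝒴.p.map a := by
    simp [map_map, hφ, baseHom, AlgSt.FPt.map]
  have e₂ : 𝒴.p.map (f.map ψ) = eqToHom hfx ≫ 𝒴.p.map b := by
    simp [map_map, hψ, baseHom, AlgSt.FPt.map]
  obtain ⟨i, hi, -⟩ := exists_vert_iso_of_lifts hY (g.map φ) a hgz e₁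
  obtain ⟨j, hj, -⟩ := exists_vert_iso_of_lifts hY (f.map ψ) b hfx e₂
  let w : AlgSt.FPt (FibCat.fp g f) :=
    { K := r.K, str := r.str, obj := fpMk z' x' (i ≪≫ j.symm) (hi.comp (IsVert.inv hj)), lies := hz' }
  exact ⟨AlgSt.Points.mk w, mk_eq_of_hom (p := w.map (FibCat.fpFst g f)) (q := p) φ,
    mk_eq_of_hom (p := w.map (FibCat.fpSnd g f)) (q := q) ψ⟩

theorem isSurjective_fpFst (hX : FibCat.IsFibGrpd 𝒳.p) (hY : FibCat.IsFibGrpd 𝒴.p)
    (hZ : FibCat.IsFibGrpd 𝒵.p) {f : 𝒳 ⥤ᵇ 𝒴} (g : 𝒵 ⥤ᵇ 𝒴) (hf : AlgSt.IsSurjective f) :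
    AlgSt.IsSurjective (FibCat.fpFst g f) := fun z => by
  obtain ⟨x, hx⟩ := hf (AlgSt.Points.map g z)
  obtain ⟨w, hw, -⟩ := exists_points_fp hX hY hZ f g z x hx.symm
  exact ⟨w, hw⟩

/-- Fully faithful functors are injective on points. -/
theorem injective_map_of_full_faithful (hX : FibCat.IsFibGrpd 𝒳.p) (hY : FibCat.IsFibGrpd 𝒴.p)
    (f : 𝒳 ⥤ᵇ 𝒴) [f.toFunctor.Full] [f.toFunctor.Faithful] :
    Function.Injective (AlgSt.Points.map f) := by
  intro u v h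
  obtain ⟨w, rfl, rfl⟩ := exists_points_fp hX hY hX f f u v h
  obtain ⟨t, rfl⟩ := AlgSt.Points.mk_surjective w
  exact mk_eq_of_hom (p := t.map (FibCat.fpFst f f)) (q := t.map (FibCat.fpSnd f f))
    (f.toFunctor.preimage t.obj.obj.iso.hom)

theorem range_map_fpFst (hX : FibCat.IsFibGrpd 𝒳.p) (hY : FibCat.IsFibGrpd 𝒴.p)
    (hZ : FibCat.IsFibGrpd 𝒵.p) (f : 𝒳 ⥤ᵇ 𝒴) (g : 𝒵 ⥤ᵇ 𝒴) (W : Set (AlgSt.Points 𝒳)) :
    AlgSt.Points.map g ⁻¹' (AlgSt.Points.map f '' W) =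
      AlgSt.Points.map (FibCat.fpFst g f) '' (AlgSt.Points.map (FibCat.fpSnd g f) ⁻¹' W) := by
  ext z
  constructor
  · rintro ⟨x, hx, e⟩
    obtain ⟨w, hw₁, hw₂⟩ := exists_points_fp hX hY hZ f g z x e.symm
    exact ⟨w, by rw [Set.mem_preimage, hw₂]; exact hx, hw₁⟩
  · rintro ⟨w, hw, rfl⟩
    refine ⟨_, hw, ?_⟩
    rw [← map_comp, ← map_comp, map_eq_of_iso (FibCat.fpIso g f)]

end Map

section OverCat

variable {T : Over S}

/-- The scheme point under a field-valued point of a slice. -/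
def overCatPt (p : AlgSt.FPt (FibCat.overCat T)) : ↥T.left :=
  (eqToHom p.lies.symm ≫ p.obj.hom).left (IsLocalRing.closedPoint p.K)

theorem overCatPt_eq_of_hom {p q : AlgSt.FPt (FibCat.overCat T)} (a : p.obj ⟶ q.obj) :
    overCatPt p = overCatPt q := by
  have h : baseHom a ≫ (eqToHom q.lies.symm ≫ q.obj.hom) = eqToHom p.lies.symm ≫ p.obj.hom := by
    simp [baseHom]
    exact congrArg (eqToHom _ ≫ ·) (Over.w a)
  unfold overCatPt
  rw [← h]
  erw [Scheme.Hom.comp_apply]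
  congr 1
  exact Subsingleton.elim (α := PrimeSpectrum q.K) _ _

/-- The map from the points of a slice to the points of the scheme. -/
def ptToScheme (T : Over S) : AlgSt.Points (FibCat.overCat T) → ↥T.left :=
  Quot.lift overCatPt fun _ _ ⟨_, a, b, _⟩ => (overCatPt_eq_of_hom a).symm.trans (overCatPt_eq_of_hom b)

theorem ptToScheme_ofChart_id (t : ↥T.left) :
    ptToScheme T (AlgSt.Points.ofChart (BasedFunctor.id _) t) = t := by
  change (T.left.fromSpecResidueField t) (IsLocalRing.closedPoint _) = t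
  exact Scheme.fromSpecResidueField_apply _ _

set_option backward.isDefEq.respectTransparency.types false in
theorem exists_residue_factor {K : Type u} [Field K] (str : Spec (CommRingCat.of K) ⟶ S)
    (v : Spec (CommRingCat.of K) ⟶ T.left) (hv : v ≫ T.hom = str) :
    ∃ q : Over.mk str ⟶ Over.mk (T.left.fromSpecResidueField (v (IsLocalRing.closedPoint K)) ≫ T.hom),
      q.left ≫ T.left.fromSpecResidueField (v (IsLocalRing.closedPoint K)) = v := by
  have key := Scheme.descResidueField_stalkClosedPointTo_fromSpecResidueField K T.left v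
  exact ⟨Over.homMk (Spec.map (T.left.descResidueField (K := K) (Scheme.stalkClosedPointTo v)))
    (((Category.assoc _ _ _).symm.trans (congrArg (· ≫ T.hom) key)).trans hv), key⟩

theorem ofChart_id_ptToScheme (x : AlgSt.Points (FibCat.overCat T)) :
    AlgSt.Points.ofChart (BasedFunctor.id _) (ptToScheme T x) = x := by
  obtain ⟨p, rfl⟩ := AlgSt.Points.mk_surjective x
  let m : Over.mk p.str ⟶ T := eqToHom p.lies.symm ≫ p.obj.hom
  obtain ⟨q, hq⟩ := exists_residue_factor p.str m.left (Over.w m)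
  symm
  refine mk_eq_of_hom (p := p) ?_
  refine Over.homMk (eqToHom p.lies ≫ q) ?_
  apply Over.OverMorphism.ext
  have hm : eqToHom p.lies ≫ m = p.obj.hom := by simp [m]
  rw [← hm]
  exact (Category.assoc _ _ _).trans (congrArg (Over.Hom.left (eqToHom p.lies) ≫ ·) hq)

/-- The points of a slice are the points of the scheme. -/
theorem bijective_ofChart_id :
    Function.Bijective (AlgSt.Points.ofChart (BasedFunctor.id (FibCat.overCat T))) :=
  Function.bijective_iff_has_inverse.2 ⟨ptToScheme T, ptToScheme_ofChart_id, ofChart_id_ptToScheme⟩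

theorem ofChart_eq_map (x : FibCat.overCat T ⥤ᵇ 𝒳) (t : ↥T.left) :
    AlgSt.Points.ofChart x t = AlgSt.Points.map x (AlgSt.Points.ofChart (BasedFunctor.id _) t) := rfl

theorem range_ofChart (x : FibCat.overCat T ⥤ᵇ 𝒳) :
    Set.range (AlgSt.Points.ofChart x) = Set.range (AlgSt.Points.map x) := by
  ext p
  constructor
  · rintro ⟨t, rfl⟩; exact ⟨_, (ofChart_eq_map x t).symm⟩
  · rintro ⟨q, rfl⟩
    exact ⟨ptToScheme T q, by rw [ofChart_eq_map, ofChart_id_ptToScheme]⟩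

theorem ofChart_overMap {T' : Over S} (h : T' ⟶ T) (x : FibCat.overCat T ⥤ᵇ 𝒳) (t : ↥T'.left) :
    AlgSt.Points.ofChart (BasedFunctor.comp (AlgSt.overMap h) x) t =
      AlgSt.Points.ofChart x (h.left t) := by
  rw [ofChart_eq_map, map_comp, ofChart_eq_map x]
  congr 1
  rw [← ofChart_id_ptToScheme (AlgSt.Points.map (AlgSt.overMap h) _)]
  congr 1
  change (T'.left.fromSpecResidueField t ≫ h.left) (IsLocalRing.closedPoint _) = h.left t
  rw [Scheme.Hom.comp_apply, Scheme.fromSpecResidueField_apply]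

theorem ofChart_eq_of_iso {x y : FibCat.overCat T ⥤ᵇ 𝒳} (α : x ≅ y) :
    AlgSt.Points.ofChart x = AlgSt.Points.ofChart y := by
  funext t
  rw [ofChart_eq_map, ofChart_eq_map y, map_eq_of_iso α]

end OverCat

end Groth.AlgStBasic
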