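import Groth.Agent.AlgStBasic.SepRep
import Groth.Agent.AlgStBasic.StCompact
import Groth.Agent.AlgStBasic.Permanence

/-!
# Quasi-compact morphisms: affine test objects, cancellation, fibre products
-/

set_option autoImplicit false
set_option backward.isDefEq.respectTransparency false
set_option backward.isDefEq.respectTransparency.types false

universe u

open CategoryTheory CategoryTheory.Limits AlgebraicGeometry Opposite Topology
open Groth.StkBase Groth.AlgSpBasic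

noncomputable section

namespace Groth.AlgStBasic

variable {S : Scheme.{u}} {𝒳 𝒴 𝒵 𝒲 : AlgSt.Cat S}

theorem isAlgStack_selfOver :
    AlgSt.IsAlgStack Scheme.fppfPrecoverage (FibCat.selfOver (Over S) : AlgSt.Cat S) :=
  isAlgStack_of_repByAlgSp repByAlgSp_selfOver

theorem isSurjective_fpSnd (hX : FibCat.IsFibGrpd 𝒳.p) (hY : FibCat.IsFibGrpd 𝒴.p)
    (hZ : FibCat.IsFibGrpd 𝒵.p) {v : 𝒵 ⥤ᵇ 𝒴} (hv : AlgSt.IsSurjective v) (g : 𝒳 ⥤ᵇ 𝒴) :
    AlgSt.IsSurjective (FibCat.fpSnd v g) := fun z => by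
  obtain ⟨u, hu⟩ := hv (AlgSt.Points.map g z)
  obtain ⟨c, -, hc⟩ := exists_points_fp hX hY hZ g v u z hu
  exact ⟨c, hc⟩

theorem isQuasiCompact_ofSp_iff {F : AlgSp.Sp S} (hF : AlgSp.IsAlgSpace F) :
    AlgSt.IsQuasiCompact (AlgSt.ofSp F) ↔ AlgSp.IsQuasiCompactSp F := by
  rw [isQuasiCompact_iff_compactSpace (isAlgStack_ofSp hF), isQuasiCompactSp_iff_compactSpace hF]
  exact ⟨fun _ => (isHomeomorph_spPt hF).homeomorph.symm.compactSpace,
    fun _ => (isHomeomorph_spPt hF).homeomorph.compactSpace⟩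

/-- Quasi-compactness of a morphism can be tested on affine schemes over the target. -/
theorem isQuasiCompactMor_of_affine_test (hX : AlgSt.IsAlgStack Scheme.fppfPrecoverage 𝒳)
    (hY : AlgSt.IsAlgStack Scheme.fppfPrecoverage 𝒴) {f : 𝒳 ⥤ᵇ 𝒴}
    (h : ∀ (V : Over S), IsAffine V.left → ∀ y : FibCat.overCat V ⥤ᵇ 𝒴,
      AlgSt.IsQuasiCompact (FibCat.fp y f)) :
    AlgSt.IsQuasiCompactMor Scheme.fppfPrecoverage f := by
  intro 𝒯 hT hTc g
  obtain ⟨V, v, hV, -, hvs⟩ := hTc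
  have hV' : AlgSt.IsAlgStack Scheme.fppfPrecoverage (FibCat.overCat V : AlgSt.Cat S) :=
    isAlgStack_overCat V
  have hQ := isAlgStack_fp hY.isStack hY.diag hT hX g f
  have hB := isAlgStack_fp hY.isStack hY.diag hV' hX (BasedFunctor.comp v g) f
  have hC := isAlgStack_fp hT.isStack hT.diag hV' hQ v (FibCat.fpFst g f)
  have hv : AlgSt.IsSurjective v :=
    (isSurjective_iff_repWith hV'.isStack.1 hT.isStack.1 (repWith_repByAlgSp1 hvs)).2 hvs
  exact isQuasiCompact_of_isSurjective hC hQ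
    (isSurjective_fpSnd hQ.isStack.1 hT.isStack.1 hV'.isStack.1 hv (FibCat.fpFst g f))
    (isQuasiCompact_of_isEquivOver hB hC (isEquivOver_fpUnpaste v g f) (h V hV _))

/-- A representable functor is quasi-compact iff its base changes to schemes are. -/
theorem repWith_qc_iff_isQuasiCompactMor (hX : AlgSt.IsAlgStack Scheme.fppfPrecoverage 𝒳)
    (hY : AlgSt.IsAlgStack Scheme.fppfPrecoverage 𝒴) {f : 𝒳 ⥤ᵇ 𝒴} (hf : AlgSt.RepByAlgSp1 f) :
    AlgSt.RepByAlgSpWith AlgSp.IsQuasiCompactMor f ↔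
      AlgSt.IsQuasiCompactMor Scheme.fppfPrecoverage f := by
  constructor
  · intro h
    refine isQuasiCompactMor_of_affine_test hX hY fun V hV y => ?_
    obtain ⟨F, e, he, hq⟩ := h V y
    refine isQuasiCompact_of_isEquivOver (isAlgStack_ofSp F.property)
      (isAlgStack_fp hY.isStack hY.diag (isAlgStack_overCat V) hX y f) he
      ((isQuasiCompact_ofSp_iff F.property).2 ?_)
    exact hq (AlgSp.IsAlgSpace.yon_obj V) ((isQuasiCompactSp_yon_iff V).2 inferInstance) (𝟙 _)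
      (𝟙 _) _ IsPullback.of_id_fst
  · intro h U y
    obtain ⟨F, e, he⟩ := hf U y
    refine ⟨F, e, he, isQuasiCompactMor_of_affine F.property (AlgSp.IsAlgSpace.yon_obj U)
      fun Z hZ c P fst snd sq => ?_⟩
    obtain ⟨g, A, hA, -⟩ := exists_fpFst_eq_map f hX hY y he (AlgSp.IsAlgSpace.yon_obj Z) c sq
    have hP := isAlgSpace_of_isPullback sq (AlgSp.IsAlgSpace.yon_obj U).diag F.property
      (AlgSp.IsAlgSpace.yon_obj Z)
    have hs := isAlgStack_fp hY.isStack hY.diag (isAlgStack_ofSp (AlgSp.IsAlgSpace.yon_obj Z)) hX g f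
    have := (isQuasiCompact_iff_compactSpace hs).1
      (h _ (isAlgStack_ofSp (AlgSp.IsAlgSpace.yon_obj Z))
        ((isQuasiCompact_ofSp_iff (AlgSp.IsAlgSpace.yon_obj Z)).2
          ((isQuasiCompactSp_yon_iff Z).2 inferInstance)) g)
    exact (isQuasiCompactSp_iff_compactSpace hP).2 hA.homeomorph.symm.compactSpace

/-- Cancellation: `f` is quasi-compact if `f ≫ g` is and `g` is quasi-separated. -/
theorem isQuasiCompactMor_of_comp (hX : AlgSt.IsAlgStack Scheme.fppfPrecoverage 𝒳)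
    (hY : AlgSt.IsAlgStack Scheme.fppfPrecoverage 𝒴) (hZ : AlgSt.IsAlgStack Scheme.fppfPrecoverage 𝒵)
    {f : 𝒳 ⥤ᵇ 𝒴} {g : 𝒴 ⥤ᵇ 𝒵}
    (h : AlgSt.IsQuasiCompactMor Scheme.fppfPrecoverage (BasedFunctor.comp f g))
    (hg : AlgSt.IsQuasiSeparatedMor g) : AlgSt.IsQuasiCompactMor Scheme.fppfPrecoverage f := by
  let p := BasedFunctor.comp f g
  let Γ : 𝒳 ⥤ᵇ FibCat.fp p g :=
    FibCat.fpLift (F := p) (G := g) (BasedFunctor.id 𝒳) f (Iso.refl _)
  have hP := isAlgStack_fp hZ.isStack hZ.diag hX hY p g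
  have hP' := isAlgStack_fp hZ.isStack hZ.diag hY hX g p
  have hΓ : AlgSt.RepByAlgSpWith AlgSp.IsQuasiCompactMor Γ :=
    repWith_mono (fun _ _ _ _ _ k => k.1) (repWith_graph f hg)
  have h₁ : AlgSt.IsQuasiCompactMor Scheme.fppfPrecoverage Γ :=
    (repWith_qc_iff_isQuasiCompactMor hX hP (repWith_repByAlgSp1 hΓ)).1 hΓ
  have h₂ : AlgSt.IsQuasiCompactMor Scheme.fppfPrecoverage (FibCat.fpSnd p g) :=
    isQuasiCompactMor_of_isSurjective hP' hP hY (f := fpSwap g p) (q := FibCat.fpSnd p g)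
      (p := FibCat.fpFst g p) (Iso.refl _) (bijective_map_of_isEquivOver (isEquivOver_fpSwap g p)).2
      (isQuasiCompactMor_fpFst hX hZ hY g h)
  exact isQuasiCompactMor_comp hX hP hY h₁ h₂

theorem exists_iso_overMap {T U : Over S} (φ : FibCat.overCat T ⥤ᵇ FibCat.overCat U) :
    ∃ a : T ⟶ U, Nonempty (φ ≅ AlgSt.overMap a) := by
  refine ⟨eqToHom (φ.w_obj (idObj T)).symm ≫ (φ.obj (idObj T)).hom, ?_⟩
  refine (nonempty_overIso_iff (isFibGrpd_overCat U) _ _).2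
    ⟨Over.homMk (eqToHom (φ.w_obj (idObj T))) ?_, φ.w_obj (idObj T), rfl⟩
  show eqToHom _ ≫ 𝟙 T ≫ _ = _
  simp

theorem nonempty_iso_overMap_comp {T U V : Over S} {a : T ⟶ V} {c : T ⟶ U} {d : U ⟶ V}
    (e : c ≫ d = a) :
    Nonempty (BasedFunctor.comp (AlgSt.overMap c) (AlgSt.overMap d) ≅ AlgSt.overMap a) := by
  subst e
  refine (nonempty_overIso_iff (isFibGrpd_overCat V) _ _).2
    ⟨Over.homMk (𝟙 T) ?_, rfl, rfl⟩
  show 𝟙 T ≫ 𝟙 T ≫ c ≫ d = (𝟙 T ≫ c) ≫ d
  simp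

/-- The product over the base of two slices is quasi-compact. -/
theorem isQuasiCompact_prod_overCat [QuasiSeparatedSpace S] (U V : Over S) [IsAffine U.left]
    [IsAffine V.left] :
    AlgSt.IsQuasiCompact
      (FibCat.fp (FibCat.toSelf (FibCat.overCat U)) (FibCat.toSelf (FibCat.overCat V)) : AlgSt.Cat S) := by
  have hP : AlgSt.IsAlgStack Scheme.fppfPrecoverage
      (FibCat.fp (FibCat.toSelf (FibCat.overCat U)) (FibCat.toSelf (FibCat.overCat V)) : AlgSt.Cat S) :=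
    isAlgStack_of_repByAlgSp (repByAlgSp_prod_overCat U V)
  let j₁ : U ⨯ V ⟶ U := prod.fst
  let j₂ : U ⨯ V ⟶ V := prod.snd
  let Λ := FibCat.fpLift (F := FibCat.toSelf (FibCat.overCat U))
    (G := FibCat.toSelf (FibCat.overCat V)) (AlgSt.overMap j₁) (AlgSt.overMap j₂) (selfIso _ _)
  have : CompactSpace ↥(U ⨯ V).left :=
    (Scheme.homeoOfIso (Over.prodLeftIsoPullback U V)).symm.compactSpace
  refine isQuasiCompact_of_isSurjective (f := Λ) (isAlgStack_overCat (U ⨯ V)) hP (fun z => ?_)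
    isQuasiCompact_overCat
  obtain ⟨T, -, y, t, rfl, -⟩ := exists_chart_through hP.isStack.1 z
  obtain ⟨a, ⟨α⟩⟩ := exists_iso_overMap (BasedFunctor.comp y (FibCat.fpFst _ _))
  obtain ⟨b, ⟨β⟩⟩ := exists_iso_overMap (BasedFunctor.comp y (FibCat.fpSnd _ _))
  obtain ⟨γ₁⟩ := nonempty_iso_overMap_comp (prod.lift_fst a b : prod.lift a b ≫ j₁ = a)
  obtain ⟨γ₂⟩ := nonempty_iso_overMap_comp (prod.lift_snd a b : prod.lift a b ≫ j₂ = b)
  have e : BasedFunctor.comp (AlgSt.overMap (prod.lift a b)) Λ ≅ y :=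
    fpIsoMk (γ₁.trans α.symm) (γ₂.trans β.symm) fun x =>
      self_ext ((isVert_map (isVert_isoApp _ _)).comp (fp_isVert _))
        ((fp_isVert _).comp (isVert_map (isVert_isoApp _ _)))
  refine ⟨AlgSt.Points.ofChart (BasedFunctor.id _) ((prod.lift a b).left t), ?_⟩
  rw [← ofChart_eq_map, ← ofChart_overMap, ofChart_eq_of_iso e]

/-- A quasi-compact stack is quasi-compact over a quasi-separated base. -/
theorem isQuasiCompactMor_toSelf [QuasiSeparatedSpace S]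
    (hX : AlgSt.IsAlgStack Scheme.fppfPrecoverage 𝒳) (h : AlgSt.IsQuasiCompact 𝒳) :
    AlgSt.IsQuasiCompactMor Scheme.fppfPrecoverage (FibCat.toSelf 𝒳) := by
  obtain ⟨U, x, hU, -, hxs⟩ := h
  have hU' : AlgSt.IsAlgStack Scheme.fppfPrecoverage (FibCat.overCat U : AlgSt.Cat S) :=
    isAlgStack_overCat U
  refine isQuasiCompactMor_of_isSurjective hU' hX isAlgStack_selfOver (f := x)
    (p := FibCat.toSelf (FibCat.overCat U)) (selfIso _ _)
    ((isSurjective_iff_repWith hU'.isStack.1 hX.isStack.1 (repWith_repByAlgSp1 hxs)).2 hxs) ?_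
  refine isQuasiCompactMor_of_affine_test hU' isAlgStack_selfOver fun V hV y => ?_
  refine isQuasiCompact_of_isEquivOver (isAlgStack_of_repByAlgSp (repByAlgSp_prod_overCat V U))
    (isAlgStack_fp isAlgStack_selfOver.isStack isAlgStack_selfOver.diag (isAlgStack_overCat V) hU' y _)
    (isEquivOver_fpCongr (selfIso _ y) (Iso.refl _)) (isQuasiCompact_prod_overCat V U)

theorem isQuasiCompactMor_of_qc_qs [QuasiSeparatedSpace S]
    (hX : AlgSt.IsAlgStack Scheme.fppfPrecoverage 𝒳) (hY : AlgSt.IsAlgStack Scheme.fppfPrecoverage 𝒴)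
    (f : 𝒳 ⥤ᵇ 𝒴) (h : AlgSt.IsQuasiCompact 𝒳) (hY' : AlgSt.IsQuasiSeparatedOver 𝒴) :
    AlgSt.IsQuasiCompactMor Scheme.fppfPrecoverage f :=
  isQuasiCompactMor_of_comp hX hY isAlgStack_selfOver (g := FibCat.toSelf 𝒴)
    (isQuasiCompactMor_of_isSurjective hX hX isAlgStack_selfOver (f := BasedFunctor.id 𝒳)
      (p := FibCat.toSelf 𝒳) (selfIso _ _) (fun z => ⟨z, map_id z⟩)
      (isQuasiCompactMor_toSelf hX h)) hY'

theorem isQuasiSeparatedOver_fp (hX : AlgSt.IsAlgStack Scheme.fppfPrecoverage 𝒳)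
    (hY : AlgSt.IsAlgStack Scheme.fppfPrecoverage 𝒴) (hZ : AlgSt.IsAlgStack Scheme.fppfPrecoverage 𝒵)
    (a : 𝒳 ⥤ᵇ 𝒴) (b : 𝒵 ⥤ᵇ 𝒴) (hX' : AlgSt.IsQuasiSeparatedOver 𝒳)
    (hY' : AlgSt.IsQuasiSeparatedOver 𝒴) (hZ' : AlgSt.IsQuasiSeparatedOver 𝒵) :
    AlgSt.IsQuasiSeparatedOver (FibCat.fp a b) := by
  have hd : AlgSt.RepByAlgSpWith (AlgSp.IsQuasiCompactMor ⊓ AlgSp.IsQuasiSeparatedMor)
      (FibCat.diag b) := by
    refine repWith_of_comp_cancel' hZ.isStack.1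
      (isFibGrpd_fp hZ.isStack.1 hZ.isStack.1 hY.isStack.1)
      (stableBaseChange_inf stableBaseChange_qc stableBaseChange_qs)
      (stableBaseChange_inf stableBaseChange_qc stableBaseChange_qs)
      (fun _ _ _ h₁ h₂ h₃ f g hg hfg => qcqs_of_comp h₁ h₂ h₃ f g hg.2 hfg)
      (repByAlgSp1_diag_of_diag hZ.isStack.1 hY.isStack.1 hZ.diag hY.diag b)
      (g := fpPost b b (FibCat.toSelf 𝒴)) (repWith_fpPost hY') ?_
    exact repWith_of_iso (nonempty_diag_comp_iso b (FibCat.toSelf 𝒴)).some.symm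
      (repWith_diag_of_iso (selfIso _ _) hZ')
  exact repWith_diag_of_iso (selfIso _ _)
    (repWith_diag_comp (f := FibCat.fpFst a b) (g := FibCat.toSelf 𝒳)
      (isFibGrpd_fp hX.isStack.1 hZ.isStack.1 hY.isStack.1) hX.isStack.1
      (stableBaseChange_inf stableBaseChange_qc stableBaseChange_qs)
      (stableComp_inf stableComp_qc stableComp_qs)
      (descendsAlongAtlas_of_isLocalOnBase
        (isLocalOnBase_inf isLocalOnBase_fppf_qc isLocalOnBase_fppf_qs))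
      (repWith_diag_fpFst a hd) hX')

end Groth.AlgStBasic
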