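import Groth.Agent.AlgStBasic.TrivialInertia
import Groth.Agent.Reductive.UnramFibre

/-!
# Stacks with trivial stabilizers at field-valued points
-/

set_option autoImplicit false
set_option backward.isDefEq.respectTransparency false
set_option backward.isDefEq.respectTransparency.types false

universe u

open CategoryTheory CategoryTheory.Limits AlgebraicGeometry Opposite
open Groth.StkBase Groth.AlgSpBasic

namespace Groth.AlgStBasic

noncomputable section

variable {S : Scheme.{u}} {𝒳 𝒴 : AlgSt.Cat S}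

/-- Objects pulled back from field-valued objects have no automorphisms killed by `f`. -/
def TrivialFieldAut (f : 𝒳 ⥤ᵇ 𝒴) : Prop :=
  ∀ (k : Type u) [Field k] (sk : Spec (CommRingCat.of k) ⟶ S)
    (x : FibCat.overCat (Over.mk sk) ⥤ᵇ 𝒳) (T : Over (Over.mk sk)) (φ : x.obj T ⟶ x.obj T),
      IsVert 𝒳.p φ → f.map φ = 𝟙 (f.obj (x.obj T)) → φ = 𝟙 (x.obj T)

/-- The base change of the inertia has the neutral section. -/
theorem exists_inertia_section (f : 𝒳 ⥤ᵇ 𝒴) {U K : Over S} (g₀ : K ⟶ U)
    (y : FibCat.overCat U ⥤ᵇ 𝒳) (F : AlgSp.Sp S)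
    (e : AlgSt.ofSp F ⥤ᵇ FibCat.fp y (FibCat.inertiaToBase f)) (he : FibCat.IsEquivOver e) :
    ∃ s : F.obj.obj (op K),
      (AlgSt.spMapOfOver (BasedFunctor.comp e (FibCat.fpFst y (FibCat.inertiaToBase f)))).hom.app
        (op K) s = ⟨g₀⟩ := by
  let Φ := BasedFunctor.comp e (FibCat.fpFst y (FibCat.inertiaToBase f))
  let o : (FibCat.overCat U).obj := Over.mk g₀
  let N : (FibCat.inertia f).obj := ⟨y.obj o, Iso.refl _, f.toFunctor.map_id _⟩
  obtain ⟨⟨K', σ⟩, i, hi⟩ := exists_vert_preimage he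
    (fpMk (F := y) (G := FibCat.inertiaToBase f) o N (Iso.refl _) (isVert_id _))
  have hb : K' = K := (Φ.w_obj ⟨K', σ⟩).symm.trans hi.obj_eq
  subst hb
  refine ⟨σ, ?_⟩
  rw [AlgSt.spMapOfOver_app]
  apply ULift.ext
  show eqToHom (Φ.w_obj ⟨K', σ⟩).symm ≫ (Φ.obj ⟨K', σ⟩).hom = g₀
  have hw : i.hom.hom.fst.left ≫ g₀ = (Φ.obj ⟨K', σ⟩).hom := Over.w i.hom.hom.fst
  have hl : i.hom.hom.fst.left = eqToHom hi.obj_eq := hi.map_eq
  rw [← hw, hl]
  simp

theorem eq_sections_of_trivialFieldAut {f : 𝒳 ⥤ᵇ 𝒴} (h : TrivialFieldAut f) {U T : Over S}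
    {k : Type u} [Field k] {sk : Spec (CommRingCat.of k) ⟶ S} (c : T ⟶ Over.mk sk)
    (t : Over.mk sk ⟶ U) (y : FibCat.overCat U ⥤ᵇ 𝒳) (F : AlgSp.Sp S)
    (e : AlgSt.ofSp F ⥤ᵇ FibCat.fp y (FibCat.inertiaToBase f)) (he : FibCat.IsEquivOver e)
    (a b : (AlgSp.yon S).obj T ⟶ F)
    (ha : a ≫ AlgSt.spMapOfOver (BasedFunctor.comp e (FibCat.fpFst y (FibCat.inertiaToBase f))) =
      (AlgSp.yon S).map (c ≫ t))
    (hb : b ≫ AlgSt.spMapOfOver (BasedFunctor.comp e (FibCat.fpFst y (FibCat.inertiaToBase f))) =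
      (AlgSp.yon S).map (c ≫ t)) : a = b := by
  apply yEquiv.injective
  have hyon : yEquiv ((AlgSp.yon S).map (c ≫ t)) = (⟨c ≫ t⟩ : ULift (T ⟶ U)) :=
    by rfl
  refine eq_of_trivial_aut f (c ≫ t) y (fun o ho hc φ hv hf => ?_) F e he _ _
    ((((AlgSp.J S).uliftYonedaEquiv_comp a _).symm.trans (congrArg yEquiv ha)).trans hyon)
    ((((AlgSp.J S).uliftYonedaEquiv_comp b _).symm.trans (congrArg yEquiv hb)).trans hyon)
  obtain ⟨ol, ⟨⟨⟩⟩, oh⟩ := o
  change ol = T at ho
  subst ho
  have : oh = c ≫ t := (Category.id_comp _).symm.trans hc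
  subst this
  exact h k sk (BasedFunctor.comp (AlgSt.overMap t) y) (Over.mk c) φ hv hf

/-- With trivial stabilizers at field-valued points, the inertia is unramified. -/
theorem locP_unramified_of_trivialFieldAut {f : 𝒳 ⥤ᵇ 𝒴} (h : TrivialFieldAut f) {U : Over S}
    (y : FibCat.overCat U ⥤ᵇ 𝒳) (F : AlgSp.Space S)
    (e : AlgSt.ofSp F.obj ⥤ᵇ FibCat.fp y (FibCat.inertiaToBase f)) (he : FibCat.IsEquivOver e)
    (hl : AlgSp.LocP @LocallyOfFiniteType
      (AlgSt.spMapOfOver (BasedFunctor.comp e (FibCat.fpFst y (FibCat.inertiaToBase f))))) :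
    AlgSp.LocP ((@LocallyOfFiniteType : MorphismProperty Scheme.{u}) ⊓ @FormallyUnramified)
      (AlgSt.spMapOfOver (BasedFunctor.comp e (FibCat.fpFst y (FibCat.inertiaToBase f)))) := by
  intro W V a b l ha hb comm
  have hlft : LocallyOfFiniteType l.left := hl a b l ha hb comm
  refine ⟨hlft, ?_⟩
  obtain ⟨b', hb'⟩ := (AlgSp.yon S).map_surjective b
  let c : W ⟶ U := l ≫ b'
  have hc : a ≫ AlgSt.spMapOfOver (BasedFunctor.comp e (FibCat.fpFst y (FibCat.inertiaToBase f))) =
      (AlgSp.yon S).map c := by rw [comm, Functor.map_comp, hb']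
  have hb'e : Etale b'.left := (AlgSp.repWith_yon_map_iff _ b').1 (by rw [hb']; exact hb)
  have hclft : LocallyOfFiniteType c.left := inferInstanceAs (LocallyOfFiniteType (l.left ≫ b'.left))
  have key : FormallyUnramified c.left := by
    refine Groth.Reductive.formallyUnramified_of_fibres c.left fun p => ?_
    let sk : Spec (U.left.residueField p) ⟶ S := U.left.fromSpecResidueField p ≫ U.hom
    let t : Over.mk sk ⟶ U := Over.homMk (U.left.fromSpecResidueField p) rfl
    obtain ⟨s, hs⟩ := exists_inertia_section f t y F.obj e he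
    let σ : (AlgSp.yon S).obj (Over.mk sk) ⟶ F.obj := yEquiv.symm s
    have hσ : σ ≫ AlgSt.spMapOfOver (BasedFunctor.comp e (FibCat.fpFst y (FibCat.inertiaToBase f))) =
        (AlgSp.yon S).map t := by
      apply yEquiv.injective
      refine ((AlgSp.J S).uliftYonedaEquiv_comp σ _).trans ?_
      erw [Equiv.apply_symm_apply]
      exact hs.trans (ULift.ext _ _ (Category.id_comp _).symm)
    obtain ⟨Z, z₂, fst, sq⟩ := ha.rep σ
    obtain ⟨z₁, rfl⟩ := (AlgSp.yon S).map_surjective fst
    have het : Etale z₂.left := ha.property σ _ z₂ sq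
    have wZ : z₁ ≫ c = z₂ ≫ t := (AlgSp.yon S).map_injective (by
      refine ((AlgSp.yon S).map_comp z₁ c).trans (Eq.trans ?_ ((AlgSp.yon S).map_comp z₂ t).symm)
      rw [← hc, ← hσ, ← Category.assoc, ← Category.assoc, sq.w])
    have lift_eq : ∀ {T : Over S} (w : T ⟶ W) (v : T ⟶ Over.mk sk), w ≫ c = v ≫ t →
        (AlgSp.yon S).map w ≫ a = (AlgSp.yon S).map v ≫ σ := fun {T} w v hwv =>
      eq_sections_of_trivialFieldAut h v t y F.obj e he _ _
        (by rw [Category.assoc, hc, ← Functor.map_comp, hwv])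
        (by rw [Category.assoc, hσ, ← Functor.map_comp])
    have sqO : IsPullback z₁ z₂ c t := by
      refine IsPullback.of_isLimit (PullbackCone.IsLimit.mk wZ
        (fun q => ((AlgSp.yon S).map_surjective
          (sq.lift _ _ (lift_eq q.fst q.snd q.condition))).choose)
        (fun q => ?_) (fun q => ?_) (fun q m hm₁ hm₂ => ?_))
      · apply (AlgSp.yon S).map_injective
        rw [Functor.map_comp, Exists.choose_spec ((AlgSp.yon S).map_surjective
          (sq.lift _ _ (lift_eq q.fst q.snd q.condition))), sq.lift_fst]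
      · apply (AlgSp.yon S).map_injective
        rw [Functor.map_comp, Exists.choose_spec ((AlgSp.yon S).map_surjective
          (sq.lift _ _ (lift_eq q.fst q.snd q.condition))), sq.lift_snd]
      · apply (AlgSp.yon S).map_injective
        rw [Exists.choose_spec ((AlgSp.yon S).map_surjective
          (sq.lift _ _ (lift_eq q.fst q.snd q.condition)))]
        apply sq.hom_ext
        · rw [sq.lift_fst, ← Functor.map_comp, hm₁]
        · rw [sq.lift_snd, ← Functor.map_comp, hm₂]
    have sq₀ : IsPullback z₁.left z₂.left c.left (U.left.fromSpecResidueField p) :=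
      sqO.map (Over.forget S)
    have hz : FormallyUnramified z₂.left := inferInstance
    show FormallyUnramified (pullback.snd c.left (U.left.fromSpecResidueField p))
    rw [← sq₀.isoPullback_inv_snd]
    exact (MorphismProperty.cancel_left_of_respectsIso @FormallyUnramified _ _).2 hz
  exact @FormallyUnramified.of_comp _ _ _ l.left b'.left key

/-- Trivial stabilizers at field-valued points force faithfulness. -/
theorem faithful_of_trivialFieldAut (hX : FibCat.IsFibGrpd 𝒳.p) (hY : FibCat.IsFibGrpd 𝒴.p)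
    {f : 𝒳 ⥤ᵇ 𝒴} (hl : AlgSt.RepByAlgSpWith (AlgSp.LocP @LocallyOfFiniteType) (FibCat.inertiaToBase f))
    (h : TrivialFieldAut f) : f.toFunctor.Faithful := by
  refine faithful_of_isMono_inertia hX hY f fun U y => ?_
  obtain ⟨F, e, he⟩ := repWith_repByAlgSp1 hl U y
  refine ⟨F, e, he, ?_⟩
  refine mono_of_unramified_of_surjective_diagonal F.property (AlgSp.IsAlgSpace.yon_obj U)
    (locP_unramified_of_trivialFieldAut h y F e he
      (prop_of_repWith_fp stableBaseChange_locP hl y F e he))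
    (surjective_diagonal_of_injective_algClosed fun K _ _ str a b hab => ?_)
  obtain ⟨t, ht⟩ := (AlgSp.yon S).map_surjective
    (a ≫ AlgSt.spMapOfOver (BasedFunctor.comp e (FibCat.fpFst y (FibCat.inertiaToBase f))))
  exact eq_sections_of_trivialFieldAut h (𝟙 _) t y F.obj e he a b
    (by rw [Category.id_comp, ht]) (by rw [Category.id_comp, ht]; exact hab.symm)

/-- A stack for a topology between etale and fppf, with trivial stabilizers, is a space. -/
theorem repByAlgSp_of_trivialFieldAut {𝒳 : AlgSt.Cat S}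
    (hX : AlgSt.IsAlgStack Scheme.etalePrecoverage 𝒳) (h : TrivialFieldAut (FibCat.toSelf 𝒳)) :
    AlgSt.RepByAlgSp 𝒳 := by
  have hf := faithful_of_trivialFieldAut hX.isStack.1 isFibGrpd_selfOver
    (repWith_inertiaToBase _ (repWith_lft_diag_toSelf' hX.isStack.1 hX.diag hX.atlas)) h
  exact repByAlgSp_of_setoid_etale_atlas
    ((isFibSetoid_iff_faithful_toSelf hX.isStack.1).2 hf) hX.isStack hX.atlas

end

end Groth.AlgStBasic
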