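import Groth.Agent.AlgStBasic.RepCriteria
import Groth.Agent.AlgSpBasic.UnramifiedMono
import Groth.Agent.AlgStBasic.Permanence

/-!
# Unramified inertia without geometric automorphisms is trivial
-/

set_option autoImplicit false
set_option backward.isDefEq.respectTransparency false
set_option backward.isDefEq.respectTransparency.types false

universe u

open CategoryTheory CategoryTheory.Limits AlgebraicGeometry Opposite
open Groth.StkBase Groth.AlgSpBasic

namespace Groth.AlgStBasic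

variable {S : Scheme.{u}} {𝒳 𝒴 : AlgSt.Cat S}

/-- Sections of the base change of the inertia over a test object without automorphisms are unique. -/
theorem eq_of_trivial_aut (f : 𝒳 ⥤ᵇ 𝒴) {U K : Over S} (g₀ : K ⟶ U)
    (y : FibCat.overCat U ⥤ᵇ 𝒳)
    (h : ∀ (o : (FibCat.overCat U).obj) (ho : o.left = K), eqToHom ho.symm ≫ o.hom = g₀ →
      ∀ φ : y.obj o ⟶ y.obj o,
        IsVert 𝒳.p φ → f.map φ = 𝟙 (f.obj (y.obj o)) → φ = 𝟙 _)
    (F : AlgSp.Sp S)
    (e : AlgSt.ofSp F ⥤ᵇ FibCat.fp y (FibCat.inertiaToBase f)) (he : FibCat.IsEquivOver e)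
    (s t : F.obj.obj (op K))
    (hs₀ : (AlgSt.spMapOfOver (BasedFunctor.comp e (FibCat.fpFst y (FibCat.inertiaToBase f)))).hom.app
        (op K) s = ⟨g₀⟩)
    (ht₀ : (AlgSt.spMapOfOver (BasedFunctor.comp e (FibCat.fpFst y (FibCat.inertiaToBase f)))).hom.app
        (op K) t = ⟨g₀⟩) : s = t := by
  let Φ := BasedFunctor.comp e (FibCat.fpFst y (FibCat.inertiaToBase f))
  let a : (AlgSt.ofSp F).obj := ⟨K, s⟩
  let b : (AlgSt.ofSp F).obj := ⟨K, t⟩
  have ha₀ : AlgSt.secHom Φ a = g₀ := congrArg ULift.down hs₀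
  have hb₀ : AlgSt.secHom Φ b = g₀ := congrArg ULift.down ht₀
  have hs : AlgSt.secHom Φ a = AlgSt.secHom Φ b := ha₀.trans hb₀.symm
  let A := e.obj a
  let B := e.obj b
  let g : A.obj.fst.left ⟶ B.obj.fst.left := eqToHom ((Φ.w_obj a).trans (Φ.w_obj b).symm)
  let ψ : A.obj.fst ⟶ B.obj.fst := Over.homMk g (by
    simp only [AlgSt.secHom] at hs
    rw [← cancel_epi (eqToHom (Φ.w_obj a).symm)]
    simpa [g, Φ] using hs.symm)
  have haut : ∀ (C : (FibCat.fp y (FibCat.inertiaToBase f)).obj) (ho : C.obj.fst.left = K),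
      eqToHom ho.symm ≫ C.obj.fst.hom = g₀ → C.obj.snd.aut.hom = 𝟙 _ := fun C ho hc => by
    let i : y.obj C.obj.fst ≅ C.obj.snd.pt := C.obj.iso
    have hi : IsVert 𝒳.p i.hom := fp_isVert C
    have hv : IsVert 𝒳.p C.obj.snd.aut.hom :=
      isVert_of_map (F := f) (by rw [C.obj.snd.map_aut]; exact isVert_id _)
    have := h C.obj.fst ho hc (i.hom ≫ C.obj.snd.aut.hom ≫ i.inv) (hi.comp (hv.comp hi.inv))
      (by rw [Functor.map_comp, Functor.map_comp, C.obj.snd.map_aut]
          erw [Category.id_comp]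
          rw [← Functor.map_comp, Iso.hom_inv_id]
          exact f.toFunctor.map_id _)
    rw [← cancel_epi i.hom, ← cancel_mono i.inv, Category.comp_id, Category.assoc, this]
    exact i.hom_inv_id.symm
  let m : A.obj.snd.pt ⟶ B.obj.snd.pt := A.obj.iso.inv ≫ y.map ψ ≫ B.obj.iso.hom
  let χ : A.obj.snd ⟶ B.obj.snd := ⟨m, by
    rw [haut A (Φ.w_obj a) ha₀, haut B (Φ.w_obj b) hb₀]
    exact (Category.id_comp m).trans (Category.comp_id m).symm⟩
  let ν : A ⟶ B := fpHom ψ χ (by
    show y.map ψ ≫ B.obj.iso.hom = A.obj.iso.hom ≫ m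
    rw [Iso.hom_inv_id_assoc])
  have := full_of_isEquivOver he
  obtain ⟨φ, hφ⟩ := e.toFunctor.map_surjective ν
  have h1 : (e.map φ).hom.fst.left = eqToHom (Φ.w_obj a) ≫ φ.hom ≫ eqToHom (Φ.w_obj b).symm :=
    map_map Φ φ
  rw [hφ] at h1
  have h2 : φ.hom = 𝟙 K := by
    rw [← cancel_epi (eqToHom (Φ.w_obj a)), ← cancel_mono (eqToHom (Φ.w_obj b).symm)]
    rw [Category.assoc, ← h1]
    erw [Category.comp_id]
    simp [ν, ψ, g, fpHom]
  have h3 : F.obj.map φ.hom.op t = s := φ.map_sec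
  rw [← h3]
  exact map_op_id F.obj _ h2 t

/-- A morphism whose inertia is a monomorphism over the source is faithful. -/
theorem faithful_of_isMono_inertia (hX : FibCat.IsFibGrpd 𝒳.p) (hY : FibCat.IsFibGrpd 𝒴.p)
    (f : 𝒳 ⥤ᵇ 𝒴) (hm : AlgSt.IsMono (FibCat.inertiaToBase f)) : f.toFunctor.Faithful := by
  have hI' : FibCat.IsFibGrpd (FibCat.inertia f).p :=
    (isFibGrpd_iff_of_isEquivOver (isEquivOver_inertiaToFp f)).2
      (isFibGrpd_fp hX hX (isFibGrpd_fp hX hX hY))
  have := (fullyFaithful_of_isMono hI' hX (FibCat.inertiaToBase f) hm).1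
  rw [faithful_iff_kernel hX hY]
  intro a φ h₁ h₂
  have : IsIso φ := (show IsVert 𝒳.p φ from ⟨rfl, h₁.trans (eqToHom_refl _ _).symm⟩).isIso hX
  let x : (FibCat.inertia f).obj := ⟨a, asIso φ, h₂⟩
  let y : (FibCat.inertia f).obj := ⟨a, Iso.refl a, f.toFunctor.map_id a⟩
  obtain ⟨g, hg⟩ := (FibCat.inertiaToBase f).toFunctor.map_surjective (X := x) (Y := y) (𝟙 a)
  have hg' : g.hom = 𝟙 a := hg
  have := g.comm
  rw [hg'] at this
  simpa [x, y] using this

/-- The inertia with unramified projection and no automorphisms of geometric objects is trivial. -/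
theorem faithful_of_trivial_geometric_aut (hX : FibCat.IsFibGrpd 𝒳.p) (hY : FibCat.IsFibGrpd 𝒴.p)
    (f : 𝒳 ⥤ᵇ 𝒴)
    (hI : AlgSt.RepByAlgSpWith (AlgSp.LocP
      ((@LocallyOfFiniteType : MorphismProperty Scheme.{u}) ⊓ @FormallyUnramified))
      (FibCat.inertiaToBase f))
    (h : ∀ (k : Type u) [Field k] [IsAlgClosed k] (s : Spec (CommRingCat.of k) ⟶ S) (a : 𝒳.obj),
      𝒳.p.obj a = Over.mk s → ∀ φ : a ⟶ a,
        𝒳.p.map φ = 𝟙 (𝒳.p.obj a) → f.map φ = 𝟙 (f.obj a) → φ = 𝟙 a) :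
    f.toFunctor.Faithful := by
  have hm : AlgSt.IsMono (FibCat.inertiaToBase f) := fun U y => by
    obtain ⟨F, e, he⟩ := repWith_repByAlgSp1 hI U y
    refine ⟨F, e, he, ?_⟩
    refine mono_of_unramified_of_surjective_diagonal F.property (AlgSp.IsAlgSpace.yon_obj U)
      (prop_of_repWith_fp stableBaseChange_locP hI y F e he)
      (surjective_diagonal_of_injective_algClosed fun K _ _ str s t hst => ?_)
    apply yEquiv.injective
    let π := AlgSt.spMapOfOver (BasedFunctor.comp e (FibCat.fpFst y (FibCat.inertiaToBase f)))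
    let w := (π.hom.app _ (yEquiv s) : ((AlgSp.yon S).obj U).obj.obj (op (Over.mk str)))
    refine eq_of_trivial_aut f w.down y (fun o ho _ φ hv => h K str (y.obj o)
      ((y.w_obj o).trans ho) φ (hv.map_eq.trans (eqToHom_refl _ _))) F.obj e he _ _ rfl ?_
    exact (((AlgSp.J S).uliftYonedaEquiv_comp s _).symm.trans
      ((congrArg yEquiv hst).trans ((AlgSp.J S).uliftYonedaEquiv_comp t _))).symm
  exact faithful_of_isMono_inertia hX hY f hm

end Groth.AlgStBasic

namespace Groth.AlgStBasic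

variable {S : Scheme.{u}} {𝒳 𝒴 : AlgSt.Cat S}

/-- A property of the diagonal over the base passes to the diagonal of a morphism. -/
theorem repWith_diag_of_diag_toSelf (hX : FibCat.IsFibGrpd 𝒳.p) (hY : FibCat.IsFibGrpd 𝒴.p)
    {P : MorphismProperty (AlgSp.Sp S)} (hb : StableBaseChange P) (hc : CancelRight P)
    (hYd : AlgSt.RepByAlgSp1 (FibCat.diag (FibCat.toSelf 𝒴))) (f : 𝒳 ⥤ᵇ 𝒴)
    (h : AlgSt.RepByAlgSpWith P (FibCat.diag (FibCat.toSelf 𝒳))) :
    AlgSt.RepByAlgSpWith P (FibCat.diag f) :=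
  repWith_diag_of_comp (g := FibCat.toSelf 𝒴) hX hY hb hc
    (repByAlgSp1_diag_of_diag hX hY (repWith_repByAlgSp1 h) hYd f) hYd
    (by
      let T := BasedFunctor.comp f (FibCat.toSelf 𝒴)
      let σ : FibCat.toSelf 𝒳 ≅ T := selfIso _ _
      refine repWith_of_iso (f := BasedFunctor.comp (FibCat.diag (FibCat.toSelf 𝒳)) (fpCongr σ σ))
        ?_ ((repWith_postcomp_equiv _ (isEquivOver_fpCongr σ σ)).2 h)
      exact fpIsoMk (Iso.refl _) (Iso.refl _) fun _ =>
        self_ext ((isVert_map (isVert_id _)).comp (fp_isVert _))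
          ((fp_isVert _).comp (isVert_map (isVert_id _))))

/-- The diagonal over the base of a Deligne–Mumford stack is unramified. -/
theorem repWith_unramified_diag_of_isDM (hX : AlgSt.IsDM Scheme.fppfPrecoverage 𝒳) :
    AlgSt.RepByAlgSpWith (AlgSp.LocP
      ((@LocallyOfFiniteType : MorphismProperty Scheme.{u}) ⊓ @FormallyUnramified))
      (FibCat.diag (FibCat.toSelf 𝒳)) := by
  obtain ⟨U, x, hx, hxs⟩ := hX.2
  have hl : AlgSt.RepByAlgSpWith (AlgSp.LocP @Etale) x :=
    repWith_mono (fun _ _ _ _ _ hf => locP_of_isEtaleMor hf) hx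
  exact repWith_diag_toSelf_of_cover (fun _ _ _ a b hab => by
      obtain ⟨_, _⟩ := hab
      exact ⟨locallyOfFiniteType_of_comp a b, FormallyUnramified.of_comp a b⟩)
    hX.1 (repByAlgSp_overCat U)
    (repWith_mono (fun _ _ _ _ _ hf => locP_mono (fun _ _ g (_ : Etale g) => (inferInstance : Flat g)) hf) hl)
    (repWith_mono (fun _ _ _ _ _ hf => locP_mono
      (fun _ _ g (_ : Etale g) => (inferInstance : LocallyOfFinitePresentation g)) hf) hl)
    hxs (repWith_mono (fun _ _ _ _ _ hf => locP_mono etale_le_unramified hf) hl)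

end Groth.AlgStBasic

namespace Groth.AlgStBasic

/-- Cancellation for unramified morphisms of algebraic spaces. -/
theorem cancelRight_locP_unramified {S : Scheme.{u}} :
    CancelRight (AlgSp.LocP (S := S)
      ((@LocallyOfFiniteType : MorphismProperty Scheme.{u}) ⊓ @FormallyUnramified)) :=
  cancelRight_locP fun _ _ _ a b hab => by
    obtain ⟨_, _⟩ := hab
    exact ⟨locallyOfFiniteType_of_comp a b, FormallyUnramified.of_comp a b⟩

end Groth.AlgStBasic
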